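/-
Tensor powers of an orthogonal space: pure vectors, the form, pure maps and the splitting at one factor.
-/
import Cfsg.Agent.Lib.Geo.TensorWreath.Pure
import Cfsg.Agent.Lib.Geo.OrthTensor.Siegel

set_option autoImplicit false
set_option linter.unusedSectionVars false

namespace CfsgLib.Geo.OrthWreath

open CfsgLib.Classical CfsgLib.Classical.Quad Module
open CfsgLib.Geo.MixTensor (SymForm)
open CfsgLib.Geo.TensorWreath (pvec ctr ctr_pvec pure_mulVec perm_mulVec)
open QuadraticMap (polar polarBilin)
open LinearMap (BilinForm)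

/-- One factor. -/
abbrev Ud (F : Type*) (k : ℕ) := Fin k → F

/-- A tensor power. -/
abbrev Vt (F : Type*) (k t : ℕ) := (Fin t → Fin k) → F

variable {F : Type*} [Field F] {k t : ℕ}

/-! ### Pure vectors -/

theorem pvec_single (a : Fin t → Fin k) :
    pvec (fun l => (Pi.single (a l) (1 : F) : Ud F k)) = Pi.single a 1 := by
  funext c
  by_cases h : c = a
  · subst h
    simp [pvec]
  · obtain ⟨l, hl⟩ := Function.ne_iff.1 h
    rw [Pi.single_eq_of_ne h]
    exact Finset.prod_eq_zero (Finset.mem_univ l) (by simp [hl])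

theorem pvec_ext {M : Type*} [AddCommGroup M] [Module F M] {L L' : Vt F k t →ₗ[F] M}
    (h : ∀ ξ, L (pvec ξ) = L' (pvec ξ)) : L = L' := by
  classical
  refine (Pi.basisFun F (Fin t → Fin k)).ext fun a => ?_
  rw [Pi.basisFun_apply, ← pvec_single]
  exact h _

theorem span_pvec : Submodule.span F (Set.range (pvec : (Fin t → Ud F k) → Vt F k t)) = ⊤ := by
  classical
  refine eq_top_iff.2 ((Pi.basisFun F (Fin t → Fin k)).span_eq.ge.trans (Submodule.span_mono ?_))
  rintro _ ⟨a, rfl⟩
  exact ⟨fun l => Pi.single (a l) 1, by rw [pvec_single, Pi.basisFun_apply]⟩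

theorem pvec_eq_zero_iff {ξ : Fin t → Ud F k} : pvec ξ = 0 ↔ ∃ l, ξ l = 0 := by
  constructor
  · intro h
    by_contra! hc
    choose c hc using fun l => Function.ne_iff.1 (hc l)
    exact Finset.prod_ne_zero_iff.2 (fun l _ => hc l) (congrFun h c)
  · rintro ⟨l, hl⟩
    funext c
    exact Finset.prod_eq_zero (Finset.mem_univ l) (by rw [hl]; rfl)

theorem pvec_update_smul (ξ : Fin t → Ud F k) (l : Fin t) (c : F) (u : Ud F k) :
    pvec (Function.update ξ l (c • u)) = c • pvec (Function.update ξ l u) := by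
  funext a
  simp only [Pi.smul_apply, smul_eq_mul, pvec]
  rw [← Finset.mul_prod_erase _ _ (Finset.mem_univ l), ← Finset.mul_prod_erase _ _ (Finset.mem_univ l)]
  simp only [Function.update_self, Pi.smul_apply, smul_eq_mul, ← mul_assoc]
  congr 1
  exact Finset.prod_congr rfl fun j hj => by simp [Function.update_of_ne (Finset.mem_erase.1 hj).1]

theorem pvec_update_add (ξ : Fin t → Ud F k) (l : Fin t) (u v : Ud F k) :
    pvec (Function.update ξ l (u + v)) = pvec (Function.update ξ l u) + pvec (Function.update ξ l v) := by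
  funext a
  simp only [Pi.add_apply, pvec]
  rw [← Finset.mul_prod_erase _ _ (Finset.mem_univ l), ← Finset.mul_prod_erase _ _ (Finset.mem_univ l),
    ← Finset.mul_prod_erase _ _ (Finset.mem_univ l)]
  simp only [Function.update_self, Pi.add_apply, add_mul]
  congr 2 <;>
    exact Finset.prod_congr rfl fun j hj => by simp [Function.update_of_ne (Finset.mem_erase.1 hj).1]

theorem pvec_smul_all (ξ : Fin t → Ud F k) (c : Fin t → F) :
    pvec (fun l => c l • ξ l) = (∏ l, c l) • pvec ξ := by
  funext a
  simp [pvec, Finset.prod_mul_distrib]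

/-! ### The form -/

/-- The form on the tensor power. -/
noncomputable def frm (f : BilinForm F (Ud F k)) (t : ℕ) : BilinForm F (Vt F k t) :=
  Matrix.toBilin' (SpinTensor.pure fun _ : Fin t => LinearMap.BilinForm.toMatrix' f)

theorem frm_pvec (f : BilinForm F (Ud F k)) (ξ η : Fin t → Ud F k) :
    frm f t (pvec ξ) (pvec η) = ∏ l, f (ξ l) (η l) := by
  rw [frm, Matrix.toBilin'_apply', pure_mulVec]
  refine (ctr_pvec ξ _).trans (Finset.prod_congr rfl fun l _ => ?_)
  rw [← Matrix.toBilin'_apply', Matrix.toBilin'_toMatrix']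

theorem frm_ext {g g' : BilinForm F (Vt F k t)} (h : ∀ ξ η, g (pvec ξ) (pvec η) = g' (pvec ξ) (pvec η)) :
    g = g' :=
  pvec_ext fun ξ => pvec_ext fun η => h ξ η

/-- The quadratic form of a factor. -/
noncomputable def qU (f : BilinForm F (Ud F k)) : QuadraticForm F (Ud F k) :=
  (2⁻¹ : F) • LinearMap.BilinMap.toQuadraticMap f

/-- The quadratic form of the tensor power. -/
noncomputable def qT (f : BilinForm F (Ud F k)) (t : ℕ) : QuadraticForm F (Vt F k t) :=
  (2⁻¹ : F) • LinearMap.BilinMap.toQuadraticMap (frm f t)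

variable {f : BilinForm F (Ud F k)} (hf : SymForm f)
include hf

theorem frm_symm (v w : Vt F k t) : frm f t w v = frm f t v w := by
  have h : (frm f t).flip = frm f t := frm_ext fun ξ η => by
    rw [LinearMap.BilinForm.flip_apply, frm_pvec, frm_pvec]
    exact Finset.prod_congr rfl fun l _ => hf.symm _ _
  exact LinearMap.congr_fun (LinearMap.congr_fun h v) w

theorem toMatrix_det_ne : (LinearMap.BilinForm.toMatrix' f).det ≠ 0 :=
  (LinearMap.BilinForm.nondegenerate_iff_det_ne_zero (Pi.basisFun F (Fin k))).1 hf.nd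

theorem frm_nondeg : (frm f t).Nondegenerate := by
  classical
  set G := LinearMap.BilinForm.toMatrix' f
  have h1 : SpinTensor.pure (fun _ : Fin t => G⁻¹) * SpinTensor.pure (fun _ : Fin t => G) = 1 := by
    rw [SpinTensor.pure_mul]
    simp only [Matrix.nonsing_inv_mul G (isUnit_iff_ne_zero.2 (toMatrix_det_ne hf))]
    exact SpinTensor.pure_one
  refine LinearMap.BilinForm.nondegenerate_toBilin'_iff_det_ne_zero.2 fun h0 => ?_
  have h2 := congrArg Matrix.det h1
  rw [Matrix.det_mul, h0, mul_zero, Matrix.det_one] at h2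
  exact zero_ne_one h2

theorem symForm_frm : SymForm (frm f t) := ⟨hf.two, frm_nondeg hf, frm_symm hf⟩

theorem polar_qT (v w : Vt F k t) : polar (qT f t) v w = frm f t v w := by
  have h2 := hf.two
  rw [qT, polar, smul_apply, smul_apply, smul_apply,
    LinearMap.BilinMap.toQuadraticMap_apply, LinearMap.BilinMap.toQuadraticMap_apply,
    LinearMap.BilinMap.toQuadraticMap_apply]
  simp only [map_add, LinearMap.add_apply, smul_eq_mul, frm_symm hf w v]
  field_simp
  ring

theorem polar_qU (v w : Ud F k) : polar (qU f) v w = f v w := by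
  have h2 := hf.two
  rw [qU, polar, smul_apply, smul_apply, smul_apply,
    LinearMap.BilinMap.toQuadraticMap_apply, LinearMap.BilinMap.toQuadraticMap_apply,
    LinearMap.BilinMap.toQuadraticMap_apply]
  simp only [map_add, LinearMap.add_apply, smul_eq_mul, hf.symm w v]
  field_simp
  ring

theorem qT_nd : (polarBilin (qT f t)).Nondegenerate := by
  rw [show polarBilin (qT f t) = frm f t from LinearMap.ext fun v => LinearMap.ext fun w => polar_qT hf v w]
  exact frm_nondeg hf

theorem qU_nd : (polarBilin (qU f)).Nondegenerate := by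
  rw [show polarBilin (qU f) = f from LinearMap.ext fun v => LinearMap.ext fun w => polar_qU hf v w]
  exact hf.nd

theorem preserves_qT {L : Vt F k t →ₗ[F] Vt F k t}
    (h : ∀ ξ η, frm f t (L (pvec ξ)) (L (pvec η)) = frm f t (pvec ξ) (pvec η)) (v : Vt F k t) :
    qT f t (L v) = qT f t v := by
  have e : (frm f t).compl₁₂ L L = frm f t := frm_ext h
  rw [qT, smul_apply, smul_apply, LinearMap.BilinMap.toQuadraticMap_apply,
    LinearMap.BilinMap.toQuadraticMap_apply]
  congr 1
  exact LinearMap.congr_fun (LinearMap.congr_fun e v) v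

theorem map_frm (g : OQ (qT f t)) (v w : Vt F k t) :
    frm f t ((g : Vt F k t ≃ₗ[F] Vt F k t) v) ((g : Vt F k t ≃ₗ[F] Vt F k t) w) = frm f t v w := by
  rw [← polar_qT hf, ← polar_qT hf, OQ.map_polar]

theorem map_f (u : OQ (qU f)) (v w : Ud F k) :
    f ((u : Ud F k ≃ₗ[F] Ud F k) v) ((u : Ud F k ≃ₗ[F] Ud F k) w) = f v w := by
  rw [← polar_qU hf, ← polar_qU hf, OQ.map_polar]

omit hf

theorem el_ext {g h : OQ (qT f t)}
    (e : ∀ ξ, (g : Vt F k t ≃ₗ[F] Vt F k t) (pvec ξ) = (h : Vt F k t ≃ₗ[F] Vt F k t) (pvec ξ)) : g = h :=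
  Subtype.ext (LinearEquiv.ext fun v => LinearMap.congr_fun
    (pvec_ext (L := ((g : Vt F k t ≃ₗ[F] Vt F k t) : Vt F k t →ₗ[F] Vt F k t))
      (L' := ((h : Vt F k t ≃ₗ[F] Vt F k t) : Vt F k t →ₗ[F] Vt F k t)) e) v)

/-! ### Pure maps -/

/-- A pure tensor of maps. -/
noncomputable def pmap (X : Fin t → Module.End F (Ud F k)) : Module.End F (Vt F k t) :=
  Matrix.toLin' (SpinTensor.pure fun l => LinearMap.toMatrix' (X l))

theorem pmap_pvec (X : Fin t → Module.End F (Ud F k)) (ξ : Fin t → Ud F k) :
    pmap X (pvec ξ) = pvec fun l => X l (ξ l) := by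
  rw [pmap, Matrix.toLin'_apply, pure_mulVec]
  simp only [LinearMap.toMatrix'_mulVec]

theorem pmap_mul (X Y : Fin t → Module.End F (Ud F k)) : pmap X * pmap Y = pmap (X * Y) :=
  pvec_ext fun ξ => by simp only [Module.End.mul_apply, pmap_pvec]; rfl

theorem pmap_one : pmap (1 : Fin t → Module.End F (Ud F k)) = 1 :=
  pvec_ext fun ξ => by simp only [pmap_pvec]; rfl

theorem pmap_eq_zero (X : Fin t → Module.End F (Ud F k)) (l : Fin t) (h : X l = 0) : pmap X = 0 :=
  pvec_ext fun ξ => by rw [pmap_pvec, LinearMap.zero_apply, pvec_eq_zero_iff.2 ⟨l, by rw [h]; rfl⟩]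

theorem pmap_update_add (X : Fin t → Module.End F (Ud F k)) (l : Fin t) (A B : Module.End F (Ud F k)) :
    pmap (Function.update X l (A + B)) = pmap (Function.update X l A) + pmap (Function.update X l B) :=
  pvec_ext fun ξ => by
    have h : ∀ C : Module.End F (Ud F k), (fun j => Function.update X l C j (ξ j)) =
        Function.update (fun j => X j (ξ j)) l (C (ξ l)) := fun C => by
      funext j; by_cases hj : j = l
      · subst hj; simp
      · simp [Function.update_of_ne hj]
    rw [LinearMap.add_apply, pmap_pvec, pmap_pvec, pmap_pvec, h, h, h, LinearMap.add_apply, pvec_update_add]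

theorem pmap_update_smul (X : Fin t → Module.End F (Ud F k)) (l : Fin t) (c : F) (A : Module.End F (Ud F k)) :
    pmap (Function.update X l (c • A)) = c • pmap (Function.update X l A) :=
  pvec_ext fun ξ => by
    have h : ∀ C : Module.End F (Ud F k), (fun j => Function.update X l C j (ξ j)) =
        Function.update (fun j => X j (ξ j)) l (C (ξ l)) := fun C => by
      funext j; by_cases hj : j = l
      · subst hj; simp
      · simp [Function.update_of_ne hj]
    rw [LinearMap.smul_apply, pmap_pvec, pmap_pvec, h, h, LinearMap.smul_apply, pvec_update_smul]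

/-- A map on one factor. -/
noncomputable def emb (l : Fin t) : Module.End F (Ud F k) →ₐ[F] Module.End F (Vt F k t) :=
  AlgHom.ofLinearMap
    { toFun := fun A => pmap (Function.update 1 l A)
      map_add' := fun A B => pmap_update_add 1 l A B
      map_smul' := fun c A => pmap_update_smul 1 l c A }
    (by
      show pmap (Function.update 1 l 1) = 1
      rw [show Function.update (1 : Fin t → Module.End F (Ud F k)) l 1 = 1 from Function.update_eq_self l 1, pmap_one])
    (fun A B => by
      show pmap (Function.update 1 l (A * B)) = pmap (Function.update 1 l A) * pmap (Function.update 1 l B)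
      rw [pmap_mul]
      congr 1
      funext j
      by_cases hj : j = l
      · subst hj; simp
      · simp [Function.update_of_ne hj])

theorem emb_eq (l : Fin t) (A : Module.End F (Ud F k)) : emb l A = pmap (Function.update 1 l A) := rfl

theorem emb_pvec (l : Fin t) (A : Module.End F (Ud F k)) (ξ : Fin t → Ud F k) :
    emb l A (pvec ξ) = pvec (Function.update ξ l (A (ξ l))) := by
  rw [emb_eq, pmap_pvec]
  congr 1
  funext j
  by_cases hj : j = l
  · subst hj; simp
  · simp [Function.update_of_ne hj]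

theorem emb_comm {l m : Fin t} (h : l ≠ m) (A B : Module.End F (Ud F k)) :
    Commute (emb l A) (emb m B) := by
  show emb l A * emb m B = emb m B * emb l A
  simp only [emb_eq, pmap_mul]
  congr 1
  funext j
  by_cases hl : j = l
  · subst hl; simp [Function.update_of_ne h]
  · simp [Function.update_of_ne hl]

/-- The map permuting the factors. -/
noncomputable def pperm (π : Equiv.Perm (Fin t)) : Module.End F (Vt F k t) := Matrix.toLin' (SpinTensor.perm π)

theorem pperm_pvec (π : Equiv.Perm (Fin t)) (ξ : Fin t → Ud F k) :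
    pperm π (pvec ξ) = pvec fun l => ξ (π⁻¹ l) := by
  rw [pperm, Matrix.toLin'_apply, perm_mulVec]

/-! ### The splitting at one factor -/

/-- The pure tensors at the factor `i`. -/
def Tm (i : Fin (t + 1)) : Ud F k →ₗ[F] Vt F k t →ₗ[F] Vt F k (t + 1) :=
  LinearMap.mk₂ F (fun u w a => u (a i) * w fun j => a (i.succAbove j))
    (fun u u' w => by funext a; simp [add_mul])
    (fun c u w => by funext a; simp [mul_assoc])
    (fun u w w' => by funext a; simp [mul_add])
    (fun c u w => by funext a; simp; ring)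

theorem Tm_apply (i : Fin (t + 1)) (u : Ud F k) (w : Vt F k t) (a : Fin (t + 1) → Fin k) :
    Tm i u w a = u (a i) * w fun j => a (i.succAbove j) := rfl

theorem Tm_pvec (i : Fin (t + 1)) (u : Ud F k) (η : Fin t → Ud F k) :
    Tm i u (pvec η) = pvec (i.insertNth u η) := by
  funext a
  rw [Tm_apply, pvec, pvec, Fin.prod_univ_succAbove _ i]
  simp

theorem pvec_eq_Tm (i : Fin (t + 1)) (ξ : Fin (t + 1) → Ud F k) :
    pvec ξ = Tm i (ξ i) (pvec fun j => ξ (i.succAbove j)) := by
  rw [Tm_pvec]
  congr 1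
  exact (Fin.insertNth_self_removeNth i ξ).symm

theorem Tm_ext {M : Type*} [AddCommGroup M] [Module F M] (i : Fin (t + 1)) {L L' : Vt F k (t + 1) →ₗ[F] M}
    (h : ∀ u w, L (Tm i u w) = L' (Tm i u w)) : L = L' :=
  pvec_ext fun ξ => by rw [pvec_eq_Tm i]; exact h _ _

theorem el_ext_Tm (i : Fin (t + 1)) {g h : OQ (qT f (t + 1))}
    (e : ∀ u w, (g : Vt F k (t + 1) ≃ₗ[F] Vt F k (t + 1)) (Tm i u w) =
      (h : Vt F k (t + 1) ≃ₗ[F] Vt F k (t + 1)) (Tm i u w)) : g = h :=
  el_ext fun ξ => by rw [pvec_eq_Tm i]; exact e _ _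

theorem emb_Tm_self (i : Fin (t + 1)) (A : Module.End F (Ud F k)) (u : Ud F k) (w : Vt F k t) :
    emb i A (Tm i u w) = Tm i (A u) w :=
  LinearMap.congr_fun (pvec_ext (L := emb i A ∘ₗ Tm i u) (L' := Tm i (A u)) fun η => by
    rw [LinearMap.comp_apply, Tm_pvec, Tm_pvec, emb_pvec]
    simp) w

theorem emb_Tm_succAbove (i : Fin (t + 1)) (j : Fin t) (A : Module.End F (Ud F k)) (u : Ud F k) (w : Vt F k t) :
    emb (i.succAbove j) A (Tm i u w) = Tm i u (emb j A w) :=
  LinearMap.congr_fun (pvec_ext (L := emb (i.succAbove j) A ∘ₗ Tm i u) (L' := Tm i u ∘ₗ emb j A) fun η => by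
    rw [LinearMap.comp_apply, LinearMap.comp_apply, Tm_pvec, emb_pvec, emb_pvec, Tm_pvec]
    congr 1
    simp [Fin.insertNth_update]) w

include hf

theorem frm_Tm (i : Fin (t + 1)) (u v : Ud F k) (w z : Vt F k t) :
    frm f (t + 1) (Tm i u w) (Tm i v z) = f u v * frm f t w z := by
  have h : (frm f (t + 1)).compl₁₂ (Tm i u) (Tm i v) = f u v • frm f t := frm_ext fun ξ η => by
    rw [LinearMap.compl₁₂_apply, LinearMap.smul_apply, LinearMap.smul_apply, Tm_pvec, Tm_pvec, frm_pvec, frm_pvec,
      Fin.prod_univ_succAbove _ i]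
    simp
  exact LinearMap.congr_fun (LinearMap.congr_fun h w) z

/-- The tensor power as a product of two orthogonal spaces. -/
theorem tensor (i : Fin (t + 1)) : OrthTensor.Tensor (qT f (t + 1)) f (frm f t) (Tm i) where
  hQ := qT_nd hf
  hf := hf
  hg := symForm_frm hf
  polarT a b y z := by rw [polar_qT hf, frm_Tm hf]
  span := by
    refine eq_top_iff.2 (span_pvec.ge.trans (Submodule.span_mono ?_))
    rintro _ ⟨ξ, rfl⟩
    exact ⟨(ξ i, pvec fun j => ξ (i.succAbove j)), (pvec_eq_Tm i ξ).symm⟩

omit hf in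
theorem finrank_Vt : finrank F (Vt F k t) = k ^ t := by simp

end CfsgLib.Geo.OrthWreath
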