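/-
Elements on one factor, permutations of the factors, standard elements and their classes modulo `Ω`.
-/
import Cfsg.Agent.Lib.Geo.OrthWreath.Space
import Cfsg.Agent.Lib.Geo.OrthTensor.Square.Setup
import Cfsg.Agent.Lib.Geo.OrthTensor.Over

set_option autoImplicit false
set_option linter.unusedSectionVars false

namespace CfsgLib.Geo.OrthWreath

open CfsgLib.Classical CfsgLib.Classical.Quad CfsgLib.Known.OmegaCriterion Module
open CfsgLib.Geo.MixTensor (SymForm)
open CfsgLib.Geo.TensorWreath (pvec)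
open QuadraticMap (polar polarBilin)
open LinearMap (BilinForm)

variable {F : Type*} [Field F] {k t : ℕ} {f : BilinForm F (Ud F k)}

/-- A product of factor maps and a permutation of the factors. -/
def IsStd (g : OQ (qT f t)) : Prop :=
  ∃ (π : Equiv.Perm (Fin t)) (gs : Fin t → Module.End F (Ud F k)),
    ∀ ξ, (g : Vt F k t ≃ₗ[F] Vt F k t) (pvec ξ) = pvec fun l => gs l (ξ (π⁻¹ l))

theorem isStd_one : IsStd (1 : OQ (qT f t)) := ⟨1, fun _ => 1, fun _ => rfl⟩

theorem IsStd.mul {g h : OQ (qT f t)} (hg : IsStd g) (hh : IsStd h) : IsStd (g * h) := by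
  obtain ⟨π, gs, e⟩ := hg
  obtain ⟨ρ, hs, e'⟩ := hh
  refine ⟨π * ρ, fun l => gs l * hs (π⁻¹ l), fun ξ => ?_⟩
  show (g : Vt F k t ≃ₗ[F] Vt F k t) ((h : Vt F k t ≃ₗ[F] Vt F k t) (pvec ξ)) = _
  rw [e', e]
  rfl

theorem IsStd.pow {g : OQ (qT f t)} (hg : IsStd g) : ∀ n : ℕ, IsStd (g ^ n)
  | 0 => by rw [pow_zero]; exact isStd_one
  | n + 1 => by rw [pow_succ]; exact (IsStd.pow hg n).mul hg

theorem isStd_level_one (g : OQ (qT f 1)) : IsStd g := by
  classical
  refine ⟨1, fun _ => ?_, fun ξ => ?_⟩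
  · exact LinearMap.funLeft F F (fun a (_ : Fin 1) => a) ∘ₗ
      ((g : Vt F k 1 ≃ₗ[F] Vt F k 1) : Vt F k 1 →ₗ[F] Vt F k 1) ∘ₗ LinearMap.funLeft F F (fun a : Fin 1 → Fin k => a 0)
  · funext a
    have ha : (fun _ : Fin 1 => a 0) = a := funext fun j => by rw [Fin.fin_one_eq_zero j]
    have hp : pvec ξ = LinearMap.funLeft F F (fun a : Fin 1 → Fin k => a 0) (ξ 0) := funext fun b => by
      simp [pvec, LinearMap.funLeft_apply]
    show _ = pvec _ a
    rw [pvec, Fin.prod_univ_one]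
    simp [LinearMap.funLeft_apply, hp, ha]

section Defs

variable (hf : SymForm f)

/-- The element with the given action on a factor. -/
noncomputable def slot (i : Fin t) : OQ (qU f) →* OQ (qT f t) where
  toFun u := ofPreserves (qT_nd hf) (emb i ((u : Ud F k ≃ₗ[F] Ud F k) : Ud F k →ₗ[F] Ud F k))
    (preserves_qT hf fun ξ η => by
      classical
      rw [emb_pvec, emb_pvec, frm_pvec, frm_pvec]
      refine Finset.prod_congr rfl fun l _ => ?_
      by_cases hl : l = i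
      · subst hl
        rw [Function.update_self, Function.update_self]
        exact map_f hf u _ _
      · rw [Function.update_of_ne hl, Function.update_of_ne hl])
  map_one' := el_ext fun ξ => by
    rw [ofPreserves_apply, emb_pvec]
    show pvec (Function.update ξ i (ξ i)) = pvec ξ
    rw [Function.update_eq_self]
  map_mul' u v := el_ext fun ξ => by
    simp only [ofPreserves_apply, Subgroup.coe_mul, LinearEquiv.mul_apply, emb_pvec]
    simp

theorem slot_coe (i : Fin t) (u : OQ (qU f)) :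
    ((slot hf i u : Vt F k t ≃ₗ[F] Vt F k t) : Vt F k t →ₗ[F] Vt F k t) =
      emb i ((u : Ud F k ≃ₗ[F] Ud F k) : Ud F k →ₗ[F] Ud F k) := coe_ofPreserves (qT_nd hf) _ _

theorem slot_pvec (i : Fin t) (u : OQ (qU f)) (ξ : Fin t → Ud F k) :
    (slot hf i u : Vt F k t ≃ₗ[F] Vt F k t) (pvec ξ) =
      pvec (Function.update ξ i ((u : Ud F k ≃ₗ[F] Ud F k) (ξ i))) := by
  rw [← LinearEquiv.coe_coe, slot_coe, emb_pvec]
  rfl

theorem slot_Tm_self (i : Fin (t + 1)) (u : OQ (qU f)) (a : Ud F k) (w : Vt F k t) :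
    (slot hf i u : Vt F k (t + 1) ≃ₗ[F] Vt F k (t + 1)) (Tm i a w) =
      Tm i ((u : Ud F k ≃ₗ[F] Ud F k) a) w := by
  rw [← LinearEquiv.coe_coe, slot_coe, emb_Tm_self]
  rfl

theorem slot_Tm_succAbove (i : Fin (t + 1)) (j : Fin t) (u : OQ (qU f)) (a : Ud F k) (w : Vt F k t) :
    (slot hf (i.succAbove j) u : Vt F k (t + 1) ≃ₗ[F] Vt F k (t + 1)) (Tm i a w) =
      Tm i a ((slot hf j u : Vt F k t ≃ₗ[F] Vt F k t) w) := by
  rw [← LinearEquiv.coe_coe, slot_coe, emb_Tm_succAbove, ← slot_coe hf]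
  rfl

theorem isStd_slot (i : Fin t) (u : OQ (qU f)) : IsStd (slot hf i u) := by
  classical
  refine ⟨1, Function.update (fun _ => 1) i ((u : Ud F k ≃ₗ[F] Ud F k) : Ud F k →ₗ[F] Ud F k), fun ξ => ?_⟩
  rw [slot_pvec]
  congr 1
  funext l
  by_cases hl : l = i
  · subst hl; simp
  · simp [Function.update_of_ne hl]

theorem slot_comm {i j : Fin t} (h : i ≠ j) (u v : OQ (qU f)) : Commute (slot hf i u) (slot hf j v) :=
  el_ext fun ξ => by
    simp only [Subgroup.coe_mul, LinearEquiv.mul_apply, slot_pvec, Function.update_of_ne h,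
      Function.update_of_ne h.symm]
    rw [Function.update_comm h]

/-- The element permuting the factors. -/
noncomputable def pel (π : Equiv.Perm (Fin t)) : OQ (qT f t) :=
  ofPreserves (qT_nd hf) (pperm π) (preserves_qT hf fun ξ η => by
    rw [pperm_pvec, pperm_pvec, frm_pvec, frm_pvec]
    exact Fintype.prod_equiv π⁻¹ _ _ fun l => rfl)

theorem pel_pvec (π : Equiv.Perm (Fin t)) (ξ : Fin t → Ud F k) :
    (pel hf π : Vt F k t ≃ₗ[F] Vt F k t) (pvec ξ) = pvec fun l => ξ (π⁻¹ l) := by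
  rw [pel, ofPreserves_apply, pperm_pvec]

theorem isStd_pel (π : Equiv.Perm (Fin t)) : IsStd (pel hf π) :=
  ⟨π, fun _ => 1, fun ξ => pel_pvec hf π ξ⟩

theorem pel_slot (π : Equiv.Perm (Fin t)) (i : Fin t) (u : OQ (qU f)) :
    pel hf π * slot hf i u = slot hf (π i) u * pel hf π := el_ext fun ξ => by
  classical
  simp only [Subgroup.coe_mul, LinearEquiv.mul_apply, slot_pvec, pel_pvec]
  congr 1
  funext l
  by_cases hl : l = π i
  · subst hl; simp
  · rw [Function.update_of_ne hl, Function.update_of_ne]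
    intro h
    exact hl (by rw [← h]; simp)

/-- The reflection of a factor. -/
noncomputable def rfU {c : Ud F k} (hc : f c c ≠ 0) : OQ (qU f) :=
  Quad.refl (v := c) (show qU f c ≠ 0 by
    rw [qU, smul_apply, LinearMap.BilinMap.toQuadraticMap_apply]
    exact mul_ne_zero (inv_ne_zero hf.two) hc)

theorem rfU_apply {c : Ud F k} (hc : f c c ≠ 0) (y : Ud F k) :
    (rfU hf hc : Ud F k ≃ₗ[F] Ud F k) y = MixTensor.refl f c y := by
  rw [rfU, Quad.refl_apply, MixTensor.refl_apply, polar_qU hf, qU, smul_apply,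
    LinearMap.BilinMap.toQuadraticMap_apply, smul_eq_mul, hf.symm c y, _root_.mul_inv_rev, inv_inv]
  congr 2
  field_simp

end Defs

/-! ### Classes modulo `Ω` -/

variable [Finite F] (hf : SymForm f)
include hf

theorem five_le (hk : 3 ≤ k) (ht : 2 ≤ t) : 5 ≤ finrank F (Vt F k t) := by
  rw [finrank_Vt]
  calc 5 ≤ 3 ^ 2 := by norm_num
    _ ≤ k ^ 2 := Nat.pow_le_pow_left hk 2
    _ ≤ k ^ t := Nat.pow_le_pow_right (by omega) ht

theorem reflTop (h5 : 5 ≤ finrank F (Vt F k t)) : reflGroup (qT f t) = ⊤ :=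
  reflGroup_eq_top (qT_nd hf) (Or.inr (by omega))

/-- A square lies in `Ω`. -/
theorem mul_self_mem (h5 : 5 ≤ finrank F (Vt F k t)) (g : OQ (qT f t)) : g * g ∈ commutator (OQ (qT f t)) := by
  rw [mem_commutator_iff (qT_nd hf) (reflTop hf h5), par_mul (qT_nd hf) (reflTop hf h5),
    spinor_mul (qT_nd hf) (reflTop hf h5)]
  exact ⟨CharTwo.add_self_eq_zero _, sqClass_mul_self _⟩

/-- An element of odd order lies in `Ω`. -/
theorem mem_of_odd_pow (h5 : 5 ≤ finrank F (Vt F k t)) {g : OQ (qT f t)} {n : ℕ} (hn : Odd n) (h : g ^ n = 1) :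
    g ∈ commutator (OQ (qT f t)) := by
  obtain ⟨m, hm⟩ := hn
  have e : g = g ^ (m + 1) * g ^ (m + 1) := by
    rw [← pow_add, show m + 1 + (m + 1) = n + 1 by omega, pow_succ, h, one_mul]
  rw [e]
  exact mul_self_mem hf h5 _

omit [Finite F] in
theorem comm_conj (g h : OQ (qT f t)) : g * h * g⁻¹ * h⁻¹ ∈ commutator (OQ (qT f t)) :=
  Subgroup.commutator_mem_commutator (Subgroup.mem_top g) (Subgroup.mem_top h)

/-- The same factor map on two factors. -/
theorem slot_slot_mem (h5 : 5 ≤ finrank F (Vt F k t)) (i j : Fin t) (u : OQ (qU f)) :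
    slot hf i u * slot hf j u ∈ commutator (OQ (qT f t)) := by
  have e := pel_slot hf (Equiv.swap i j) i u
  rw [Equiv.swap_apply_left] at e
  have e' : slot hf i u * slot hf j u =
      (slot hf i u * slot hf i u) * ((slot hf i u)⁻¹ * slot hf j u) := by group
  rw [e']
  refine mul_mem (mul_self_mem hf h5 _) ?_
  have h1 : (slot hf i u)⁻¹ * slot hf j u =
      (slot hf i u)⁻¹ * pel hf (Equiv.swap i j) * slot hf i u * (pel hf (Equiv.swap i j))⁻¹ := by
    rw [mul_assoc (slot hf i u)⁻¹ (pel hf (Equiv.swap i j)), e]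
    group
  rw [h1]
  have h2 := comm_conj hf (slot hf i u)⁻¹ (pel hf (Equiv.swap i j))
  rwa [inv_inv] at h2

/-- Membership is independent of the factor. -/
theorem slot_mem_of (h5 : 5 ≤ finrank F (Vt F k t)) {i : Fin t} {u : OQ (qU f)}
    (h : slot hf i u ∈ commutator (OQ (qT f t))) (j : Fin t) : slot hf j u ∈ commutator (OQ (qT f t)) :=
  (Subgroup.mul_mem_cancel_left _ h).1 (slot_slot_mem hf h5 i j u)

omit [Finite F] in
theorem exists_sqc (s : SqClass F) : ∃ x : F, x ≠ 0 ∧ sqc x = s := by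
  obtain ⟨u, rfl⟩ := toSqClass_surjective F s
  exact ⟨u, u.ne_zero, by rw [sqc_of_ne u.ne_zero, Units.mk0_val]⟩

theorem exists_norm (hk : 2 ≤ k) {x : F} (hx : x ≠ 0) : ∃ c, f c c = x := by
  obtain ⟨v, hv, -⟩ := hf.exists_norm_perp ⊥ (fun y hy _ => (Submodule.mem_bot F).1 hy) (by simp; omega) hx
  exact ⟨v, hv⟩

/-- The class of a reflection of one factor. -/
theorem refl_class (hko : Odd k) (h5 : 5 ≤ finrank F (Vt F k (t + 1))) (i : Fin (t + 1)) :
    ∃ K₀ : SqClass F, ∀ (c : Ud F k) (hc : f c c ≠ 0), par (slot hf i (rfU hf hc)) = 1 ∧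
      spinor (slot hf i (rfU hf hc)) = K₀ * sqc (f c c) := by
  obtain ⟨K₀, h⟩ := (tensor hf i).flip.refl_invariants h5
  refine ⟨K₀, fun c hc => ?_⟩
  obtain ⟨g, hg, hp, hs⟩ := h c hc
  have e : g = slot hf i (rfU hf hc) := el_ext_Tm i fun u w => by
    rw [slot_Tm_self, rfU_apply]
    exact hg w u
  obtain ⟨m, hm⟩ := (hko.pow (n := t))
  rw [finrank_Vt] at hp hs
  refine ⟨?_, ?_⟩
  · rw [← e, hp, hm]
    push_cast
    rw [two_mul, CharTwo.add_self_eq_zero, zero_add]
  · rw [← e, hs, hm, pow_succ, pow_mul, pow_two, sqClass_mul_self, one_pow, one_mul]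

/-- Every class is that of an element of one factor. -/
theorem exists_class (hk : 3 ≤ k) (hko : Odd k) (h5 : 5 ≤ finrank F (Vt F k (t + 1))) (i : Fin (t + 1))
    (g : OQ (qT f (t + 1))) : ∃ u : OQ (qU f), slot hf i u * g ∈ commutator (OQ (qT f (t + 1))) := by
  obtain ⟨K₀, h⟩ := refl_class hf hko h5 i
  have hQ := qT_nd hf (t := t + 1)
  have hR := reflTop hf h5
  obtain ⟨x, hx, hxs⟩ := exists_sqc hf (K₀ * spinor g)
  obtain ⟨c, hc⟩ := exists_norm hf (by omega) hx
  have hc' : f c c ≠ 0 := hc ▸ hx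
  have hp : par g = 0 ∨ par g = 1 := by
    generalize par g = a
    revert a; decide
  rcases hp with hp | hp
  · obtain ⟨y, hy, hys⟩ := exists_sqc hf (spinor g)
    obtain ⟨d, hd⟩ := exists_norm hf (by omega) hy
    obtain ⟨d₁, hd₁⟩ := exists_norm hf (by omega) (one_ne_zero (α := F))
    have hd' : f d d ≠ 0 := hd ▸ hy
    have hd₁' : f d₁ d₁ ≠ 0 := hd₁ ▸ one_ne_zero
    refine ⟨rfU hf hd' * rfU hf hd₁', ?_⟩
    obtain ⟨p₁, s₁⟩ := h d hd'
    obtain ⟨p₂, s₂⟩ := h d₁ hd₁'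
    rw [map_mul, mem_commutator_iff hQ hR, par_mul hQ hR, par_mul hQ hR, spinor_mul hQ hR, spinor_mul hQ hR, p₁, p₂,
      s₁, s₂, hp, hd, hd₁, hys, sqc_one, mul_one]
    refine ⟨by decide, ?_⟩
    rw [mul_comm K₀ (spinor g), mul_assoc (spinor g), sqClass_mul_self, mul_one, sqClass_mul_self]
  · refine ⟨rfU hf hc', ?_⟩
    obtain ⟨p₁, s₁⟩ := h c hc'
    rw [mem_commutator_iff hQ hR, par_mul hQ hR, spinor_mul hQ hR, p₁, s₁, hp, hc, hxs, ← mul_assoc,
      sqClass_mul_self, one_mul, sqClass_mul_self]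
    exact ⟨by decide, rfl⟩

omit [Finite F] in
theorem IsStd.inv [Finite (OQ (qT f t))] {g : OQ (qT f t)} (hg : IsStd g) : IsStd g⁻¹ := by
  have hn := (isOfFinOrder_of_finite g).orderOf_pos
  have e : g⁻¹ = g ^ (orderOf g - 1) := by
    rw [inv_eq_iff_mul_eq_one, ← pow_succ', show orderOf g - 1 + 1 = orderOf g by omega, pow_orderOf_eq_one]
  rw [e]; exact hg.pow _

theorem finite_el : Finite (OQ (qT f t)) := OrthTensor.finite_OQ _

end CfsgLib.Geo.OrthWreath
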