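/-
Standard elements: isometric factors, conjugation, and the elements fixing a line of pure tensors.
-/
import Cfsg.Agent.Lib.Geo.OrthWreath.Class
import Cfsg.Agent.Lib.Geo.OrthTensor.Key

set_option autoImplicit false
set_option linter.unusedSectionVars false

namespace CfsgLib.Geo.OrthWreath

open CfsgLib.Classical CfsgLib.Classical.Quad Module
open CfsgLib.Geo.MixTensor (SymForm)
open CfsgLib.Geo.TensorWreath (pvec pvec_prop)
open LinearMap (BilinForm)

variable {F : Type*} [Field F] {k t : ℕ} {f : BilinForm F (Ud F k)}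

/-- A map with every vector as an eigenvector is a scalar. -/
theorem scalar_of_eigen {A : Module.End F (Ud F k)} (h : ∀ u, u ≠ 0 → ∃ c : F, A u = c • u) :
    ∃ c : F, A = c • 1 := by
  classical
  by_contra! hc
  obtain ⟨u, hu0, hu⟩ := TensorWreath.exists_not_eigen (B := LinearMap.toMatrix' A) fun c e => hc c (by
    rw [← Matrix.toLin'_toMatrix' A, e, map_smul, Matrix.toLin'_one]
    rfl)
  obtain ⟨c, hcu⟩ := h u hu0
  exact hu c (by rw [LinearMap.toMatrix'_mulVec, hcu])

theorem pvec_ne_zero {ξ : Fin t → Ud F k} (h : ∀ l, ξ l ≠ 0) : pvec ξ ≠ 0 := fun e => by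
  obtain ⟨l, hl⟩ := pvec_eq_zero_iff.1 e
  exact h l hl

/-- A vector outside a line. -/
theorem exists_not_prop (hk : 2 ≤ k) (v : Ud F k) : ∃ w : Ud F k, w ≠ 0 ∧ ∀ c : F, w ≠ c • v := by
  by_contra! h
  have h1 : (⊤ : Submodule F (Ud F k)) ≤ Submodule.span F {v} := fun w _ => by
    by_cases hw : w = 0
    · rw [hw]; exact Submodule.zero_mem _
    obtain ⟨c, hc⟩ := h w hw
    exact hc ▸ Submodule.smul_mem _ _ (Submodule.mem_span_singleton_self v)
  have h2 := Submodule.finrank_mono h1
  have h3 : finrank F (Submodule.span F ({v} : Set (Ud F k))) ≤ 1 := by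
    by_cases hv : v = 0
    · rw [hv, show Submodule.span F ({0} : Set (Ud F k)) = ⊥ from Submodule.span_singleton_eq_bot.2 rfl, finrank_bot]
      omega
    · rw [finrank_span_singleton hv]
  rw [finrank_top, finrank_fin_fun] at h2
  omega

variable (hf : SymForm f)
include hf

theorem exists_aniso_vec (hk : 1 ≤ k) : ∃ z : Ud F k, f z z ≠ 0 := by
  have : Nontrivial (Ud F k) := Module.nontrivial_of_finrank_pos (R := F) (by simp; omega)
  exact hf.exists_aniso

/-- An endomorphism preserving the form, as an element. -/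
noncomputable def mkU {A : Module.End F (Ud F k)} (h : ∀ a b, f (A a) (A b) = f a b) : OQ (qU f) :=
  ofPreserves (qU_nd hf) A fun v => by
    rw [qU, smul_apply, smul_apply, LinearMap.BilinMap.toQuadraticMap_apply,
      LinearMap.BilinMap.toQuadraticMap_apply, h]

theorem mkU_apply {A : Module.End F (Ud F k)} (h : ∀ a b, f (A a) (A b) = f a b) (v : Ud F k) :
    (mkU hf h : Ud F k ≃ₗ[F] Ud F k) v = A v := rfl

/-- The factor maps of a standard element are similitudes. -/
theorem IsStd.sim (hk : 1 ≤ k) {x : OQ (qT f (t + 1))} (hx : IsStd x) :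
    ∃ (π : Equiv.Perm (Fin (t + 1))) (gs : Fin (t + 1) → Module.End F (Ud F k)) (m : Fin (t + 1) → F),
      (∀ ξ, (x : Vt F k (t + 1) ≃ₗ[F] Vt F k (t + 1)) (pvec ξ) = pvec fun l => gs l (ξ (π⁻¹ l))) ∧
      (∀ l, m l ≠ 0) ∧ ∏ l, m l = 1 ∧ ∀ l a b, f (gs l a) (gs l b) = m l * f a b := by
  classical
  obtain ⟨π, gs, e⟩ := hx
  obtain ⟨z, hz⟩ := exists_aniso_vec hf (k := k) hk
  have key : ∀ α β : Fin (t + 1) → Ud F k, ∏ l, f (gs l (α l)) (gs l (β l)) = ∏ l, f (α l) (β l) := by
    intro α β
    have h := map_frm hf x (pvec fun l => α (π l)) (pvec fun l => β (π l))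
    rw [e, e, frm_pvec, frm_pvec] at h
    simp only [← Equiv.Perm.mul_apply, mul_inv_cancel, Equiv.Perm.one_apply] at h
    rw [h]
    exact Equiv.prod_comp π fun l => f (α l) (β l)
  set m : Fin (t + 1) → F := fun l => f (gs l z) (gs l z) / f z z with hm
  have hprod : ∏ l, m l = 1 := by
    rw [hm, Finset.prod_div_distrib, key (fun _ => z) fun _ => z, div_self]
    exact Finset.prod_ne_zero_iff.2 fun _ _ => hz
  have hm0 : ∀ l, m l ≠ 0 := fun l e0 => zero_ne_one (α := F)
    (by rw [← hprod, Finset.prod_eq_zero (Finset.mem_univ l) e0])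
  have hsim : ∀ l a b, f (gs l a) (gs l b) = m l * f a b := by
    intro l a b
    have h1 := key (Function.update (fun _ => z) l a) (Function.update (fun _ => z) l b)
    have h0 := key (fun _ => z) fun _ => z
    rw [← Finset.mul_prod_erase _ _ (Finset.mem_univ l), ← Finset.mul_prod_erase _ _ (Finset.mem_univ l)] at h1 h0
    simp only [Function.update_self] at h1
    rw [Finset.prod_congr rfl (g := fun j => f (gs j z) (gs j z)) fun j hj => by
        simp [Function.update_of_ne (Finset.mem_erase.1 hj).1],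
      Finset.prod_congr rfl (g := fun _ => f z z) (s₁ := Finset.univ.erase l)
        (f := fun j => f (Function.update (fun _ => z) l a j) (Function.update (fun _ => z) l b j)) fun j hj => by
        simp [Function.update_of_ne (Finset.mem_erase.1 hj).1]] at h1
    have hR : ∏ j ∈ Finset.univ.erase l, f z z ≠ 0 := Finset.prod_ne_zero_iff.2 fun _ _ => hz
    have hP : ∏ j ∈ Finset.univ.erase l, f (gs j z) (gs j z) ≠ 0 := fun hP => by
      rw [hP, mul_zero] at h0
      exact mul_ne_zero hz hR h0.symm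
    refine mul_right_cancel₀ hP ?_
    rw [h1, hm]
    field_simp
    linear_combination -(f a b) * h0
  exact ⟨π, gs, m, e, hm0, hprod, hsim⟩

/-- A standard element is a product of isometries of the factors and a permutation. -/
theorem IsStd.normal (hk : 3 ≤ k) (hko : Odd k) {x : OQ (qT f (t + 1))} (hx : IsStd x) :
    ∃ (π : Equiv.Perm (Fin (t + 1))) (us : Fin (t + 1) → OQ (qU f)),
      ∀ ξ, (x : Vt F k (t + 1) ≃ₗ[F] Vt F k (t + 1)) (pvec ξ) =
        pvec fun l => (us l : Ud F k ≃ₗ[F] Ud F k) (ξ (π⁻¹ l)) := by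
  classical
  obtain ⟨π, gs, m, e, hm0, hprod, hsim⟩ := hx.sim hf (by omega)
  choose r hr using fun l => (OrthTensor.isSquare_of_sim hf.nd (hm0 l) (hsim l) (by rwa [finrank_fin_fun]) :
    IsSquare (m l))
  have hr0 : ∀ l, r l ≠ 0 := fun l e0 => hm0 l (by rw [hr l, e0, mul_zero])
  set R := ∏ l, r l
  have hR : R * R = 1 := by
    rw [← hprod, ← Finset.prod_mul_distrib]
    exact Finset.prod_congr rfl fun l _ => (hr l).symm
  let ε : Fin (t + 1) → F := Function.update (fun _ => 1) 0 R
  have hε : ∀ l, ε l * ε l = 1 := fun l => by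
    by_cases hl : l = 0
    · subst hl; simp [ε, hR]
    · simp [ε, Function.update_of_ne hl]
  have hεR : ∏ l, ε l = R := by
    rw [← Finset.mul_prod_erase _ _ (Finset.mem_univ (0 : Fin (t + 1))),
      Finset.prod_congr rfl (g := fun _ => (1 : F)) fun j hj => by
        simp [ε, Function.update_of_ne (Finset.mem_erase.1 hj).1]]
    simp [ε]
  have hiso : ∀ l a b, f (((ε l * (r l)⁻¹) • gs l) a) (((ε l * (r l)⁻¹) • gs l) b) = f a b := by
    intro l a b
    simp only [LinearMap.smul_apply, map_smul, smul_eq_mul, hsim, hr l]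
    have := hr0 l
    field_simp
    linear_combination (f a b) * hε l
  refine ⟨π, fun l => mkU hf (hiso l), fun ξ => ?_⟩
  rw [e]
  simp only [mkU_apply, LinearMap.smul_apply]
  rw [pvec_smul_all, Finset.prod_mul_distrib, hεR, Finset.prod_inv_distrib,
    mul_inv_cancel₀ (Finset.prod_ne_zero_iff.2 fun l _ => hr0 l), one_smul]

/-- Conjugation of a factor element by a standard element. -/
theorem conj_slot {x : OQ (qT f t)} {π : Equiv.Perm (Fin t)} {us : Fin t → OQ (qU f)}
    (e : ∀ ξ, (x : Vt F k t ≃ₗ[F] Vt F k t) (pvec ξ) =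
      pvec fun l => (us l : Ud F k ≃ₗ[F] Ud F k) (ξ (π⁻¹ l)))
    (l : Fin t) (u : OQ (qU f)) :
    x * slot hf l u * x⁻¹ = slot hf (π l) (us (π l) * u * (us (π l))⁻¹) := by
  rw [mul_inv_eq_iff_eq_mul]
  refine el_ext fun ξ => ?_
  classical
  simp only [Subgroup.coe_mul, LinearEquiv.mul_apply, slot_pvec, e]
  congr 1
  funext j
  by_cases hj : j = π l
  · subst hj
    simp only [Function.update_self]
    rw [← Equiv.Perm.mul_apply, inv_mul_cancel, Equiv.Perm.one_apply, Function.update_self]
    simp [Subgroup.coe_inv]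
  · rw [Function.update_of_ne hj, Function.update_of_ne]
    intro h
    exact hj (by rw [← h]; simp)

/-- A standard element carrying one line of pure tensors to another factorwise is a factor element. -/
theorem fix_line (hk : 2 ≤ k) {x : OQ (qT f (t + 1))} (hx : IsStd x) {i : Fin (t + 1)} {c c' : Ud F k}
    (hc : c ≠ 0) (h : ∀ w, (x : Vt F k (t + 1) ≃ₗ[F] Vt F k (t + 1)) (Tm i c w) = Tm i c' w) :
    ∃ u : OQ (qU f), x = slot hf i u ∧ (u : Ud F k ≃ₗ[F] Ud F k) c = c' := by
  classical
  obtain ⟨π, gs, e⟩ := hx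
  obtain ⟨z, hz⟩ := exists_aniso_vec hf (k := k) (by omega)
  have hz0 : z ≠ 0 := fun h0 => hz (by simp [h0])
  have hc' : c' ≠ 0 := by
    intro h0
    have h1 := h (pvec fun _ => z)
    rw [h0, map_zero, LinearMap.zero_apply, LinearEquiv.map_eq_zero_iff] at h1
    exact pvec_ne_zero (fun _ => hz0) ((tensor hf i).T_eq_zero' hc h1)
  have key : ∀ η : Fin t → Ud F k, (∀ j, η j ≠ 0) → ∀ l, ∃ s : F, s ≠ 0 ∧
      gs l (Fin.insertNth (α := fun _ => Ud F k) i c η (π⁻¹ l)) =
        s • Fin.insertNth (α := fun _ => Ud F k) i c' η l := by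
    intro η hη l
    have h1 := h (pvec η)
    rw [Tm_pvec, Tm_pvec, e] at h1
    have hne : ∀ m, Fin.insertNth (α := fun _ => Ud F k) i c' η m ≠ 0 := fun m => by
      rcases Fin.eq_self_or_eq_succAbove i m with rfl | ⟨j, rfl⟩ <;> simp [hc', hη]
    obtain ⟨s, hs⟩ := pvec_prop hne h1 l
    refine ⟨s, fun h0 => ?_, hs⟩
    rw [h0, zero_smul] at hs
    exact pvec_ne_zero hne (h1 ▸ pvec_eq_zero_iff.2 ⟨l, hs⟩)
  have hπ : π⁻¹ = 1 := by
    refine Equiv.ext fun l => ?_
    rw [Equiv.Perm.one_apply]
    have hj : ∀ j, π⁻¹ (i.succAbove j) = i.succAbove j := by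
      intro j
      rcases Fin.eq_self_or_eq_succAbove i (π⁻¹ (i.succAbove j)) with hp | ⟨j', hp⟩
      · exfalso
        obtain ⟨w, hw0, hw⟩ := exists_not_prop hk z
        obtain ⟨s, hs0, hs⟩ := key (fun _ => z) (fun _ => hz0) (i.succAbove j)
        obtain ⟨s', hs0', hs'⟩ := key (Function.update (fun _ => z) j w) (fun m => by
          by_cases hm : m = j
          · subst hm; simpa
          · simpa [Function.update_of_ne hm]) (i.succAbove j)
        rw [hp, Fin.insertNth_apply_same, Fin.insertNth_apply_succAbove] at hs hs'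
        rw [Function.update_self, hs] at hs'
        exact hw (s'⁻¹ * s) (by rw [mul_smul, hs', inv_smul_smul₀ hs0'])
      · by_cases hjj : j' = j
        · rw [hp, hjj]
        exfalso
        obtain ⟨w, hw0, hw⟩ := exists_not_prop hk z
        obtain ⟨s, hs0, hs⟩ := key (fun _ => z) (fun _ => hz0) (i.succAbove j)
        obtain ⟨s', hs0', hs'⟩ := key (Function.update (fun _ => z) j w) (fun m => by
          by_cases hm : m = j
          · subst hm; simpa
          · simpa [Function.update_of_ne hm]) (i.succAbove j)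
        rw [hp, Fin.insertNth_apply_succAbove, Fin.insertNth_apply_succAbove] at hs hs'
        rw [Function.update_self, Function.update_of_ne hjj, hs] at hs'
        exact hw (s'⁻¹ * s) (by rw [mul_smul, hs', inv_smul_smul₀ hs0'])
    rcases Fin.eq_self_or_eq_succAbove i l with hl | ⟨j, rfl⟩
    · rw [hl]
      rcases Fin.eq_self_or_eq_succAbove i (π⁻¹ i) with hp | ⟨j, hp⟩
      · exact hp
      · exact absurd ((π⁻¹).injective (hp.trans (hj j).symm)) (Fin.succAbove_ne _ j).symm
    · exact hj j
  have hπ' : ∀ l, π⁻¹ l = l := fun l => by rw [hπ]; rfl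
  have hsc : ∀ j, ∃ a : F, gs (i.succAbove j) = a • 1 := fun j => scalar_of_eigen fun u hu => by
    obtain ⟨s, -, hs⟩ := key (Function.update (fun _ => z) j u) (fun m => by
      by_cases hm : m = j
      · subst hm; simpa
      · simpa [Function.update_of_ne hm]) (i.succAbove j)
    rw [hπ', Fin.insertNth_apply_succAbove, Fin.insertNth_apply_succAbove, Function.update_self] at hs
    exact ⟨s, hs⟩
  choose a ha using hsc
  set A : Module.End F (Ud F k) := (∏ j, a j) • gs i
  have hA : ∀ u w, (x : Vt F k (t + 1) ≃ₗ[F] Vt F k (t + 1)) (Tm i u w) = Tm i (A u) w := fun u w =>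
    LinearMap.congr_fun (pvec_ext (L := ((x : Vt F k (t + 1) ≃ₗ[F] Vt F k (t + 1)) :
      Vt F k (t + 1) →ₗ[F] Vt F k (t + 1)) ∘ₗ Tm i u) (L' := Tm i (A u)) fun η => by
      rw [LinearMap.comp_apply, Tm_pvec, LinearEquiv.coe_coe, e]
      simp only [hπ']
      rw [pvec_eq_Tm i]
      simp only [Fin.insertNth_apply_same, Fin.insertNth_apply_succAbove, ha, LinearMap.smul_apply,
        Module.End.one_apply]
      rw [pvec_smul_all, map_smul]
      show _ = Tm i ((∏ j, a j) • gs i u) (pvec η)
      rw [map_smul, LinearMap.smul_apply]) w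
  have hAi : ∀ p q, f (A p) (A q) = f p q := by
    intro p q
    have h1 := map_frm hf x (Tm i p (pvec fun _ => z)) (Tm i q (pvec fun _ => z))
    rw [hA, hA, frm_Tm hf, frm_Tm hf, frm_pvec] at h1
    exact mul_right_cancel₀ (Finset.prod_ne_zero_iff.2 fun _ _ => hz) h1
  have hxs : x = slot hf i (mkU hf hAi) := el_ext_Tm i fun u w => by
    rw [hA, slot_Tm_self, mkU_apply]
  refine ⟨mkU hf hAi, hxs, ?_⟩
  have h1 := h (pvec fun _ => z)
  rw [hA] at h1
  exact (tensor hf i).T_injective (pvec_ne_zero fun _ => hz0) h1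

theorem slot_injective (hk : 1 ≤ k) (i : Fin t) : Function.Injective (slot hf i) := by
  classical
  refine (injective_iff_map_eq_one _).2 fun u hu => Subtype.ext (LinearEquiv.ext fun a => ?_)
  obtain ⟨z, hz⟩ := exists_aniso_vec hf hk
  have hz0 : z ≠ 0 := fun h0 => hz (by simp [h0])
  by_cases ha : a = 0
  · simp [ha]
  have h := congrArg (fun g : OQ (qT f t) => (g : Vt F k t ≃ₗ[F] Vt F k t)
    (pvec (Function.update (fun _ => z) i a))) hu
  simp only [slot_pvec, Function.update_self, Function.update_idem] at h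
  have hne : ∀ l, Function.update (fun _ : Fin t => z) i a l ≠ 0 := fun l => by
    by_cases hl : l = i
    · subst hl; simpa
    · simpa [Function.update_of_ne hl]
  obtain ⟨s, hs⟩ := pvec_prop hne h i
  simp only [Function.update_self] at hs
  have h' : pvec (Function.update (fun _ : Fin t => z) i (s • a)) = pvec (Function.update (fun _ : Fin t => z) i a) := by
    rw [← hs]; exact h
  rw [pvec_update_smul] at h'
  have hs1 : s = 1 := smul_left_injective F (pvec_ne_zero hne) (by
    show s • _ = (1 : F) • _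
    rw [h', one_smul])
  rw [hs, hs1, one_smul]
  rfl

/-- Two factor elements on different factors agree only if scalar. -/
theorem slot_eq_slot (hk : 1 ≤ k) {i j : Fin t} (hij : i ≠ j) {u v : OQ (qU f)}
    (h : slot hf i u = slot hf j v) : ∃ c : F, ∀ a, (u : Ud F k ≃ₗ[F] Ud F k) a = c • a := by
  classical
  obtain ⟨c, hc⟩ := scalar_of_eigen (A := ((u : Ud F k ≃ₗ[F] Ud F k) : Ud F k →ₗ[F] Ud F k)) fun a ha => by
    obtain ⟨z, hz⟩ := exists_aniso_vec hf hk
    have hz0 : z ≠ 0 := fun h0 => hz (by simp [h0])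
    have hvz : (v : Ud F k ≃ₗ[F] Ud F k) z ≠ 0 := by simpa using hz0
    have e := congrArg (fun g : OQ (qT f t) => (g : Vt F k t ≃ₗ[F] Vt F k t)
      (pvec (Function.update (fun _ => z) i a))) h
    simp only [slot_pvec, Function.update_self, Function.update_idem, Function.update_of_ne hij.symm] at e
    obtain ⟨s, hs⟩ := pvec_prop (fun l => by
      by_cases hlj : l = j
      · subst hlj; simpa
      by_cases hli : l = i
      · subst hli; simpa [Function.update_of_ne hlj]
      · simpa [Function.update_of_ne hlj, Function.update_of_ne hli]) e i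
    rw [Function.update_self, Function.update_of_ne hij, Function.update_self] at hs
    exact ⟨s, hs⟩
  exact ⟨c, fun a => by have := LinearMap.congr_fun hc a; simpa using this⟩

end CfsgLib.Geo.OrthWreath
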