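/-
A hyperbolic pair of a factor: Siegel maps, the torus, the exchanges, and compensators of classes.
-/
import Cfsg.Agent.Lib.Geo.OrthWreath.Std

set_option autoImplicit false
set_option linter.unusedSectionVars false

namespace CfsgLib.Geo.OrthWreath

open CfsgLib.Classical CfsgLib.Classical.Quad CfsgLib.Known.OmegaCriterion Module
open CfsgLib.Geo.MixTensor (SymForm refl)
open CfsgLib.Geo.OrthTensor (sv sv_apply sv_isometry)
open LinearMap (BilinForm)

variable {F : Type*} [Field F] {k t : ℕ} {f : BilinForm F (Ud F k)}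

/-- A hyperbolic pair. -/
structure Fr (f : BilinForm F (Ud F k)) where
  d : Ud F k
  e : Ud F k
  dd : f d d = 0
  ee : f e e = 0
  de : f d e = 1

theorem Fr.d_ne (P : Fr f) : P.d ≠ 0 := fun h => by simpa [h] using P.de

theorem Fr.e_ne (P : Fr f) : P.e ≠ 0 := fun h => by simpa [h] using P.de

variable (hf : SymForm f)

theorem Fr.ed (P : Fr f) (hf : SymForm f) : f P.e P.d = 1 := by rw [hf.symm, P.de]

/-- The pair in the other order. -/
def Fr.symm (P : Fr f) (hf : SymForm f) : Fr f := ⟨P.e, P.d, P.ee, P.dd, P.ed hf⟩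

/-- The Siegel element. -/
noncomputable def sU {d z : Ud F k} (hd : f d d = 0) (hz : f d z = 0) : OQ (qU f) :=
  mkU hf (A := sv f d z) (sv_isometry hf hd hz)

theorem sU_apply {d z : Ud F k} (hd : f d d = 0) (hz : f d z = 0) (a : Ud F k) :
    (sU hf hd hz : Ud F k ≃ₗ[F] Ud F k) a = a + f d a • z - f z a • d - (f z z / 2 * f d a) • d := by
  rw [sU, mkU_apply, sv_apply]

include hf

theorem qU_ext {u v : OQ (qU f)} (h : ∀ a, (u : Ud F k ≃ₗ[F] Ud F k) a = (v : Ud F k ≃ₗ[F] Ud F k) a) : u = v :=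
  Subtype.ext (LinearEquiv.ext h)

theorem sU_add {d z z' : Ud F k} (hd : f d d = 0) (hz : f d z = 0) (hz' : f d z' = 0) :
    sU hf hd hz * sU hf hd hz' = sU hf hd (z := z + z') (by rw [map_add, hz, hz', add_zero]) :=
  qU_ext hf fun a => by
    have h2 := hf.two
    simp only [Subgroup.coe_mul, LinearEquiv.mul_apply, sU_apply, map_add, map_sub, map_smul, LinearMap.add_apply,
      smul_eq_mul, hd, hz, hz', hf.symm d z, mul_zero, add_zero, sub_zero, hf.symm z z']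
    match_scalars <;> field_simp <;> ring

theorem sU_zero {d : Ud F k} (hd : f d d = 0) : sU hf hd (z := 0) (by simp) = 1 :=
  qU_ext hf fun a => by simp [sU_apply]

theorem sU_pow {d z : Ud F k} (hd : f d d = 0) (hz : f d z = 0) :
    ∀ n : ℕ, sU hf hd hz ^ n = sU hf hd (z := (n : F) • z) (by rw [map_smul, hz, smul_zero])
  | 0 => by
    rw [pow_zero, ← sU_zero hf hd]
    exact qU_ext hf fun a => by simp [sU_apply]
  | n + 1 => by
    rw [pow_succ, sU_pow hd hz n, sU_add]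
    refine qU_ext hf fun a => ?_
    simp [sU_apply, add_smul]

theorem sU_fix {d z : Ud F k} (hd : f d d = 0) (hz : f d z = 0) {y : Ud F k} (h1 : f d y = 0) (h2 : f z y = 0) :
    (sU hf hd hz : Ud F k ≃ₗ[F] Ud F k) y = y := by simp [sU_apply, h1, h2]

theorem sU_self {d z : Ud F k} (hd : f d d = 0) (hz : f d z = 0) :
    (sU hf hd hz : Ud F k ≃ₗ[F] Ud F k) d = d := sU_fix hf hd hz hd (by rw [hf.symm, hz])

theorem sU_inv {d z : Ud F k} (hd : f d d = 0) (hz : f d z = 0) :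
    (sU hf hd hz)⁻¹ = sU hf hd (z := -z) (by rw [map_neg, hz, neg_zero]) := by
  refine inv_eq_of_mul_eq_one_right ?_
  rw [sU_add, ← sU_zero hf hd]
  exact qU_ext hf fun a => by simp [sU_apply]

theorem exists_frame [Finite F] (hk : 3 ≤ k) : ∃ _ : Fr f, True := by
  obtain ⟨d, -, hd0, hd⟩ := hf.exists_isotropic (P := (⊤ : Submodule F (Ud F k)))
    (by rw [finrank_top, finrank_fin_fun]; exact hk)
  obtain ⟨e, hee, hde⟩ := OrthTensor.exists_iso_partner hf hd hd0
  exact ⟨⟨d, e, hd, hee, hde⟩, trivial⟩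

theorem Fr.exists_z (P : Fr f) (hk : 3 ≤ k) : ∃ z, f P.d z = 0 ∧ f P.e z = 0 ∧ f z z ≠ 0 := by
  obtain ⟨z, hz, hzP⟩ := OrthTensor.exists_aniso_perp hf _ (OrthTensor.pair_nondeg hf P.dd P.ee P.de)
    (by rw [finrank_fin_fun]; have := OrthTensor.span_pair_le (F := F) P.d P.e; omega)
  exact ⟨z, hzP _ (Submodule.subset_span (Set.mem_insert _ _)),
    hzP _ (Submodule.subset_span (Set.mem_insert_of_mem _ rfl)), hz⟩

/-- A prescribed norm orthogonal to the pair. -/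
theorem Fr.exists_z_norm [Finite F] (P : Fr f) (hk : 4 ≤ k) {x : F} (hx : x ≠ 0) :
    ∃ z, f P.d z = 0 ∧ f P.e z = 0 ∧ f z z = x := by
  obtain ⟨z, hz, hzP⟩ := hf.exists_norm_perp _ (OrthTensor.pair_nondeg hf P.dd P.ee P.de)
    (by rw [finrank_fin_fun]; have := OrthTensor.span_pair_le (F := F) P.d P.e; omega) hx
  exact ⟨z, hzP _ (Submodule.subset_span (Set.mem_insert _ _)),
    hzP _ (Submodule.subset_span (Set.mem_insert_of_mem _ rfl)), hz⟩

/-- A second pair. -/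
theorem Fr.exists_second [Finite F] (P : Fr f) (hk : 5 ≤ k) :
    ∃ P' : Fr f, f P.d P'.d = 0 ∧ f P.e P'.d = 0 ∧ f P.d P'.e = 0 ∧ f P.e P'.e = 0 := by
  have hr : f.IsRefl := fun x y h' => by rw [hf.symm]; exact h'
  set K := f.orthogonal (Submodule.span F ({P.d, P.e} : Set (Ud F k)))
  have hK : 3 ≤ finrank F K := by
    rw [LinearMap.BilinForm.finrank_orthogonal hf.nd, finrank_fin_fun]
    have := OrthTensor.span_pair_le (F := F) P.d P.e
    omega
  obtain ⟨z, hz, hz0, hzz⟩ := hf.exists_isotropic hK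
  have hdz : f P.d z = 0 := hz _ (Submodule.subset_span (Set.mem_insert _ _))
  have hez : f P.e z = 0 := hz _ (Submodule.subset_span (Set.mem_insert_of_mem _ rfl))
  obtain ⟨x, hxx, hzx⟩ := OrthTensor.exists_iso_partner hf hzz hz0
  set y := x - f P.e x • P.d - f P.d x • P.e
  have hdy : f P.d y = 0 := by simp [y, P.dd, P.de]
  have hey : f P.e y = 0 := by simp [y, P.ee, P.ed hf]
  have hzy : f z y = 1 := by simp [y, hzx, hf.symm P.d z, hf.symm P.e z, hdz, hez]
  refine ⟨⟨z, y - (f y y / 2) • z, hzz, ?_, by simp [hzy, hzz]⟩, hdz, hez, by simp [hdy, hdz], by simp [hey, hez]⟩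
  have h2 := hf.two
  simp only [map_sub, map_smul, LinearMap.sub_apply, LinearMap.smul_apply, smul_eq_mul, hzz, hzy, hf.symm z y]
  field_simp
  ring

omit hf

/-- The exchange of the two isotropic vectors. -/
noncomputable def Fr.sw (P : Fr f) (hf : SymForm f) {l : F} (hl : l ≠ 0) : OQ (qU f) :=
  rfU hf (c := P.d - l • P.e) (by
    simp [P.dd, P.ee, P.de, P.ed hf]
    exact fun h => mul_ne_zero hf.two hl (by linear_combination -h))

theorem Fr.sw_apply (P : Fr f) (hf : SymForm f) {l : F} (hl : l ≠ 0) (a : Ud F k) :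
    (P.sw hf hl : Ud F k ≃ₗ[F] Ud F k) a =
      a - f P.d a • P.e + (l⁻¹ * f P.d a) • P.d - f P.e a • P.d + (l * f P.e a) • P.e := by
  have h2 := hf.two
  have hn : f (P.d - l • P.e) (P.d - l • P.e) = -(2 * l) := by
    simp [P.dd, P.ee, P.de, P.ed hf]; ring
  rw [Fr.sw, rfU_apply, MixTensor.refl_apply, hn]
  simp only [map_sub, map_smul, LinearMap.sub_apply, LinearMap.smul_apply, smul_eq_mul]
  match_scalars <;> field_simp <;> ring

theorem Fr.sw_d (P : Fr f) (hf : SymForm f) {l : F} (hl : l ≠ 0) :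
    (P.sw hf hl : Ud F k ≃ₗ[F] Ud F k) P.d = l • P.e := by
  rw [P.sw_apply hf hl, P.dd, P.ed hf]; module

theorem Fr.sw_e (P : Fr f) (hf : SymForm f) {l : F} (hl : l ≠ 0) :
    (P.sw hf hl : Ud F k ≃ₗ[F] Ud F k) P.e = l⁻¹ • P.d := by
  rw [P.sw_apply hf hl, P.de, P.ee]; module

theorem Fr.sw_perp (P : Fr f) (hf : SymForm f) {l : F} (hl : l ≠ 0) {y : Ud F k} (h1 : f P.d y = 0)
    (h2 : f P.e y = 0) : (P.sw hf hl : Ud F k ≃ₗ[F] Ud F k) y = y := by
  rw [P.sw_apply hf hl, h1, h2]; simp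

/-- The torus. -/
noncomputable def Fr.tor (P : Fr f) (hf : SymForm f) {m : F} (hm : m ≠ 0) : OQ (qU f) :=
  P.sw hf one_ne_zero * P.sw hf hm

theorem Fr.tor_apply (P : Fr f) (hf : SymForm f) {m : F} (hm : m ≠ 0) (a : Ud F k) :
    (P.tor hf hm : Ud F k ≃ₗ[F] Ud F k) a = a + ((m - 1) * f P.e a) • P.d + ((m⁻¹ - 1) * f P.d a) • P.e := by
  rw [Fr.tor, Subgroup.coe_mul, LinearEquiv.mul_apply, P.sw_apply hf hm, P.sw_apply hf one_ne_zero]
  simp only [map_add, map_sub, map_smul, smul_eq_mul, P.dd, P.ee, P.de, P.ed hf]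
  match_scalars <;> field_simp <;> ring

theorem Fr.tor_d (P : Fr f) (hf : SymForm f) {m : F} (hm : m ≠ 0) :
    (P.tor hf hm : Ud F k ≃ₗ[F] Ud F k) P.d = m • P.d := by
  rw [P.tor_apply hf hm, P.dd, P.ed hf]; module

theorem Fr.tor_e (P : Fr f) (hf : SymForm f) {m : F} (hm : m ≠ 0) :
    (P.tor hf hm : Ud F k ≃ₗ[F] Ud F k) P.e = m⁻¹ • P.e := by
  rw [P.tor_apply hf hm, P.de, P.ee]; module

theorem Fr.tor_perp (P : Fr f) (hf : SymForm f) {m : F} (hm : m ≠ 0) {y : Ud F k} (h1 : f P.d y = 0)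
    (h2 : f P.e y = 0) : (P.tor hf hm : Ud F k ≃ₗ[F] Ud F k) y = y := by
  rw [P.tor_apply hf hm, h1, h2]; simp

theorem Fr.tor_mul (P : Fr f) (hf : SymForm f) {m n : F} (hm : m ≠ 0) (hn : n ≠ 0) :
    P.tor hf hm * P.tor hf hn = P.tor hf (mul_ne_zero hm hn) := qU_ext hf fun a => by
  simp only [Subgroup.coe_mul, LinearEquiv.mul_apply, Fr.tor_apply, map_add, map_smul, smul_eq_mul, P.dd, P.ee,
    P.de, P.ed hf]
  match_scalars <;> field_simp <;> ring

variable [Finite F]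
include hf

/-- A Siegel element of one factor lies in `Ω`. -/
theorem slot_sU_mem (h5 : 5 ≤ finrank F (Vt F k t)) (i : Fin t) {d z : Ud F k} (hd : f d d = 0)
    (hz : f d z = 0) : slot hf i (sU hf hd hz) ∈ commutator (OQ (qT f t)) := by
  have hp : (ringChar F).Prime := CharP.char_is_prime F _
  refine mem_of_odd_pow hf h5 (hp.odd_of_ne_two fun e => hf.two (by
    have := ringChar.eq_iff.1 e
    exact CharTwo.two_eq_zero)) ?_
  rw [← map_pow, sU_pow, ← map_one (slot hf i), ← sU_zero hf hd]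
  congr 1
  exact qU_ext hf fun a => by simp [sU_apply]

/-- The class of a torus element. -/
theorem tor_class (hko : Odd k) (h5 : 5 ≤ finrank F (Vt F k (t + 1))) (i : Fin (t + 1)) (P : Fr f) {m : F}
    (hm : m ≠ 0) : par (slot hf i (P.tor hf hm)) = 0 ∧ spinor (slot hf i (P.tor hf hm)) = sqc m := by
  obtain ⟨K₀, h⟩ := refl_class hf hko h5 i
  have hQ := qT_nd hf (t := t + 1)
  have hR := reflTop hf h5
  have hn : ∀ l : F, f (P.d - l • P.e) (P.d - l • P.e) = -2 * l := fun l => by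
    simp [P.dd, P.ee, P.de, P.ed hf]; ring
  have h2 : (-2 : F) ≠ 0 := neg_ne_zero.2 hf.two
  obtain ⟨p₁, s₁⟩ := h _ (by rw [hn 1]; exact mul_ne_zero h2 one_ne_zero)
  obtain ⟨p₂, s₂⟩ := h _ (by rw [hn m]; exact mul_ne_zero h2 hm)
  rw [Fr.tor, map_mul, par_mul hQ hR, spinor_mul hQ hR]
  simp only [Fr.sw]
  refine ⟨by rw [p₁, p₂]; decide, ?_⟩
  rw [s₁, s₂, hn, hn, mul_one, mul_mul_mul_comm, sqClass_mul_self, one_mul, sqc_mul h2 hm, ← mul_assoc,
    sqClass_mul_self, one_mul]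

/-- **A compensator.** -/
theorem exists_comp (hko : Odd k) (h5 : 5 ≤ finrank F (Vt F k (t + 1))) (i : Fin (t + 1)) (P : Fr f)
    {z : Ud F k} (hdz : f P.d z = 0) (hez : f P.e z = 0) (hz : f z z ≠ 0) (g : OQ (qT f (t + 1))) :
    ∃ (c : OQ (qU f)) (m ε : F), m ≠ 0 ∧ ε * ε = 1 ∧ (c : Ud F k ≃ₗ[F] Ud F k) P.d = m • P.d ∧
      (c : Ud F k ≃ₗ[F] Ud F k) P.e = m⁻¹ • P.e ∧
      (∀ y, f P.d y = 0 → f P.e y = 0 → f z y = 0 → (c : Ud F k ≃ₗ[F] Ud F k) y = y) ∧
      (c : Ud F k ≃ₗ[F] Ud F k) z = ε • z ∧ slot hf i c * g ∈ commutator (OQ (qT f (t + 1))) := by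
  obtain ⟨K₀, h⟩ := refl_class hf hko h5 i
  have hQ := qT_nd hf (t := t + 1)
  have hR := reflTop hf h5
  have hp : par g = 0 ∨ par g = 1 := by
    generalize par g = a
    revert a; decide
  rcases hp with hp | hp
  · obtain ⟨m, hm, hms⟩ := exists_sqc hf (spinor g)
    obtain ⟨pt, st⟩ := tor_class hf hko h5 i P hm
    refine ⟨P.tor hf hm, m, 1, hm, one_mul 1, P.tor_d hf hm, P.tor_e hf hm, fun y h1 h2 _ => P.tor_perp hf hm h1 h2,
      by rw [one_smul, P.tor_perp hf hm hdz hez], ?_⟩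
    rw [mem_commutator_iff hQ hR, par_mul hQ hR, spinor_mul hQ hR, pt, st, hms, hp, sqClass_mul_self]
    exact ⟨add_zero _, rfl⟩
  · obtain ⟨m, hm, hms⟩ := exists_sqc hf (K₀ * sqc (f z z) * spinor g)
    obtain ⟨pt, st⟩ := tor_class hf hko h5 i P hm
    obtain ⟨pz, sz⟩ := h z hz
    have hzd : f z P.d = 0 := by rw [hf.symm, hdz]
    have hze : f z P.e = 0 := by rw [hf.symm, hez]
    refine ⟨rfU hf hz * P.tor hf hm, m, -1, hm, by norm_num, ?_, ?_, fun y h1 h2 h3 => ?_, ?_, ?_⟩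
    · rw [Subgroup.coe_mul, LinearEquiv.mul_apply, P.tor_d hf hm, map_smul, rfU_apply, hf.refl_fix hzd]
    · rw [Subgroup.coe_mul, LinearEquiv.mul_apply, P.tor_e hf hm, map_smul, rfU_apply, hf.refl_fix hze]
    · rw [Subgroup.coe_mul, LinearEquiv.mul_apply, P.tor_perp hf hm h1 h2, rfU_apply, hf.refl_fix h3]
    · rw [Subgroup.coe_mul, LinearEquiv.mul_apply, P.tor_perp hf hm hdz hez, rfU_apply, MixTensor.refl_apply]
      match_scalars
      field_simp
      ring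
    · rw [mem_commutator_iff hQ hR, map_mul, par_mul hQ hR, par_mul hQ hR, spinor_mul hQ hR, spinor_mul hQ hR,
        pt, pz, st, sz, hms, hp, ← mul_assoc (K₀ * sqc (f z z)), sqClass_mul_self, one_mul, sqClass_mul_self]
      exact ⟨by decide, rfl⟩

end CfsgLib.Geo.OrthWreath
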