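/-
An overgroup of the standard elements of `Ω`, and its elements which are products at one factor.
-/
import Cfsg.Agent.Lib.Geo.OrthWreath.Frame
import Cfsg.Agent.Lib.Geo.OrthTensorFour.Thin
import Cfsg.Agent.Lib.Geo.OrthTensor.Final
import Cfsg.Agent.Lib.Geo.TensorWreath.Split
import Cfsg.Agent.Lib.Classical.Quad.OmegaStructure

set_option autoImplicit false
set_option linter.unusedSectionVars false

namespace CfsgLib.Geo.OrthWreath

open CfsgLib.Classical CfsgLib.Classical.Quad CfsgLib.Known.OmegaCriterion Module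
open CfsgLib.Geo.MixTensor (SymForm)
open CfsgLib.Geo.OrthTensor (Tens)
open CfsgLib.Geo.TensorWreath (pvec extPerm extPerm_self extPerm_succAbove)
open LinearMap (BilinForm)

variable {F : Type*} [Field F] {k t : ℕ} {f : BilinForm F (Ud F k)}

/-- Commutators in two commuting images. -/
theorem comm_prod {A B G : Type*} [Group A] [Group B] [Group G] (φ : A →* G) (ψ : B →* G)
    (h : ∀ a y, Commute (φ a) (ψ y)) (a b : A) (y z : B) :
    φ (a * b * a⁻¹ * b⁻¹) * ψ (y * z * y⁻¹ * z⁻¹) =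
      φ a * ψ y * (φ b * ψ z) * (φ a * ψ y)⁻¹ * (φ b * ψ z)⁻¹ := by
  have e := fun a y => (MonoidHom.noncommCoprod_apply φ ψ h (a, y)).symm
  rw [e a y, e b z, ← map_mul, ← map_inv, ← map_inv, ← map_mul, ← map_mul]
  exact (MonoidHom.noncommCoprod_apply φ ψ h ((a, y) * (b, z) * (a, y)⁻¹ * (b, z)⁻¹)).symm

/-- The slice at a value of one coordinate. -/
def slice (i : Fin (t + 1)) (a : Fin k) : Vt F k (t + 1) →ₗ[F] Vt F k t :=
  LinearMap.funLeft F F fun b : Fin t → Fin k => i.insertNth a b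

/-- The extension of a map of the other factors. -/
def wmap (i : Fin (t + 1)) (L : Module.End F (Vt F k t)) : Module.End F (Vt F k (t + 1)) :=
  LinearMap.pi fun a => (LinearMap.proj fun j => a (i.succAbove j)) ∘ₗ L ∘ₗ slice i (a i)

theorem wmap_Tm (i : Fin (t + 1)) (L : Module.End F (Vt F k t)) (u : Ud F k) (w : Vt F k t) :
    wmap i L (Tm i u w) = Tm i u (L w) := by
  funext a
  have h : slice i (a i) (Tm i u w) = u (a i) • w := funext fun b => by
    simp [slice, LinearMap.funLeft_apply, Tm_apply]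
  show L (slice i (a i) (Tm i u w)) _ = _
  rw [h, map_smul]
  rfl

section
variable (hf : SymForm f)

/-- An element acting on the factors other than `i`. -/
noncomputable def wl (i : Fin (t + 1)) : OQ (qT f t) →* OQ (qT f (t + 1)) where
  toFun y := ofPreserves (qT_nd hf) (wmap i ((y : Vt F k t ≃ₗ[F] Vt F k t) : Vt F k t →ₗ[F] Vt F k t))
    (preserves_qT hf fun ξ η => by
      rw [pvec_eq_Tm i ξ, pvec_eq_Tm i η, wmap_Tm, wmap_Tm, frm_Tm hf, frm_Tm hf]
      exact congrArg (_ * ·) (map_frm hf y _ _))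
  map_one' := el_ext_Tm i fun u w => by rw [ofPreserves_apply, wmap_Tm]; rfl
  map_mul' y z := el_ext_Tm i fun u w => by
    simp only [ofPreserves_apply, Subgroup.coe_mul, LinearEquiv.mul_apply, wmap_Tm]
    simp

theorem wl_Tm (i : Fin (t + 1)) (y : OQ (qT f t)) (u : Ud F k) (w : Vt F k t) :
    (wl hf i y : Vt F k (t + 1) ≃ₗ[F] Vt F k (t + 1)) (Tm i u w) =
      Tm i u ((y : Vt F k t ≃ₗ[F] Vt F k t) w) := by
  show ((ofPreserves (qT_nd hf) _ _ : OQ (qT f (t + 1))) : Vt F k (t + 1) ≃ₗ[F] Vt F k (t + 1)) _ = _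
  rw [ofPreserves_apply, wmap_Tm]
  rfl

theorem slot_wl_comm (i : Fin (t + 1)) (a : OQ (qU f)) (y : OQ (qT f t)) :
    Commute (slot hf i a) (wl hf i y) := el_ext_Tm i fun u w => by
  simp only [Subgroup.coe_mul, LinearEquiv.mul_apply, wl_Tm, slot_Tm_self]

theorem wl_slot (i : Fin (t + 1)) (j : Fin t) (u : OQ (qU f)) :
    wl hf i (slot hf j u) = slot hf (i.succAbove j) u := el_ext_Tm i fun a w => by
  rw [wl_Tm, slot_Tm_succAbove]

theorem wl_commutator (i : Fin (t + 1)) {y : OQ (qT f t)} (hy : y ∈ commutator (OQ (qT f t))) :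
    wl hf i y ∈ commutator (OQ (qT f (t + 1))) := by
  rw [commutator_def] at hy ⊢
  have h1 := Subgroup.mem_map_of_mem (wl hf i) hy
  rw [Subgroup.map_commutator] at h1
  exact Subgroup.commutator_mono le_top le_top h1

/-- The products of elements of the single factors. -/
noncomputable def slots (t : ℕ) : Subgroup (OQ (qT f t)) := ⨆ l, (slot hf l).range

theorem slot_mem_slots (l : Fin t) (u : OQ (qU f)) : slot hf l u ∈ slots hf t :=
  Subgroup.mem_iSup_of_mem l ⟨u, rfl⟩

theorem wl_mem_slots (i : Fin (t + 1)) {y : OQ (qT f t)} (hy : y ∈ slots hf t) :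
    wl hf i y ∈ slots hf (t + 1) := by
  have h : slots hf t ≤ (slots hf (t + 1)).comap (wl hf i) := iSup_le fun l => by
    rintro _ ⟨u, rfl⟩
    rw [Subgroup.mem_comap, wl_slot]
    exact slot_mem_slots hf _ u
  exact h hy

theorem wl_injective (hk : 1 ≤ k) (i : Fin (t + 1)) : Function.Injective (wl hf i) := by
  intro y z h
  obtain ⟨a, ha⟩ := exists_aniso_vec hf hk
  refine Subtype.ext (LinearEquiv.ext fun w => (tensor hf i).T_injective' (a := a) (fun h0 => ha (by simp [h0])) ?_)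
  rw [← wl_Tm hf, ← wl_Tm hf, h]

/-- Standard on the other factors gives standard. -/
theorem isStd_of_el {i : Fin (t + 1)} {x : OQ (qT f (t + 1))} {A : Module.End F (Ud F k)}
    {B : Module.End F (Vt F k t)} (e : OrthTensor.Square.El (Tm i) x A B) {π : Equiv.Perm (Fin t)}
    {gs : Fin t → Module.End F (Ud F k)} (hB : ∀ η, B (pvec η) = pvec fun j => gs j (η (π⁻¹ j))) : IsStd x := by
  refine ⟨extPerm i π, i.insertNth A gs, fun ξ => ?_⟩
  rw [pvec_eq_Tm i ξ, e, hB, Tm_pvec]
  congr 1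
  funext l
  have hinv : ∀ l, (extPerm i π)⁻¹ l = extPerm i π⁻¹ l := fun l => by
    rw [Equiv.Perm.inv_eq_iff_eq]
    rcases Fin.eq_self_or_eq_succAbove i l with hl | ⟨j, hl⟩
    · rw [hl, extPerm_self, extPerm_self]
    · rw [hl, extPerm_succAbove, extPerm_succAbove]
      simp
  rcases Fin.eq_self_or_eq_succAbove i l with hl | ⟨j, hl⟩
  · rw [hl, hinv, extPerm_self, Fin.insertNth_apply_same, Fin.insertNth_apply_same]
  · rw [hl, hinv, extPerm_succAbove, Fin.insertNth_apply_succAbove, Fin.insertNth_apply_succAbove]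

theorem isStd_wl {i : Fin (t + 1)} {y : OQ (qT f t)} (hy : IsStd y) : IsStd (wl hf i y) := by
  obtain ⟨π, gs, e⟩ := hy
  exact isStd_of_el (A := 1) (B := ((y : Vt F k t ≃ₗ[F] Vt F k t) : Vt F k t →ₗ[F] Vt F k t))
    (fun a w => wl_Tm hf i y a w) e

/-- With one further factor every product is standard. -/
theorem isStd_of_tens_one {i : Fin 2} {x : OQ (qT f 2)} (hx : Tens (Tm i) x) : IsStd x := by
  obtain ⟨A, B, e⟩ := hx
  refine isStd_of_el e (π := 1) (gs := fun _ => LinearMap.funLeft F F (fun a (_ : Fin 1) => a) ∘ₗ B ∘ₗ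
    LinearMap.funLeft F F (fun a : Fin 1 → Fin k => a 0)) fun η => ?_
  have hp : LinearMap.funLeft F F (fun a : Fin 1 → Fin k => a 0) (η 0) = pvec η := funext fun a => by
    simp [pvec, LinearMap.funLeft_apply]
  funext a
  simp only [pvec, Fin.prod_univ_one, LinearMap.comp_apply, LinearMap.funLeft_apply]
  rw [show (1 : Equiv.Perm (Fin 1))⁻¹ 0 = 0 from rfl, hp]
  exact congrArg (B (pvec η)) (funext fun j => by rw [Fin.fin_one_eq_zero j])

/-- A product of two isometries, from any product. -/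
theorem exists_slot_wl (hk : 3 ≤ k) (hko : Odd k) {i : Fin (t + 1)} {x : OQ (qT f (t + 1))}
    (hx : Tens (Tm i) x) : ∃ (a : OQ (qU f)) (y : OQ (qT f t)), x = slot hf i a * wl hf i y := by
  obtain ⟨A, B, e⟩ := hx
  obtain ⟨z, hz⟩ := exists_aniso_vec hf (k := k) (by omega)
  have hAB : ∀ a b w r, f (A a) (A b) * frm f t (B w) (B r) = f a b * frm f t w r := fun a b w r => by
    rw [← frm_Tm hf i, ← frm_Tm hf i, ← e, ← e, map_frm hf]
  set w₀ : Vt F k t := pvec fun _ => z
  have hw₀ : frm f t w₀ w₀ ≠ 0 := by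
    rw [frm_pvec]; exact Finset.prod_ne_zero_iff.2 fun _ _ => hz
  have h0 := hAB z z w₀ w₀
  set l := frm f t w₀ w₀ / frm f t (B w₀) (B w₀)
  have hB0 : frm f t (B w₀) (B w₀) ≠ 0 := fun e0 => mul_ne_zero hz hw₀ (by rw [← h0, e0, mul_zero])
  have hl : l ≠ 0 := div_ne_zero hw₀ hB0
  have hA : ∀ a b, f (A a) (A b) = l * f a b := fun a b => by
    have := hAB a b w₀ w₀
    simp only [l]
    field_simp
    linear_combination this
  have hB : ∀ w r, frm f t (B w) (B r) = l⁻¹ * frm f t w r := fun w r =>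
    mul_left_cancel₀ (mul_ne_zero hl hz) (by
      have := hAB z z w r
      rw [hA] at this
      rw [this]
      field_simp)
  obtain ⟨r, hr⟩ : IsSquare l := OrthTensor.isSquare_of_sim hf.nd hl hA (by rwa [finrank_fin_fun])
  have hr0 : r ≠ 0 := fun e0 => hl (by rw [hr, e0, mul_zero])
  have hA' : ∀ a b, f ((r⁻¹ • A) a) ((r⁻¹ • A) b) = f a b := fun a b => by
    simp only [LinearMap.smul_apply, map_smul, hA, smul_eq_mul, hr]
    field_simp
  have hB' : ∀ w r', frm f t ((r • B) w) ((r • B) r') = frm f t w r' := fun w r' => by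
    simp only [LinearMap.smul_apply, map_smul, hB, smul_eq_mul, hr]
    field_simp
  refine ⟨mkU hf hA', ofPreserves (qT_nd hf) (r • B) (preserves_qT hf fun ξ η => hB' _ _), el_ext_Tm i fun u w => ?_⟩
  rw [e, Subgroup.coe_mul, LinearEquiv.mul_apply, wl_Tm, slot_Tm_self, mkU_apply, ofPreserves_apply]
  simp [hr0, smul_smul]

end

variable [Finite F]

/-- The setting of the induction on the number of factors, in odd dimension. -/
structure CtxBase (hf : SymForm f) (X : Subgroup (OQ (qT f (t + 1)))) : Prop where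
  k3 : 3 ≤ k
  kodd : Odd k
  t1 : 1 ≤ t
  q3 : Nat.card F = 3 → 5 ≤ k
  base : ∀ x ∈ commutator (OQ (qT f (t + 1))), IsStd x → x ∈ X
  le : X ≤ commutator (OQ (qT f (t + 1)))
  proper : ¬ commutator (OQ (qT f (t + 1))) ≤ X
  ih : ∀ Y : Subgroup (OQ (qT f t)), Y ≤ commutator (OQ (qT f t)) →
    (∀ y ∈ commutator (OQ (qT f t)), IsStd y → y ∈ Y) →
    commutator (OQ (qT f t)) ≤ Y ∨ ∀ y ∈ Y, IsStd y

namespace CtxBase

variable {hf : SymForm f} {X : Subgroup (OQ (qT f (t + 1)))} (C : CtxBase hf X)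
include C

theorem five : 5 ≤ finrank F (Vt F k (t + 1)) := five_le hf C.k3 (by have := C.t1; omega)

theorem five_W (ht : 2 ≤ t) : 5 ≤ finrank F (Vt F k t) := five_le hf C.k3 ht

theorem seven_W (ht : 2 ≤ t) : 7 ≤ finrank F (Vt F k t) := by
  rw [finrank_Vt]
  calc 7 ≤ 3 ^ 2 := by norm_num
    _ ≤ k ^ 2 := Nat.pow_le_pow_left C.k3 2
    _ ≤ k ^ t := Nat.pow_le_pow_right (by have := C.k3; omega) ht

theorem finiteX : Finite (OQ (qT f (t + 1))) := finite_el hf

theorem small : OrthTensor.Small f where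
  form := hf
  three := by rw [finrank_fin_fun]; exact C.k3
  big h := by
    classical
    rw [finrank_fin_fun]
    have hc : Nat.card F ≤ 3 := by
      have := Fintype.ofFinite F
      rw [Nat.card_eq_fintype_card, ← Finset.card_univ]
      exact (Finset.card_le_card (t := ({0, 1, -1} : Finset F)) fun u _ => by simpa using h u).trans Finset.card_le_three
    have h3 : 3 ≤ Nat.card F := by
      have := Fintype.ofFinite F
      have h2 := hf.two
      have : ({0, 1, -1} : Finset F).card = 3 := Finset.card_eq_three.2 ⟨0, 1, -1, zero_ne_one,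
        (neg_ne_zero.2 one_ne_zero).symm, fun h => h2 (by linear_combination h), rfl⟩
      rw [Nat.card_eq_fintype_card]
      exact this ▸ Finset.card_le_univ _
    have := C.q3 (le_antisymm hc h3)
    omega
  four h := by
    rw [finrank_fin_fun] at h
    have := C.kodd
    rw [h] at this
    exact absurd this (by decide)

theorem isStd_inv {x : OQ (qT f (t + 1))} (hx : IsStd x) : IsStd x⁻¹ := by
  have := C.finiteX
  exact IsStd.inv hf hx

/-- Every element of `Ω` of the other factors has a standard companion class. -/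
theorem exists_class_W (ht : 2 ≤ t) (j : Fin t) (y : OQ (qT f t)) :
    ∃ u : OQ (qU f), slot hf j u * y ∈ commutator (OQ (qT f t)) := by
  obtain ⟨s, rfl⟩ : ∃ s, t = s + 1 := ⟨t - 1, by omega⟩
  exact exists_class hf C.k3 C.kodd (C.five_W ht) j y

theorem slot_pair_mem (i j : Fin (t + 1)) (u : OQ (qU f)) : slot hf i u * slot hf j u ∈ X :=
  C.base _ (slot_slot_mem hf C.five i j u) ((isStd_slot hf i u).mul (isStd_slot hf j u))

theorem slot_comm_mem (i : Fin (t + 1)) (a b : OQ (qU f)) : slot hf i (a * b * a⁻¹ * b⁻¹) ∈ X :=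
  C.base _ (by simp only [map_mul, map_inv]; exact comm_conj hf _ _) (isStd_slot hf i _)

/-- The elements of `Ω` on the other factors. -/
theorem wl_base {i : Fin (t + 1)} {y : OQ (qT f t)} (hy : y ∈ commutator (OQ (qT f t))) (hs : IsStd y) :
    wl hf i y ∈ X :=
  C.base _ (wl_commutator hf i hy) (isStd_wl hf hs)

/-- **A product at one factor lying in the group is standard.** -/
theorem tens_std {i : Fin (t + 1)} {x : OQ (qT f (t + 1))} (hx : x ∈ X) (hT : Tens (Tm i) x) : IsStd x := by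
  classical
  have hk := C.k3
  obtain ⟨a, y₀, hay⟩ := exists_slot_wl hf hk C.kodd hT
  rcases Nat.lt_or_ge t 2 with ht | ht
  · obtain rfl : t = 1 := by have := C.t1; omega
    rw [hay]
    exact (isStd_slot hf i a).mul (isStd_wl hf (isStd_level_one y₀))
  by_contra hns
  refine C.proper ?_
  let j₀ : Fin t := ⟨0, by omega⟩
  have norm : ∀ (a : OQ (qU f)) (y : OQ (qT f t)), ∃ (a' : OQ (qU f)) (y' : OQ (qT f t)) (g : OQ (qT f (t + 1))),
      g ∈ X ∧ g ∈ commutator (OQ (qT f (t + 1))) ∧ IsStd g ∧ y' ∈ commutator (OQ (qT f t)) ∧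
        g * (slot hf i a * wl hf i y) = slot hf i a' * wl hf i y' := by
    intro a y
    obtain ⟨u, hu⟩ := C.exists_class_W ht j₀ y
    refine ⟨u * a, slot hf j₀ u * y, slot hf i u * slot hf (i.succAbove j₀) u, C.slot_pair_mem _ _ u,
      slot_slot_mem hf C.five _ _ u, (isStd_slot hf _ u).mul (isStd_slot hf _ u), hu, ?_⟩
    rw [← wl_slot hf i j₀ u, map_mul, map_mul]
    calc slot hf i u * wl hf i (slot hf j₀ u) * (slot hf i a * wl hf i y)
        = slot hf i u * (wl hf i (slot hf j₀ u) * slot hf i a) * wl hf i y := by group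
      _ = slot hf i u * (slot hf i a * wl hf i (slot hf j₀ u)) * wl hf i y := by
          rw [(slot_wl_comm hf i a (slot hf j₀ u)).eq]
      _ = _ := by group
  let Pr : Subgroup (OQ (qT f t)) :=
    { carrier := {y | y ∈ commutator (OQ (qT f t)) ∧ ∃ a, slot hf i a * wl hf i y ∈ X}
      one_mem' := ⟨one_mem _, 1, by simp [X.one_mem]⟩
      mul_mem' := by
        rintro y z ⟨hy, a, ha⟩ ⟨hz, b, hb⟩
        refine ⟨mul_mem hy hz, a * b, ?_⟩
        have h := X.mul_mem ha hb
        convert h using 1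
        rw [map_mul, map_mul]
        calc slot hf i a * slot hf i b * (wl hf i y * wl hf i z)
            = slot hf i a * (slot hf i b * wl hf i y) * wl hf i z := by group
          _ = slot hf i a * (wl hf i y * slot hf i b) * wl hf i z := by rw [(slot_wl_comm hf i b y).eq]
          _ = _ := by group
      inv_mem' := by
        rintro y ⟨hy, a, ha⟩
        refine ⟨inv_mem hy, a⁻¹, ?_⟩
        have h := X.inv_mem ha
        rwa [_root_.mul_inv_rev, ← map_inv, ← map_inv, ← (slot_wl_comm hf i a⁻¹ y⁻¹).eq] at h }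
  obtain ⟨a₁, y₁, g₁, hg₁, -, hg₁s, hy₁, e₁⟩ := norm a y₀
  have hPr : commutator (OQ (qT f t)) ≤ Pr := by
    refine (C.ih Pr (fun y hy => hy.1) fun y hy hs => ⟨hy, 1, by simpa using C.wl_base hy hs⟩).resolve_right fun h => ?_
    have h1 : slot hf i a₁ * wl hf i y₁ ∈ X := by rw [← e₁, ← hay]; exact X.mul_mem hg₁ hx
    have h2 : IsStd (g₁ * x) := by
      rw [hay, e₁]; exact (isStd_slot hf i a₁).mul (isStd_wl hf (h _ ⟨hy₁, a₁, h1⟩))
    refine hns ?_
    have := (C.isStd_inv hg₁s).mul h2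
    rwa [inv_mul_cancel_left] at this
  have hW : ∀ y ∈ commutator (OQ (qT f t)), wl hf i y ∈ X := by
    intro y hy
    have hperf := commutator_Omega_eq_top (qT_nd hf) (C.seven_W ht)
    have h1 : (⟨y, hy⟩ : commutator (OQ (qT f t))) ∈ commutator (commutator (OQ (qT f t))) := by
      rw [hperf]; trivial
    have hle : commutator (commutator (OQ (qT f t))) ≤
        X.comap ((wl hf i).comp (commutator (OQ (qT f t))).subtype) := by
      refine Subgroup.commutator_le.2 fun p _ q _ => ?_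
      obtain ⟨-, b, hb⟩ := hPr p.2
      obtain ⟨-, c, hc⟩ := hPr q.2
      have h := X.mul_mem (X.mul_mem (X.mul_mem hb hc) (X.inv_mem hb)) (X.inv_mem hc)
      rw [← comm_prod (slot hf i) (wl hf i) (slot_wl_comm hf i)] at h
      have h' := (X.mul_mem_cancel_left (C.slot_comm_mem i b c)).1 h
      rw [Subgroup.mem_comap, commutatorElement_def]
      simpa using h'
    have h2 := Subgroup.mem_comap.1 (hle h1)
    rw [MonoidHom.comp_apply, Subgroup.coe_subtype] at h2
    exact h2
  have hbase : ∀ g ∈ commutator (OQ (qT f (t + 1))), Tens (Tm i) g → g ∈ X := by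
    intro g hg hgT
    obtain ⟨b, z, hbz⟩ := exists_slot_wl hf hk C.kodd hgT
    obtain ⟨b', z', g₂, hg₂, hg₂c, -, hz', e₂⟩ := norm b z
    have h1 : slot hf i b' ∈ commutator (OQ (qT f (t + 1))) := by
      have := mul_mem (mul_mem hg₂c (hbz ▸ hg)) (inv_mem (wl_commutator hf i hz'))
      rwa [e₂, mul_inv_cancel_right] at this
    have h2 : g₂ * g ∈ X := by
      rw [hbz, e₂]; exact X.mul_mem (C.base _ h1 (isStd_slot hf i b')) (hW z' hz')
    exact (X.mul_mem_cancel_left hg₂).1 h2
  have hkt : k < k ^ t := by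
    calc k = k ^ 1 := (pow_one k).symm
      _ < k ^ t := Nat.pow_lt_pow_right (by omega) ht
  rcases (tensor hf i).dichotomy C.small (by rw [finrank_fin_fun, finrank_Vt]; exact hkt) (C.five_W ht)
    (Or.inl (by rw [finrank_fin_fun]; exact C.kodd)) hbase C.le with h | h
  · rwa [eichGroup_eq_commutator (qT_nd hf) C.five] at h
  exfalso
  set p := pel hf (Equiv.swap i (i.succAbove j₀))
  obtain ⟨u, hu⟩ := exists_class hf hk C.kodd C.five i p
  obtain ⟨A, B, hAB⟩ := h _ (C.base _ hu ((isStd_slot hf i u).mul (isStd_pel hf _)))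
  obtain ⟨z, hz⟩ := exists_aniso_vec hf (k := k) (by omega)
  have hz0 : z ≠ 0 := fun h0 => hz (by simp [h0])
  set w : Vt F k t := pvec fun _ => z
  have key : ∀ b : Ud F k, Tm i (A b) (B w) =
      Tm i ((u : Ud F k ≃ₗ[F] Ud F k) z) (pvec (Function.update (fun _ => z) j₀ b)) := by
    intro b
    rw [← hAB, Subgroup.coe_mul, LinearEquiv.mul_apply, Tm_pvec, pel_pvec, slot_pvec, Tm_pvec]
    congr 1
    funext l
    rcases Fin.eq_self_or_eq_succAbove i l with hl | ⟨j, hl⟩
    · simp [hl]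
    · rw [hl, Function.update_of_ne (Fin.succAbove_ne i j), Fin.insertNth_apply_succAbove]
      by_cases hj : j = j₀
      · subst hj; simp
      · rw [Function.update_of_ne hj, Equiv.swap_inv, Equiv.swap_apply_of_ne_of_ne (Fin.succAbove_ne i j)
          (fun e => hj (Fin.succAbove_right_injective e))]
        simp
  have hBw : B w ≠ 0 := by
    intro h0
    have h1 := key z
    rw [h0, map_zero, Function.update_eq_self] at h1
    exact pvec_ne_zero (fun _ => hz0) ((tensor hf i).T_eq_zero' (by simpa using hz0) h1.symm)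
  obtain ⟨r, hr⟩ := (tensor hf i).exists_partner hBw
  have hA : ∀ b, ∃ s : F, A b = s • (u : Ud F k ≃ₗ[F] Ud F k) z := fun b => by
    have h1 := congrArg ((tensor hf i).C r) (key b)
    rw [(tensor hf i).C_T, (tensor hf i).C_T] at h1
    rw [hr, one_smul] at h1
    exact ⟨_, h1⟩
  have hAinj : ∀ b, A b = 0 → b = 0 := fun b hb => by
    have h1 := hAB b w
    rw [hb, map_zero, LinearMap.zero_apply, LinearEquiv.map_eq_zero_iff] at h1
    exact (tensor hf i).T_eq_zero (pvec_ne_zero fun _ => hz0) h1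
  obtain ⟨c, hc0, hc⟩ := exists_not_prop (F := F) (k := k) (by omega) z
  obtain ⟨s₁, h₁⟩ := hA z
  obtain ⟨s₂, h₂⟩ := hA c
  have h3 : s₂ • z = s₁ • c := sub_eq_zero.1 (hAinj _ (by rw [map_sub, map_smul, map_smul, h₁, h₂, smul_smul,
    smul_smul, mul_comm, sub_self]))
  by_cases hs : s₁ = 0
  · exact hz0 (hAinj _ (by rw [h₁, hs, zero_smul]))
  · exact hc (s₁⁻¹ * s₂) (by rw [mul_smul, h3, inv_smul_smul₀ hs])

/-- Torus elements of two factors with classes multiplying to a square. -/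
theorem tor_pair_mem (i j : Fin (t + 1)) (P P' : Fr f) {m m' : F} (hm : m ≠ 0) (hm' : m' ≠ 0)
    (h : IsSquare (m * m')) : slot hf i (P.tor hf hm) * slot hf j (P'.tor hf hm') ∈ X := by
  refine C.base _ ?_ ((isStd_slot hf i _).mul (isStd_slot hf j _))
  obtain ⟨p₁, s₁⟩ := tor_class hf C.kodd C.five i P hm
  obtain ⟨p₂, s₂⟩ := tor_class hf C.kodd C.five j P' hm'
  rw [mem_commutator_iff (qT_nd hf) (reflTop hf C.five), par_mul (qT_nd hf) (reflTop hf C.five),
    spinor_mul (qT_nd hf) (reflTop hf C.five), p₁, p₂, s₁, s₂, ← sqc_mul hm hm',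
    (sqc_eq_one_iff (mul_ne_zero hm hm')).2 h]
  exact ⟨add_zero _, rfl⟩

theorem hk5 : k = 3 ∨ 5 ≤ k := by
  have := C.k3
  have h4 : k ≠ 4 := fun e => absurd (e ▸ C.kodd) (by decide)
  omega

end CtxBase

/-- What the lemmas which do not depend on the parity of the dimension need. -/
structure Core (hf : SymForm f) (X : Subgroup (OQ (qT f (t + 1)))) : Prop where
  k3 : 3 ≤ k
  hk : k = 3 ∨ 4 ≤ k
  hq : k = 3 → 5 ≤ Nat.card F
  thin : k = 4 → OrthTensorFour.Thin f
  small : OrthTensor.Small f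
  t1 : 1 ≤ t
  base : ∀ x ∈ commutator (OQ (qT f (t + 1))), IsStd x → x ∈ X
  le : X ≤ commutator (OQ (qT f (t + 1)))
  proper : ¬ commutator (OQ (qT f (t + 1))) ≤ X
  tor_pair_mem : ∀ (i j : Fin (t + 1)) (P P' : Fr f) {m m' : F} (hm : m ≠ 0) (hm' : m' ≠ 0),
    IsSquare (m * m') → slot hf i (P.tor hf hm) * slot hf j (P'.tor hf hm') ∈ X
  comp : ∀ (i : Fin (t + 1)) (P : Fr f) {z : Ud F k}, f P.d z = 0 → f P.e z = 0 → f z z ≠ 0 →
    ∀ g ∈ slots hf (t + 1), ∃ (c : OQ (qU f)) (m ε : F), m ≠ 0 ∧ ε * ε = 1 ∧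
      (c : Ud F k ≃ₗ[F] Ud F k) P.d = m • P.d ∧ (c : Ud F k ≃ₗ[F] Ud F k) P.e = m⁻¹ • P.e ∧
      (∀ y, f P.d y = 0 → f P.e y = 0 → f z y = 0 → (c : Ud F k ≃ₗ[F] Ud F k) y = y) ∧
      (c : Ud F k ≃ₗ[F] Ud F k) z = ε • z ∧ slot hf i c * g ∈ commutator (OQ (qT f (t + 1)))
  tens_std : ∀ {i : Fin (t + 1)} {x : OQ (qT f (t + 1))}, x ∈ X → Tens (Tm i) x → IsStd x
  refl_mem : k = 4 → 2 ≤ t → ∀ (l : Fin (t + 1)) {c : Ud F k} (hc : f c c ≠ 0), slot hf l (rfU hf hc) ∈ X

/-- The setting in odd dimension, with what follows from it. -/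
structure Ctx (hf : SymForm f) (X : Subgroup (OQ (qT f (t + 1)))) : Prop extends CtxBase hf X, Core hf X

namespace Core

variable {hf : SymForm f} {X : Subgroup (OQ (qT f (t + 1)))} (C : Core hf X)
include C

theorem five : 5 ≤ finrank F (Vt F k (t + 1)) := five_le hf C.k3 (by have := C.t1; omega)

theorem finiteX : Finite (OQ (qT f (t + 1))) := finite_el hf

theorem isStd_inv {x : OQ (qT f (t + 1))} (hx : IsStd x) : IsStd x⁻¹ := by
  have := C.finiteX
  exact IsStd.inv hf hx

end Core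

end CfsgLib.Geo.OrthWreath
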