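/-
Additive sets of maps invariant under the factor groups contain monomials of elementary maps.
-/
import Cfsg.Agent.Lib.Geo.OrthWreath.Frame
import Cfsg.Agent.Lib.Geo.OrthWreath.Ctx

set_option autoImplicit false
set_option linter.unusedSectionVars false

namespace CfsgLib.Geo.OrthWreath

open CfsgLib.Classical CfsgLib.Classical.Quad Module
open CfsgLib.Geo.MixTensor (SymForm)
open CfsgLib.Geo.OrthTensor (sv)
open LinearMap (BilinForm)

variable {F : Type*} [Field F] {k t : ℕ} {f : BilinForm F (Ud F k)}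

/-! ### Maps split at one factor -/

theorem wmap_add (i : Fin (t + 1)) (A B : Module.End F (Vt F k t)) : wmap i (A + B) = wmap i A + wmap i B :=
  Tm_ext i fun u w => by simp [wmap_Tm]

theorem wmap_one (i : Fin (t + 1)) : wmap i (1 : Module.End F (Vt F k t)) = 1 :=
  Tm_ext i fun u w => by simp [wmap_Tm]

theorem wmap_emb (i : Fin (t + 1)) (j : Fin t) (A : Module.End F (Ud F k)) :
    wmap i (emb j A) = emb (i.succAbove j) A := Tm_ext i fun u w => by rw [wmap_Tm, emb_Tm_succAbove]

/-- A product of a map of one factor and a map of the others. -/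
noncomputable def em (i : Fin (t + 1)) (M : Module.End F (Ud F k)) (A : Module.End F (Vt F k t)) :
    Module.End F (Vt F k (t + 1)) := emb i M * wmap i A

theorem em_Tm (i : Fin (t + 1)) (M : Module.End F (Ud F k)) (A : Module.End F (Vt F k t)) (u : Ud F k)
    (w : Vt F k t) : em i M A (Tm i u w) = Tm i (M u) (A w) := by
  rw [em, Module.End.mul_apply, wmap_Tm, emb_Tm_self]

theorem em_mul (i : Fin (t + 1)) (M N : Module.End F (Ud F k)) (A B : Module.End F (Vt F k t)) :
    em i M A * em i N B = em i (M * N) (A * B) :=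
  Tm_ext i fun u w => by simp only [Module.End.mul_apply, em_Tm]

theorem em_add (i : Fin (t + 1)) (M : Module.End F (Ud F k)) (A B : Module.End F (Vt F k t)) :
    em i M (A + B) = em i M A + em i M B := by rw [em, em, em, wmap_add, mul_add]

theorem em_add_left (i : Fin (t + 1)) (M N : Module.End F (Ud F k)) (A : Module.End F (Vt F k t)) :
    em i (M + N) A = em i M A + em i N A := by rw [em, em, em, map_add, add_mul]

theorem em_smul (i : Fin (t + 1)) (M : Module.End F (Ud F k)) (c : F) (A : Module.End F (Vt F k t)) :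
    em i M (c • A) = c • em i M A := Tm_ext i fun u w => by simp [em_Tm]

theorem em_smul_left (i : Fin (t + 1)) (M : Module.End F (Ud F k)) (c : F) (A : Module.End F (Vt F k t)) :
    em i (c • M) A = c • em i M A := Tm_ext i fun u w => by simp [em_Tm]

theorem em_zero (i : Fin (t + 1)) (M : Module.End F (Ud F k)) : em i M (0 : Module.End F (Vt F k t)) = 0 :=
  Tm_ext i fun u w => by simp [em_Tm]

theorem em_one (i : Fin (t + 1)) : em i (1 : Module.End F (Ud F k)) (1 : Module.End F (Vt F k t)) = 1 :=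
  Tm_ext i fun u w => by simp [em_Tm]

theorem pmap_insert (i : Fin (t + 1)) (M : Module.End F (Ud F k)) (Ms : Fin t → Module.End F (Ud F k)) :
    pmap (i.insertNth M Ms) = em i M (pmap Ms) := pvec_ext fun ξ => by
  conv_rhs => rw [pvec_eq_Tm i, em_Tm, pmap_pvec, Tm_pvec]
  rw [pmap_pvec]
  congr 1
  funext l
  rcases Fin.eq_self_or_eq_succAbove i l with rfl | ⟨j, rfl⟩ <;> simp

theorem em_ne_zero (hf : SymForm f) (i : Fin (t + 1)) {M : Module.End F (Ud F k)} (hM : M ≠ 0)
    {A : Module.End F (Vt F k t)} (hA : A ≠ 0) : em i M A ≠ 0 := by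
  obtain ⟨u, hu⟩ : ∃ u, M u ≠ 0 := by
    by_contra! h
    exact hM (LinearMap.ext fun u => by simp [h])
  obtain ⟨w, hw⟩ : ∃ w, A w ≠ 0 := by
    by_contra! h
    exact hA (LinearMap.ext fun w => by simp [h])
  intro h
  have h1 := LinearMap.congr_fun h (Tm i u w)
  rw [em_Tm, LinearMap.zero_apply] at h1
  exact hw ((tensor hf i).T_eq_zero' hu h1)

/-! ### Conjugation -/

section cj

variable {V : Type*} [AddCommGroup V] [Module F V] {Q : QuadraticForm F V}

/-- The linear map of an element. -/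
def lm (g : OQ Q) : Module.End F V := ((g : V ≃ₗ[F] V) : V →ₗ[F] V)

theorem lm_mul (g h : OQ Q) : lm (g * h) = lm g * lm h := rfl

theorem lm_one : lm (1 : OQ Q) = 1 := rfl

theorem lm_mul_inv (g : OQ Q) : lm g * lm g⁻¹ = 1 := by rw [← lm_mul, mul_inv_cancel, lm_one]

theorem lm_inv_mul (g : OQ Q) : lm g⁻¹ * lm g = 1 := by rw [← lm_mul, inv_mul_cancel, lm_one]

/-- Conjugation of a map. -/
def cj (g : OQ Q) (A : Module.End F V) : Module.End F V := lm g * A * lm g⁻¹

theorem cj_mul (g h : OQ Q) (A : Module.End F V) : cj (g * h) A = cj g (cj h A) := by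
  simp only [cj, lm_mul, _root_.mul_inv_rev, mul_assoc]

theorem cj_one (A : Module.End F V) : cj (1 : OQ Q) A = A := by simp [cj, lm_one]

theorem cj_add (g : OQ Q) (A B : Module.End F V) : cj g (A + B) = cj g A + cj g B := by
  simp only [cj, mul_add, add_mul]

theorem cj_prod (g : OQ Q) (A B : Module.End F V) : cj g (A * B) = cj g A * cj g B := by
  simp only [cj]
  rw [show lm g * A * lm g⁻¹ * (lm g * B * lm g⁻¹) = lm g * A * (lm g⁻¹ * lm g) * B * lm g⁻¹ by
    simp only [mul_assoc], lm_inv_mul, mul_one]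
  simp only [mul_assoc]

theorem cj_smul (g : OQ Q) (c : F) (A : Module.End F V) : cj g (c • A) = c • cj g A := by
  simp only [cj, mul_smul_comm, smul_mul_assoc]

theorem cj_of_comm {g : OQ Q} {A : Module.End F V} (h : lm g * A = A * lm g) : cj g A = A := by
  rw [cj, h, mul_assoc, lm_mul_inv, mul_one]

theorem comm_of_cj {g : OQ Q} {A : Module.End F V} (h : cj g A = A) : lm g * A = A * lm g := by
  conv_rhs => rw [← h, cj, mul_assoc, lm_inv_mul, mul_one]

/-- Conjugation on tuples. -/
def cjHom (ι : Type*) (g : OQ Q) : (ι → Module.End F V) →+ (ι → Module.End F V) where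
  toFun Y a := cj g (Y a)
  map_zero' := funext fun a => by simp [cj]
  map_add' Y Z := funext fun a => cj_add g _ _

theorem cjHom_apply {ι : Type*} (g : OQ Q) (Y : ι → Module.End F V) (a : ι) : cjHom ι g Y a = cj g (Y a) := rfl

/-- Commuting unipotent operators have a common fixed point modulo an invariant subgroup. -/
theorem exists_fixed {ι M : Type*} [AddCommGroup M] (T : ι → M →+ M) {p : ℕ} [Fact p.Prime]
    (hchar : ∀ m : M, p • m = 0) (hp : ∀ a m, ((T a)^[p]) m = m) (hc : ∀ a b m, T a (T b m) = T b (T a m))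
    (s : Finset ι) (Y K : AddSubgroup M) (hT : ∀ a, ∀ m ∈ Y, T a m ∈ Y) (hK : ∀ a, ∀ m ∈ K, T a m ∈ K)
    (hY : ∃ m ∈ Y, m ∉ K) : ∃ m ∈ Y, m ∉ K ∧ ∀ a ∈ s, T a m - m ∈ K := by
  classical
  induction s using Finset.induction with
  | empty => obtain ⟨m, hm, h0⟩ := hY; exact ⟨m, hm, h0, by simp⟩
  | @insert a s ha ih =>
    obtain ⟨m, hm, h0, hfix⟩ := ih
    let E : AddMonoid.End M := T a
    let D : AddMonoid.End M := E - 1
    have hzero : (p : AddMonoid.End M) = 0 := AddMonoidHom.ext fun x => by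
      rw [← nsmul_one p]
      exact hchar x
    have hEp : E ^ p = 1 := AddMonoidHom.ext fun x => by
      show (E ^ p) x = x
      rw [AddMonoid.End.coe_pow]
      exact hp a x
    have hDp : D ^ p = 0 := by
      obtain ⟨r, hr⟩ := Commute.exists_add_pow_prime_eq (Fact.out : p.Prime) (Commute.one_right D)
      rw [show D + 1 = E from sub_add_cancel E 1, hEp, hzero, one_pow, zero_mul, zero_mul, zero_mul, add_zero] at hr
      exact left_eq_add.1 (hr.trans (add_comm _ _))
    have hD : ∀ x, D x = T a x - x := fun _ => rfl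
    have hstep : ∀ j : ℕ, (D ^ j) m ∈ Y ∧ ∀ b ∈ s, T b ((D ^ j) m) - (D ^ j) m ∈ K := by
      intro j
      induction j with
      | zero => exact ⟨hm, hfix⟩
      | succ j ihj =>
        rw [pow_succ', show (D * D ^ j) m = D ((D ^ j) m) from rfl, hD]
        refine ⟨Y.sub_mem (hT a _ ihj.1) ihj.1, fun b hb => ?_⟩
        rw [map_sub, hc b a, sub_sub_sub_comm, ← map_sub]
        exact K.sub_mem (hK a _ (ihj.2 b hb)) (ihj.2 b hb)
    have hex : ∃ j, (D ^ j) m ∈ K := ⟨p, by rw [hDp]; exact K.zero_mem⟩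
    obtain ⟨j, hj⟩ : ∃ j, Nat.find hex = j + 1 := ⟨Nat.find hex - 1, by
      have : Nat.find hex ≠ 0 := fun h => h0 (by have := Nat.find_spec hex; rwa [h, pow_zero] at this)
      omega⟩
    refine ⟨(D ^ j) m, (hstep j).1, Nat.find_min hex (by omega), fun b hb => ?_⟩
    rcases Finset.mem_insert.1 hb with rfl | hb
    · have h := Nat.find_spec hex
      rw [hj, pow_succ', show (D * D ^ j) m = D ((D ^ j) m) from rfl, hD] at h
      exact h
    · exact (hstep j).2 b hb

end cj

/-! ### The elementary maps -/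

/-- The square of an isotropic vector. -/
def pd (f : BilinForm F (Ud F k)) (d : Ud F k) : Module.End F (Ud F k) := (f d).smulRight d

theorem pd_apply (d a : Ud F k) : pd f d a = f d a • d := rfl

/-- The skew map of two vectors. -/
def nf (f : BilinForm F (Ud F k)) (d z : Ud F k) : Module.End F (Ud F k) := (f d).smulRight z - (f z).smulRight d

theorem nf_apply (d z a : Ud F k) : nf f d z a = f d a • z - f z a • d := by simp [nf]

section

variable (hf : SymForm f)
include hf

theorem Fr.decomp (P : Fr f) (a : Ud F k) :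
    f P.d (a - f P.e a • P.d - f P.d a • P.e) = 0 ∧ f P.e (a - f P.e a • P.d - f P.d a • P.e) = 0 := by
  constructor <;> simp [P.dd, P.ee, P.de, P.ed hf]

/-- The maps commuting with the Siegel maps of a pair. -/
theorem commutant (hk : 3 ≤ k) (P : Fr f) {M : Module.End F (Ud F k)}
    (h : ∀ z, f P.d z = 0 → f P.e z = 0 → ∀ a, sv f P.d z (M a) = M (sv f P.d z a)) :
    ∃ ζ, f P.d ζ = 0 ∧ f P.e ζ = 0 ∧ M = f P.e (M P.d) • 1 + f P.e (M P.e) • pd f P.d + nf f P.d ζ ∧
      ∀ y, f P.d y = 0 → f P.e y = 0 → f y (M P.e) = f y ζ := by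
  have h2 := hf.two
  obtain ⟨z₀, hdz₀, hez₀, hz₀⟩ := P.exists_z hf hk
  set l := f P.e (M P.d)
  have key : ∀ z, f P.d z = 0 → f P.e z = 0 → ∀ a,
      f P.d (M a) • z - f z (M a) • P.d - (f z z / 2 * f P.d (M a)) • P.d =
        M (f P.d a • z - f z a • P.d - (f z z / 2 * f P.d a) • P.d) := by
    intro z h1 h2 a
    have h3 := h z h1 h2 a
    rw [OrthTensor.sv_apply, OrthTensor.sv_apply, add_sub_assoc, add_sub_assoc, add_sub_assoc, add_sub_assoc,
      map_add] at h3
    exact add_left_cancel h3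
  have sp : ∀ z, f P.d z = 0 → f P.e z = 0 → ∀ (a : Ud F k) (x : Ud F k), f x P.d = 0 → f x z ≠ 0 →
      f P.d a = 0 → f z a * f x (M P.d) = 0 → f P.d (M a) = 0 := by
    intro z h1 h2 a x hx1 hx2 ha hx3
    have h3 := congrArg (f x) (key z h1 h2 a)
    simp only [ha, zero_smul, zero_sub, sub_zero, mul_zero, map_neg, map_sub, map_smul, hx1, smul_eq_mul,
      hx3, neg_zero] at h3
    exact (mul_eq_zero.1 h3).resolve_right hx2
  have hz₀d : f z₀ P.d = 0 := by rw [hf.symm, hdz₀]
  have hMd : M P.d = l • P.d := by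
    have hdd : f P.d (M P.d) = 0 := sp z₀ hdz₀ hez₀ P.d z₀ hz₀d hz₀ P.dd (by rw [hz₀d, zero_mul])
    have hzd : ∀ z, f P.d z = 0 → f P.e z = 0 → f z (M P.d) = 0 := by
      intro z h1 h2'
      have h3 := congrArg (f P.e) (key z h1 h2' P.d)
      simpa [hdd, P.dd, P.ed hf, hf.symm P.d z, h1] using h3
    refine sub_eq_zero.1 (hf.nd.2 _ fun a => ?_)
    obtain ⟨g1, g2⟩ := P.decomp hf a
    have h4 := hzd _ g1 g2
    simp only [map_sub, map_smul, LinearMap.sub_apply, LinearMap.smul_apply, smul_eq_mul, hdd, mul_zero,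
      sub_zero] at h4
    simp only [map_sub, map_smul, smul_eq_mul, hf.symm P.d a, l]
    linear_combination h4
  have hMz : ∀ z, f P.d z = 0 → f P.e z = 0 → M z = l • z + f P.e (M z) • P.d := by
    intro z h1 h2'
    have hdm : f P.d (M z) = 0 := sp z₀ hdz₀ hez₀ z z₀ hz₀d hz₀ h1 (by rw [hMd, map_smul, hz₀d, smul_zero, mul_zero])
    have hzm : ∀ z', f P.d z' = 0 → f P.e z' = 0 → f z' (M z) = l * f z' z := by
      intro z' g1 g2
      have h3 := congrArg (f P.e) (key z' g1 g2 z)
      rw [show f P.d z = 0 from h1] at h3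
      simp only [hdm, zero_smul, zero_sub, mul_zero, sub_zero, map_neg, map_smul, hMd, map_sub, smul_eq_mul,
        P.ed hf, mul_one, neg_inj] at h3
      linear_combination h3
    refine sub_eq_zero.1 (hf.nd.2 _ fun a => ?_)
    obtain ⟨g1, g2⟩ := P.decomp hf a
    have h4 := hzm _ g1 g2
    simp only [map_sub, map_smul, LinearMap.sub_apply, LinearMap.smul_apply, smul_eq_mul, hdm, h1, h2',
      mul_zero, sub_zero] at h4
    simp only [map_sub, map_add, map_smul, smul_eq_mul, hf.symm P.d a]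
    linear_combination h4
  have hde : f P.d (M P.e) = l := by
    have h3 := congrArg (f z₀) (key z₀ hdz₀ hez₀ P.e)
    have hz₀e : f z₀ P.e = 0 := by rw [hf.symm, hez₀]
    obtain ⟨c, hcz⟩ : ∃ c : F, M z₀ = l • z₀ + c • P.d := ⟨_, hMz z₀ hdz₀ hez₀⟩
    simp only [P.de, one_smul, hz₀e, zero_smul, sub_zero, mul_one, map_sub, map_smul,
      hcz, hMd, map_add, smul_eq_mul, hz₀d, mul_zero, add_zero] at h3
    exact mul_right_cancel₀ hz₀ h3
  have hc : ∀ z, f P.d z = 0 → f P.e z = 0 → f P.e (M z) = -f z (M P.e) := by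
    intro z h1 h2'
    have h3 := congrArg (f P.e) (key z h1 h2' P.e)
    have hze : f z P.e = 0 := by rw [hf.symm, h2']
    obtain ⟨c, hcz⟩ : ∃ c : F, M z = l • z + c • P.d := ⟨_, hMz z h1 h2'⟩
    have hcv : f P.e (M z) = c := by rw [hcz]; simp [h2', P.ed hf]
    rw [hcv]
    simp only [P.de, one_smul, h2', hze, zero_smul, sub_zero, mul_one, map_sub, map_smul,
      hcz, hMd, map_add, smul_eq_mul, P.ed hf, hde, mul_zero, zero_add] at h3
    linear_combination -h3
  set g := f P.e (M P.e)
  set ζ := M P.e - l • P.e - g • P.d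
  have hζd : f P.d ζ = 0 := by simp [ζ, hde, P.de, P.dd]
  have hζe : f P.e ζ = 0 := by simp [ζ, g, P.ee, P.ed hf]
  have hzζ : ∀ y, f P.d y = 0 → f P.e y = 0 → f y (M P.e) = f y ζ := fun y h1 h2' => by
    simp [ζ, hf.symm P.d y, hf.symm P.e y, h1, h2']
  refine ⟨ζ, hζd, hζe, LinearMap.ext fun a => ?_, hzζ⟩
  obtain ⟨g1, g2⟩ := P.decomp hf a
  set y := a - f P.e a • P.d - f P.d a • P.e
  have hy : f ζ a = f ζ y := by simp [y, hf.symm P.d ζ, hf.symm P.e ζ, hζd, hζe]
  simp only [LinearMap.add_apply, LinearMap.smul_apply, Module.End.one_apply, pd_apply, nf_apply]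
  conv_lhs => rw [show a = y + f P.e a • P.d + f P.d a • P.e by simp only [y]; module]
  rw [map_add, map_add, map_smul, map_smul, hMd, hMz y g1 g2, hc y g1 g2, hzζ y g1 g2, hf.symm ζ y, ← hy,
    show M P.e = ζ + l • P.e + g • P.d by simp only [ζ]; module]
  simp only [y]
  module

end

end CfsgLib.Geo.OrthWreath
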