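/-
A map of a factor changed only by scalars by the Siegel maps of an isotropic vector commutes with them.
-/
import Cfsg.Agent.Lib.Geo.OrthWreath.Mono

set_option autoImplicit false
set_option linter.unusedSectionVars false

namespace CfsgLib.Geo.OrthWreath

open CfsgLib.Classical CfsgLib.Classical.Quad Module
open CfsgLib.Geo.MixTensor (SymForm)
open CfsgLib.Geo.OrthTensor (sv sv_apply)
open LinearMap (BilinForm)

variable {F : Type*} [Field F] [Finite F] {k : ℕ} {f : BilinForm F (Ud F k)}

variable (hf : SymForm f)
include hf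

/-- A small field has an element of square different from one. -/
theorem exists_sq_ne_one (hq : 5 ≤ Nat.card F) : ∃ s : F, s ≠ 0 ∧ s * s ≠ 1 := by
  classical
  by_contra! hc
  have := Fintype.ofFinite F
  have h : (Finset.univ : Finset F) ⊆ {0, 1, -1} := fun s _ => by
    by_cases hs : s = 0
    · simp [hs]
    · rcases mul_self_eq_one_iff.1 (hc s hs) with h | h <;> simp [h]
  have h' := (Finset.card_le_card h).trans Finset.card_le_three
  rw [Finset.card_univ, ← Nat.card_eq_fintype_card] at h'
  omega

/-- **No shift by scalars.** -/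
theorem shift_eq_zero (hk : 4 ≤ k ∨ 3 ≤ k ∧ 5 ≤ Nat.card F) (P : Fr f) {M : Module.End F (Ud F k)}
    {a : Ud F k → F}
    (h : ∀ z, f P.d z = 0 → f P.e z = 0 → ∀ v, sv f P.d z (M v) = M (sv f P.d z v) + a z • sv f P.d z v)
    {z : Ud F k} (hz : f P.d z = 0) (hez : f P.e z = 0) : a z = 0 := by
  have h2 := hf.two
  have hk3 : 3 ≤ k := by omega
  have hed := P.ed hf
  have hdd := P.dd
  -- the equation at the isotropic vector
  have key : ∀ z, f P.d z = 0 → f P.e z = 0 → f z z * f P.d (M P.d) = 0 ∧
      a z = -f z (M P.d) - f z z / 2 * f P.d (M P.d) := by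
    intro z g1 g2
    have g1' : f z P.d = 0 := by rw [hf.symm, g1]
    have e := h z g1 g2 P.d
    have e0 : sv f P.d z P.d = P.d := by simp [sv_apply, hdd, g1']
    rw [e0, sv_apply] at e
    have k1 := congrArg (f z) e
    have k2 := congrArg (f P.e) e
    simp only [map_add, map_sub, map_smul, smul_eq_mul, g1', hed, g2, mul_zero, sub_zero, add_zero, mul_one,
      zero_add] at k1 k2
    exact ⟨by linear_combination k1, by linear_combination -k2⟩
  obtain ⟨z₀, d0, e0', z00⟩ := P.exists_z hf hk3
  have hDd : f P.d (M P.d) = 0 := (mul_eq_zero.1 (key z₀ d0 e0').1).resolve_left z00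
  have ha : ∀ z, f P.d z = 0 → f P.e z = 0 → a z = -f z (M P.d) := fun z g1 g2 => by
    rw [(key z g1 g2).2, hDd, mul_zero, sub_zero]
  -- the equation at the partner
  have key2 : ∀ z, f P.d z = 0 → f P.e z = 0 →
      -f z (M P.e) - f P.e (M z) - f z z / 2 * (f P.d (M P.e) - f P.e (M P.d)) + a z * (f z z / 2) = 0 := by
    intro z g1 g2
    have g1' : f z P.d = 0 := by rw [hf.symm, g1]
    have g2' : f z P.e = 0 := by rw [hf.symm, g2]
    have e := h z g1 g2 P.e
    have e1 : sv f P.d z P.e = P.e + z - (f z z / 2) • P.d := by simp [sv_apply, P.de, g2']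
    rw [e1, sv_apply, map_sub, map_add, map_smul] at e
    have k1 := congrArg (f P.e) e
    simp only [map_add, map_sub, map_smul, smul_eq_mul, hed, g2, P.ee, mul_zero, add_zero, mul_one,
      zero_add] at k1
    linear_combination k1
  have cubic : ∀ z, f P.d z = 0 → f P.e z = 0 → -f z (M P.e) - f P.e (M z) + a z * (f z z / 2) = 0 := by
    intro z g1 g2
    have e1 := key2 z g1 g2
    have e2 := key2 (-z) (by simp [g1]) (by simp [g2])
    rw [ha (-z) (by simp [g1]) (by simp [g2])] at e2
    simp only [map_neg, LinearMap.neg_apply, neg_neg] at e2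
    rw [ha z g1 g2] at e1 ⊢
    refine (mul_eq_zero.1 ?_).resolve_left h2
    linear_combination e1 - e2
  have zero : ∀ z, f P.d z = 0 → f P.e z = 0 → f z z ≠ 0 → a z = 0 := by
    intro z g1 g2 gz
    have main : ∀ y, f P.d y = 0 → f P.e y = 0 → f z y = 0 → f y y ≠ 0 → a z = 0 := by
      intro y y1 y2 y3 yy
      have y3' : f y z = 0 := by rw [hf.symm, y3]
      have e1 := cubic (z + y) (by simp [g1, y1]) (by simp [g2, y2])
      have e2 := cubic (z - y) (by simp [g1, y1]) (by simp [g2, y2])
      have e3 := cubic z g1 g2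
      rw [ha (z + y) (by simp [g1, y1]) (by simp [g2, y2])] at e1
      rw [ha (z - y) (by simp [g1, y1]) (by simp [g2, y2])] at e2
      rw [ha z g1 g2] at e3
      simp only [map_add, map_sub, LinearMap.add_apply, LinearMap.sub_apply, y3, y3', add_zero, zero_add, sub_zero,
        zero_sub] at e1 e2
      rw [ha z g1 g2]
      refine (mul_eq_zero.1 (?_ : -f z (M P.d) * f y y = 0)).resolve_right yy
      linear_combination e1 + e2 - 2 * e3 + (f z (M P.d) * f y y) * (div_self h2)
    rcases hk with hk | ⟨-, hq⟩
    · obtain ⟨y, yy, yS⟩ := OrthTensor.exists_aniso_perp hf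
        (Submodule.span F ({P.d, P.e} : Set (Ud F k)) ⊔ Submodule.span F {z}) (fun x hx hxP => by
          obtain ⟨p, hp, q, hq, rfl⟩ := Submodule.mem_sup.1 hx
          obtain ⟨a₁, b₁, rfl⟩ := Submodule.mem_span_pair.1 hp
          obtain ⟨c₁, rfl⟩ := Submodule.mem_span_singleton.1 hq
          have e1 := hxP P.d (Submodule.mem_sup_left (Submodule.subset_span (Set.mem_insert _ _)))
          have e2 := hxP P.e (Submodule.mem_sup_left (Submodule.subset_span (Set.mem_insert_of_mem _ rfl)))
          have e3 := hxP z (Submodule.mem_sup_right (Submodule.mem_span_singleton_self z))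
          have g1' : f z P.d = 0 := by rw [hf.symm, g1]
          have g2' : f z P.e = 0 := by rw [hf.symm, g2]
          simp [hdd, P.ee, P.de, hed, g1, g2, g1', g2', gz] at e1 e2 e3
          simp [e1, e2, e3])
        (by
          have h3 := Submodule.finrank_add_le_finrank_add_finrank (Submodule.span F ({P.d, P.e} : Set (Ud F k)))
            (Submodule.span F {z})
          have := OrthTensor.span_pair_le (F := F) P.d P.e
          have : finrank F (Submodule.span F ({z} : Set (Ud F k))) = 1 :=
            finrank_span_singleton (fun h0 => gz (by rw [h0]; simp))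
          rw [finrank_fin_fun]
          omega)
      exact main y (yS _ (Submodule.mem_sup_left (Submodule.subset_span (Set.mem_insert _ _))))
        (yS _ (Submodule.mem_sup_left (Submodule.subset_span (Set.mem_insert_of_mem _ rfl))))
        (yS _ (Submodule.mem_sup_right (Submodule.mem_span_singleton_self z))) yy
    · obtain ⟨s, hs0, hs⟩ := exists_sq_ne_one hf hq
      have e1 := cubic (s • z) (by simp [g1]) (by simp [g2])
      have e3 := cubic z g1 g2
      rw [ha (s • z) (by simp [g1]) (by simp [g2])] at e1
      rw [ha z g1 g2] at e3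
      simp only [map_smul, LinearMap.smul_apply, smul_eq_mul] at e1
      rw [ha z g1 g2]
      refine (mul_eq_zero.1 (?_ : -f z (M P.d) * (f z z / 2 * (s * (s * s - 1))) = 0)).resolve_right
        (mul_ne_zero (div_ne_zero gz h2) (mul_ne_zero hs0 (sub_ne_zero.2 hs)))
      linear_combination e1 - s * e3
  rw [ha z hz hez]
  by_cases hzz : f z z = 0
  swap
  · rw [← ha z hz hez]; exact zero z hz hez hzz
  have h0 := zero z₀ d0 e0' z00
  rw [ha z₀ d0 e0'] at h0
  by_cases h1 : f (z + z₀) (z + z₀) = 0
  · have h3 : f (z - z₀) (z - z₀) ≠ 0 := fun hh => by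
      simp only [map_add, map_sub, LinearMap.add_apply, LinearMap.sub_apply, hzz] at h1 hh
      exact mul_ne_zero h2 z00 (by linear_combination h1 + hh)
    have h4 := zero _ (by simp [hz, d0]) (by simp [hez, e0']) h3
    rw [ha _ (by simp [hz, d0]) (by simp [hez, e0']), map_sub, LinearMap.sub_apply] at h4
    linear_combination h4 + h0
  · have h4 := zero _ (by simp [hz, d0]) (by simp [hez, e0']) h1
    rw [ha _ (by simp [hz, d0]) (by simp [hez, e0']), map_add, LinearMap.add_apply] at h4
    linear_combination h4 - h0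

end CfsgLib.Geo.OrthWreath
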