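/-
A non-zero invariant additive set of tuples of maps contains a monomial of elementary maps.
-/
import Cfsg.Agent.Lib.Geo.OrthWreath.Shift

set_option autoImplicit false
set_option linter.unusedSectionVars false

namespace CfsgLib.Geo.OrthWreath

open CfsgLib.Classical CfsgLib.Classical.Quad Module
open CfsgLib.Geo.MixTensor (SymForm)
open CfsgLib.Geo.OrthTensor (sv sv_apply)
open LinearMap (BilinForm)

variable {F : Type*} [Field F] {k t : ℕ} {f : BilinForm F (Ud F k)}

/-- An elementary map of a factor. -/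
inductive IsAtom (f : BilinForm F (Ud F k)) : Module.End F (Ud F k) → Prop
  | one : IsAtom f 1
  | sq (P : Fr f) : IsAtom f (pd f P.d)
  | wedge (P : Fr f) (z₀ z₁ : Ud F k) (c : F) (g : OQ (qU f)) : f P.d z₀ = 0 → f P.e z₀ = 0 → f P.d z₁ = 0 →
      f P.e z₁ = 0 → f z₁ z₀ = 1 → c ≠ 0 → (g : Ud F k ≃ₗ[F] Ud F k) P.d = P.d →
      (g : Ud F k ≃ₗ[F] Ud F k) P.e = P.e → (g : Ud F k ≃ₗ[F] Ud F k) z₀ = c • z₁ →
      (g : Ud F k ≃ₗ[F] Ud F k) z₁ = c⁻¹ • z₀ → (5 ≤ k ∧ f z₀ z₀ = 0 ∧ f z₁ z₁ = 0) ∨ c • z₁ = z₀ →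
      IsAtom f (nf f P.d z₀)

/-- A set of tuples invariant under the factor groups. -/
structure IsInv (hf : SymForm f) {ι : Type*} (Y : AddSubgroup (ι → Module.End F (Vt F k t))) : Prop where
  sv : ∀ (l : Fin t) (d z : Ud F k) (hd : f d d = 0) (hz : f d z = 0), ∀ y ∈ Y,
    cjHom ι (slot hf l (sU hf hd hz)) y ∈ Y
  neg : ∀ (l : Fin t) (P : Fr f), ∀ y ∈ Y, cjHom ι (slot hf l (P.tor hf (neg_ne_zero.2 one_ne_zero))) y ∈ Y
  sq : ∀ (l : Fin t) (P : Fr f) (m : F) (hm : m ≠ 0), ∀ y ∈ Y,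
    cjHom ι (slot hf l (P.tor hf (mul_ne_zero hm hm))) y ∈ Y
  refl : k = 4 → ∀ (l : Fin t) (c : Ud F k) (hc : f c c ≠ 0), ∀ y ∈ Y,
    cjHom ι (slot hf l (rfU hf hc)) y ∈ Y

variable (hf : SymForm f)
include hf

theorem lm_slot (i : Fin (t + 1)) (u : OQ (qU f)) : lm (slot hf i u) = em i (lm u) 1 := by
  rw [lm, slot_coe, em, wmap_one, mul_one]
  rfl

theorem lm_slot_succAbove (i : Fin (t + 1)) (j : Fin t) (u : OQ (qU f)) :
    lm (slot hf (i.succAbove j) u) = em i 1 (lm (slot hf j u)) := by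
  rw [lm, slot_coe, em, map_one, one_mul, lm, slot_coe, wmap_emb]

theorem cj_slot_em (i : Fin (t + 1)) (u : OQ (qU f)) (M : Module.End F (Ud F k))
    (A : Module.End F (Vt F k t)) : cj (slot hf i u) (em i M A) = em i (cj u M) A := by
  rw [cj, ← map_inv, lm_slot, lm_slot, em_mul, em_mul, cj, one_mul, mul_one]

theorem cj_slot_em_succAbove (i : Fin (t + 1)) (j : Fin t) (u : OQ (qU f)) (M : Module.End F (Ud F k))
    (A : Module.End F (Vt F k t)) :
    cj (slot hf (i.succAbove j) u) (em i M A) = em i M (cj (slot hf j u) A) := by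
  rw [cj, ← map_inv, lm_slot_succAbove, lm_slot_succAbove, em_mul, em_mul, cj, ← map_inv, one_mul, mul_one]

theorem f_inv_apply (u : OQ (qU f)) (x a : Ud F k) :
    f x (((u⁻¹ : OQ (qU f)) : Ud F k ≃ₗ[F] Ud F k) a) = f ((u : Ud F k ≃ₗ[F] Ud F k) x) a := by
  rw [← map_f hf u, Subgroup.coe_inv]
  simp

theorem cj_pd (u : OQ (qU f)) (d : Ud F k) : cj u (pd f d) = pd f ((u : Ud F k ≃ₗ[F] Ud F k) d) :=
  LinearMap.ext fun a => by
    show (u : Ud F k ≃ₗ[F] Ud F k) (pd f d (((u⁻¹ : OQ (qU f)) : Ud F k ≃ₗ[F] Ud F k) a)) = _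
    rw [pd_apply, pd_apply, map_smul, f_inv_apply hf]

theorem cj_nf (u : OQ (qU f)) (d z : Ud F k) :
    cj u (nf f d z) = nf f ((u : Ud F k ≃ₗ[F] Ud F k) d) ((u : Ud F k ≃ₗ[F] Ud F k) z) :=
  LinearMap.ext fun a => by
    show (u : Ud F k ≃ₗ[F] Ud F k) (nf f d z (((u⁻¹ : OQ (qU f)) : Ud F k ≃ₗ[F] Ud F k) a)) = _
    rw [nf_apply, nf_apply, map_sub, map_smul, map_smul, f_inv_apply hf, f_inv_apply hf]

omit hf in
theorem cj_id {V : Type*} [AddCommGroup V] [Module F V] {Q : QuadraticForm F V} (u : OQ Q) :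
    cj u (1 : Module.End F V) = 1 := by rw [cj, mul_one, lm_mul_inv]

theorem sU_conj (u : OQ (qU f)) {d z : Ud F k} (hd : f d d = 0) (hz : f d z = 0) :
    u * sU hf hd hz = sU hf (d := (u : Ud F k ≃ₗ[F] Ud F k) d) (z := (u : Ud F k ≃ₗ[F] Ud F k) z)
      (by rw [map_f hf, hd]) (by rw [map_f hf, hz]) * u := qU_ext hf fun a => by
  simp [sU_apply, map_f hf]

variable [Finite F]

theorem exists_fixed_tuple {ι : Type*} {β : Type*} [Finite β] (T : β → OQ (qU f)) (hc : ∀ a b, T a * T b = T b * T a)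
    (hT : ∀ a, T a ^ ringChar F = 1) (i : Fin t) (Y K : AddSubgroup (ι → Module.End F (Vt F k t)))
    (hinv : ∀ a, ∀ y ∈ Y, cjHom ι (slot hf i (T a)) y ∈ Y) (hK : ∀ a, ∀ y ∈ K, cjHom ι (slot hf i (T a)) y ∈ K)
    (hY : ∃ y ∈ Y, y ∉ K) :
    ∃ y ∈ Y, y ∉ K ∧ ∀ a, cjHom ι (slot hf i (T a)) y - y ∈ K := by
  have : Fact (ringChar F).Prime := ⟨CharP.char_is_prime F _⟩
  have := Fintype.ofFinite β
  have hit : ∀ (g : OQ (qT f t)) (n : ℕ) (y : ι → Module.End F (Vt F k t)),
      (cjHom ι g)^[n] y = cjHom ι (g ^ n) y := by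
    intro g n
    induction n with
    | zero => intro y; funext a; simp [cjHom_apply, cj_one]
    | succ n ih => intro y; rw [Function.iterate_succ_apply', ih, pow_succ']; funext a; simp [cjHom_apply, cj_mul]
  obtain ⟨y, hy, h0, hfix⟩ := exists_fixed (fun a => cjHom ι (slot hf i (T a))) (p := ringChar F)
    (fun m => by rw [← Nat.cast_smul_eq_nsmul F, ringChar.Nat.cast_ringChar, zero_smul])
    (fun a m => by rw [hit, ← map_pow, hT, map_one]; funext b; simp [cjHom_apply, cj_one])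
    (fun a b m => by funext x; simp only [cjHom_apply, ← cj_mul, ← map_mul, hc])
    Finset.univ Y K hinv hK hY
  exact ⟨y, hy, h0, fun a => hfix a (Finset.mem_univ a)⟩

/-- The change of a fixed map by a reflection of the orthogonal complement of a pair. -/
theorem refl_diff (hk3 : 3 ≤ k) (i : Fin (t + 1)) (P : Fr f) {ψ : Module.End F (Vt F k (t + 1))}
    (hψ : ∀ z (hz : f P.d z = 0), f P.e z = 0 → cj (slot hf i (sU hf P.dd hz)) ψ = ψ) {z : Ud F k}
    (hdz : f P.d z = 0) (hez : f P.e z = 0) (hz : f z z ≠ 0) :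
    ψ - cj (slot hf i (rfU hf hz)) ψ =
      em i (nf f P.d z) ((2 / f z z) • ((tensor hf i).flip.C z ∘ₗ ψ ∘ₗ Tm i P.e)) := by
  have h2 := hf.two
  set D := tensor hf i
  refine Tm_ext i fun u w => D.V_ext fun w' => ?_
  set M : Module.End F (Ud F k) := D.C w' ∘ₗ ψ ∘ₗ (Tm i).flip w
  have hM : ∀ v, M v = D.C w' (ψ (Tm i v w)) := fun v => rfl
  have hCs : ∀ (s : OQ (qU f)) v, D.C w' (lm (slot hf i s) v) = (s : Ud F k ≃ₗ[F] Ud F k) (D.C w' v) := by
    intro s
    refine LinearMap.congr_fun (D.hom_ext (L := D.C w' ∘ₗ lm (slot hf i s))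
      (L' := lm s ∘ₗ D.C w') fun b r => ?_)
    simp [lm, slot_Tm_self, D.C_T]
  obtain ⟨ζ, hζd, hζe, hMeq, hζ⟩ := commutant hf hk3 P (M := M) fun x h1 h2' v => by
    have : (sU hf P.dd h1 : Ud F k ≃ₗ[F] Ud F k) (M v) = M ((sU hf P.dd h1 : Ud F k ≃ₗ[F] Ud F k) v) := by
      rw [hM, hM, ← hCs, ← Module.End.mul_apply, comm_of_cj (hψ x h1 h2'), Module.End.mul_apply]
      congr 2
      rw [lm, LinearEquiv.coe_coe, slot_Tm_self]
    simpa [sU, mkU_apply] using this
  have hinv : (rfU hf hz)⁻¹ = rfU hf hz := inv_eq_of_mul_eq_one_right (qU_ext hf fun x => by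
    simp only [Subgroup.coe_mul, LinearEquiv.mul_apply, rfU_apply, MixTensor.refl_apply, map_sub, map_smul,
      smul_eq_mul]
    show _ = x
    match_scalars <;> field_simp <;> ring)
  have e3 : f z ζ = frm f t w' (D.flip.C z (ψ (Tm i P.e w))) := by
    rw [← hζ z hdz hez, hM, D.f_C, D.flip.f_C]
    rfl
  have hzd : f z P.d = 0 := by rw [hf.symm, hdz]
  have e5 : ζ - (rfU hf hz : Ud F k ≃ₗ[F] Ud F k) ζ = (2 / f z z * f z ζ) • z := by
    rw [rfU_apply, MixTensor.refl_apply, sub_sub_cancel]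
  have key : D.C w' (cj (slot hf i (rfU hf hz)) ψ (Tm i u w)) =
      (rfU hf hz : Ud F k ≃ₗ[F] Ud F k) (M ((rfU hf hz : Ud F k ≃ₗ[F] Ud F k) u)) := by
    rw [cj, Module.End.mul_apply, Module.End.mul_apply, hCs, ← map_inv, hinv, lm, LinearEquiv.coe_coe,
      slot_Tm_self, hM]
  rw [LinearMap.sub_apply, map_sub, key, ← hM, em_Tm, D.C_T, LinearMap.smul_apply, map_smul, smul_eq_mul]
  show _ = (2 / f z z * frm f t w' (D.flip.C z (ψ (Tm i P.e w)))) • _
  rw [← e3, hMeq]
  have hd' : (rfU hf hz : Ud F k ≃ₗ[F] Ud F k) P.d = P.d := by rw [rfU_apply, hf.refl_fix hzd]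
  have hfu : ∀ q, f q ((rfU hf hz : Ud F k ≃ₗ[F] Ud F k) u) = f ((rfU hf hz : Ud F k ≃ₗ[F] Ud F k) q) u := fun q => by
    conv_lhs => rw [← hinv, f_inv_apply hf]
  simp only [LinearMap.add_apply, LinearMap.smul_apply, Module.End.one_apply, pd_apply, nf_apply, map_add, map_sub,
    map_smul, hfu, hd']
  rw [show (rfU hf hz : Ud F k ≃ₗ[F] Ud F k) ((rfU hf hz : Ud F k ≃ₗ[F] Ud F k) u) = u by
    nth_rw 1 [← hinv]; exact (rfU hf hz : Ud F k ≃ₗ[F] Ud F k).symm_apply_apply u]
  rw [show (rfU hf hz : Ud F k ≃ₗ[F] Ud F k) ζ = ζ - (2 / f z z * f z ζ) • z by rw [← e5]; abel]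
  simp only [map_sub, map_smul, LinearMap.sub_apply, LinearMap.smul_apply, smul_eq_mul]
  module

theorem exists_split_mod {ι : Type*} (hk : k = 3 ∨ 4 ≤ k) (hq : k = 3 → 5 ≤ Nat.card F)
    (hT : k = 4 → OrthTensorFour.Thin f) (i : Fin (t + 1))
    {Y : AddSubgroup (ι → Module.End F (Vt F k (t + 1)))} (hY : IsInv hf Y)
    {K : AddSubgroup (ι → Module.End F (Vt F k (t + 1)))}
    (hKinv : ∀ (u : OQ (qU f)), ∀ y ∈ K, cjHom ι (slot hf i u) y ∈ K)
    (hK1 : ∀ (P : Fr f) (y : ι → Module.End F (Vt F k (t + 1))),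
      (∀ z (hz : f P.d z = 0), f P.e z = 0 → cjHom ι (slot hf i (sU hf P.dd hz)) y - y ∈ K) →
        ∀ z (hz : f P.d z = 0), f P.e z = 0 → cjHom ι (slot hf i (sU hf P.dd hz)) y = y)
    (hKd : ∀ (P : Fr f), ∀ v ∈ K, (∀ a w, v a (Tm i P.d w) = 0) → v = 0) (hne : ∃ y ∈ Y, y ∉ K) :
    ∃ M, IsAtom f M ∧ M ≠ 0 ∧ ∃ A : ι → Module.End F (Vt F k t), A ≠ 0 ∧ (fun a => em i M (A a)) ∈ Y ∧
      (M = 1 → (fun a => em i M (A a)) ∉ K) := by
  classical
  have h2 := hf.two
  have hk3 : 3 ≤ k := by omega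
  obtain ⟨P, -⟩ := exists_frame hf hk3
  have hp : ∀ {d z : Ud F k} (hd : f d d = 0) (hz : f d z = 0), sU hf hd hz ^ ringChar F = 1 := fun hd hz => by
    rw [sU_pow, ← sU_zero hf hd]
    exact qU_ext hf fun a => by simp [sU_apply]
  have hfin : Finite (Ud F k) := inferInstance
  set Z := {z : Ud F k // f P.d z = 0 ∧ f P.e z = 0}
  let T : Z → OQ (qU f) := fun z => sU hf P.dd z.2.1
  -- the second vector
  obtain ⟨z₀, z₁, c, g, hdz₀, hez₀, hdz₁, hez₁, h10, hc, hgd, hge, hgz, hgz₁, halt, hz₀0, hsec⟩ :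
      ∃ (z₀ z₁ : Ud F k) (c : F) (g : OQ (qU f)), f P.d z₀ = 0 ∧ f P.e z₀ = 0 ∧ f P.d z₁ = 0 ∧ f P.e z₁ = 0 ∧
        f z₁ z₀ = 1 ∧ c ≠ 0 ∧ (g : Ud F k ≃ₗ[F] Ud F k) P.d = P.d ∧ (g : Ud F k ≃ₗ[F] Ud F k) P.e = P.e ∧
        (g : Ud F k ≃ₗ[F] Ud F k) z₀ = c • z₁ ∧ (g : Ud F k ≃ₗ[F] Ud F k) z₁ = c⁻¹ • z₀ ∧
        ((5 ≤ k ∧ f z₀ z₀ = 0 ∧ f z₁ z₁ = 0) ∨ c • z₁ = z₀) ∧ (5 ≤ k → f z₀ z₀ = 0) ∧
        ∀ ζ, f P.d ζ = 0 → f P.e ζ = 0 → (5 ≤ k → ∀ y, f P.d y = 0 → f P.e y = 0 → f z₀ y = 0 →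
          sv f z₀ y ζ = ζ) → (h4 : k = 4 → ∀ y, f P.d y = 0 → f P.e y = 0 → f z₀ y = 0 → f y ζ = 0) →
          ζ = f z₁ ζ • z₀ := by
    obtain ⟨z, hdz, hez, hz⟩ := P.exists_z hf hk3
    rcases (show k = 3 ∨ k = 4 ∨ 5 ≤ k by omega) with hk | hk | hk
    · refine ⟨z, (f z z)⁻¹ • z, f z z, 1, hdz, hez, by simp [hdz], by simp [hez], by simp [hz], hz, rfl, rfl,
        by rw [smul_smul, mul_inv_cancel₀ hz, one_smul]; rfl, rfl,
        Or.inr (by rw [smul_smul, mul_inv_cancel₀ hz, one_smul]), fun h => by omega, fun ζ h1 h2' _ _ => ?_⟩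
      set v := ζ - (f ((f z z)⁻¹ • z) ζ) • z
      have hv1 : f P.d v = 0 := by simp [v, h1, hdz]
      have hv2 : f P.e v = 0 := by simp [v, h2', hez]
      have hv3 : f z v = 0 := by simp [v]; field_simp; ring
      have hr : f.IsRefl := fun x y h' => by rw [hf.symm]; exact h'
      have hK : v ∈ f.orthogonal ⊤ := by
        have hspan : Submodule.span F (Set.range ![P.d, P.e, z]) = ⊤ := by
          refine LinearIndependent.span_eq_top_of_card_eq_finrank' ?_ (by simp [hk])
          rw [Fintype.linearIndependent_iff]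
          intro a ha
          simp only [Fin.sum_univ_three, Matrix.cons_val_zero, Matrix.cons_val_one, Matrix.cons_val] at ha
          have e1 := congrArg (f P.e) ha
          have e2 := congrArg (f P.d) ha
          have e3 := congrArg (f z) ha
          have hzd : f z P.d = 0 := by rw [hf.symm, hdz]
          have hze : f z P.e = 0 := by rw [hf.symm, hez]
          simp [P.dd, P.ee, P.de, P.ed hf, hdz, hez] at e1 e2
          simp [hzd, hze, hz] at e3
          intro j
          fin_cases j <;> assumption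
        rw [← hspan]
        intro w hw
        induction hw using Submodule.span_induction with
        | mem w hw =>
          obtain ⟨j, rfl⟩ := hw
          fin_cases j <;> assumption
        | zero => simp [LinearMap.BilinForm.IsOrtho]
        | add a b _ _ ha hb =>
          show f (a + b) v = 0
          rw [map_add, LinearMap.add_apply, show f a v = 0 from ha, show f b v = 0 from hb, add_zero]
        | smul r a _ ha =>
          show f (r • a) v = 0
          rw [map_smul, LinearMap.smul_apply, show f a v = 0 from ha, smul_zero]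
      rw [LinearMap.BilinForm.orthogonal_top_eq_bot hf.nd, Submodule.mem_bot, sub_eq_zero] at hK
      exact hK
    · refine ⟨z, (f z z)⁻¹ • z, f z z, 1, hdz, hez, by simp [hdz], by simp [hez], by simp [hz], hz, rfl, rfl,
        by rw [smul_smul, mul_inv_cancel₀ hz, one_smul]; rfl, rfl,
        Or.inr (by rw [smul_smul, mul_inv_cancel₀ hz, one_smul]), fun h => by omega, fun ζ h1 h2' _ hperp => ?_⟩
      refine sub_eq_zero.1 (hf.nd.2 _ fun a => ?_)
      set c₀ := f z a / f z z
      set b := a - f P.e a • P.d - f P.d a • P.e - c₀ • z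
      have hzd : f z P.d = 0 := by rw [hf.symm, hdz]
      have hze : f z P.e = 0 := by rw [hf.symm, hez]
      have h6 := hperp hk b (by simp [b, P.dd, P.de, hdz]) (by simp [b, P.ee, P.ed hf, hez])
        (by simp [b, c₀, hzd, hze]; field_simp; ring)
      simp [b, h1, h2'] at h6
      simp [c₀, hf.symm z a] at h6 ⊢
      field_simp at h6 ⊢
      linear_combination h6
    · obtain ⟨P', h1, h2', h3, h4⟩ := P.exists_second hf hk
      refine ⟨P'.d, P'.e, 1, P'.sw hf one_ne_zero, h1, h2', h3, h4, P'.ed hf, one_ne_zero,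
        P'.sw_perp hf _ (by rw [hf.symm]; exact h1) (by rw [hf.symm]; exact h3),
        P'.sw_perp hf _ (by rw [hf.symm]; exact h2') (by rw [hf.symm]; exact h4), P'.sw_d hf _, P'.sw_e hf _,
        Or.inl ⟨hk, P'.dd, P'.ee⟩, fun _ => P'.dd,
        fun ζ g1 g2 hfix _ => ?_⟩
      replace hfix := fun y a b c => hfix hk y a b c
      obtain ⟨w, hw, hdw, hew, hzw⟩ : ∃ w, f w w ≠ 0 ∧ f P.d w = 0 ∧ f P.e w = 0 ∧ f P'.d w = 0 := by
        set S₁ := Submodule.span F ({P.d, P.e} : Set (Ud F k))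
        set S₂ := Submodule.span F ({P'.d, P'.e} : Set (Ud F k))
        have hs₁ : finrank F S₁ ≤ 2 := OrthTensor.span_pair_le P.d P.e
        have hs₂ : finrank F S₂ ≤ 2 := OrthTensor.span_pair_le P'.d P'.e
        have hsum := Submodule.finrank_sup_add_finrank_inf_eq S₁ S₂
        obtain ⟨w, hw, hwS⟩ := OrthTensor.exists_aniso_perp hf (S₁ ⊔ S₂) (fun x hx hxP => by
          obtain ⟨u, hu, v, hv, rfl⟩ := Submodule.mem_sup.1 hx
          obtain ⟨a₁, b₁, rfl⟩ := Submodule.mem_span_pair.1 hu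
          obtain ⟨a₂, b₂, rfl⟩ := Submodule.mem_span_pair.1 hv
          have e1 := hxP P.d (Submodule.mem_sup_left (Submodule.subset_span (Set.mem_insert _ _)))
          have e2 := hxP P.e (Submodule.mem_sup_left (Submodule.subset_span (Set.mem_insert_of_mem _ rfl)))
          have e3 := hxP P'.d (Submodule.mem_sup_right (Submodule.subset_span (Set.mem_insert _ _)))
          have e4 := hxP P'.e (Submodule.mem_sup_right (Submodule.subset_span (Set.mem_insert_of_mem _ rfl)))
          have g1' : f P'.d P.d = 0 := by rw [hf.symm, h1]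
          have g2' : f P'.d P.e = 0 := by rw [hf.symm, h2']
          have g3' : f P'.e P.d = 0 := by rw [hf.symm, h3]
          have g4' : f P'.e P.e = 0 := by rw [hf.symm, h4]
          simp [P.dd, P.ee, P.de, P.ed hf, P'.dd, P'.ee, P'.de, P'.ed hf, h1, h2', h3, h4, g1', g2', g3', g4']
            at e1 e2 e3 e4
          rw [e1, e2, e3, e4]
          simp)
          (by rw [finrank_fin_fun]; omega)
        exact ⟨w, hw, hwS _ (Submodule.mem_sup_left (Submodule.subset_span (Set.mem_insert _ _))),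
          hwS _ (Submodule.mem_sup_left (Submodule.subset_span (Set.mem_insert_of_mem _ rfl))),
          hwS _ (Submodule.mem_sup_right (Submodule.subset_span (Set.mem_insert _ _)))⟩
      have hzζ : f P'.d ζ = 0 := by
        have h5 := congrArg (f w) (hfix w hdw hew hzw)
        rw [sv_apply] at h5
        simp [hf.symm P'.d w, hzw, hw] at h5
        exact h5
      have hperp : ∀ y, f P.d y = 0 → f P.e y = 0 → f P'.d y = 0 → f y ζ = 0 := by
        intro y a b c
        have h5 := congrArg (f P'.e) (hfix y a b c)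
        rw [sv_apply] at h5
        simpa [hzζ, P'.ed hf] using h5
      refine sub_eq_zero.1 (hf.nd.2 _ fun a => ?_)
      set b := a - f P.e a • P.d - f P.d a • P.e - f P'.d a • P'.e
      have h6 := hperp b (by simp [b, P.dd, P.de, h3]) (by simp [b, P.ee, P.ed hf, h4])
        (by simp [b, hf.symm P.d P'.d, hf.symm P.e P'.d, h1, h2', P'.de])
      simp [b, hf.symm P.d P'.d, hf.symm P.e P'.d, h1, h2', g1, g2, hzζ] at h6
      simp [hf.symm P'.d a]
      linear_combination h6
  -- a tuple fixed by the Siegel maps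
  have hcT : ∀ a b, T a * T b = T b * T a := fun a b => by
    simp only [T, sU_add]
    exact qU_ext hf fun x => by simp [sU_apply, add_comm (a : Ud F k)]
  have hTd : ∀ y : ι → Module.End F (Vt F k (t + 1)), (∀ z : Z, cjHom ι (slot hf i (T z)) y = y) →
      ∀ q w, ∃ r, y q (Tm i P.d w) = Tm i P.d r := by
    intro y hy q w
    refine ⟨(tensor hf i).flip.C P.e (y q (Tm i P.d w)), (tensor hf i).V_ext fun w' => ?_⟩
    set D := tensor hf i
    set M : Module.End F (Ud F k) := D.C w' ∘ₗ y q ∘ₗ (Tm i).flip w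
    have hM : ∀ v, M v = D.C w' (y q (Tm i v w)) := fun v => rfl
    obtain ⟨ζ, hζd, -, hMeq, -⟩ := commutant hf hk3 P (M := M) fun z h1 h2' v => by
      have hs := hy ⟨z, h1, h2'⟩
      have hCs : ∀ (s : OQ (qU f)) v, D.C w' (lm (slot hf i s) v) = (s : Ud F k ≃ₗ[F] Ud F k) (D.C w' v) := by
        intro s
        refine LinearMap.congr_fun (D.hom_ext (L := D.C w' ∘ₗ lm (slot hf i s))
          (L' := lm s ∘ₗ D.C w') fun b r => ?_)
        simp [lm, slot_Tm_self, D.C_T]
      have : (T ⟨z, h1, h2'⟩ : Ud F k ≃ₗ[F] Ud F k) (M v) = M ((T ⟨z, h1, h2'⟩ : Ud F k ≃ₗ[F] Ud F k) v) := by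
        rw [hM, hM, ← hCs, ← Module.End.mul_apply, comm_of_cj (congrFun hs q), Module.End.mul_apply]
        congr 2
        rw [lm, LinearEquiv.coe_coe, slot_Tm_self]
      simpa [T, sU, mkU_apply] using this
    have e1 : f P.e (M P.d) = frm f t w' ((tensor hf i).flip.C P.e (y q (Tm i P.d w))) := by
      rw [hM, D.f_C, QuadraticMap.polar_comm]
      show _ = frm f t w' (D.flip.C P.e (y q (Tm i P.d w)))
      rw [D.flip.f_C, QuadraticMap.polar_comm]
      rfl
    rw [← hM, hMeq, D.C_T, ← e1]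
    simp [pd_apply, nf_apply, P.dd, hf.symm P.d ζ, hζd]
  obtain ⟨y, hyY, hy0, hy1, hy2⟩ : ∃ y ∈ Y, y ∉ K ∧ (∀ z : Z, cjHom ι (slot hf i (T z)) y = y) ∧
      (5 ≤ k → ∀ x (h1 : f P.d x = 0) (h2 : f P.e x = 0) (h3 : f z₀ x = 0) (h0 : f z₀ z₀ = 0),
        cjHom ι (slot hf i (sU hf h0 h3)) y = y) := by
    obtain ⟨y₁, hy₁, hy₁K, hy₁T⟩ : ∃ y ∈ Y, y ∉ K ∧ ∀ z : Z, cjHom ι (slot hf i (T z)) y = y := by
      obtain ⟨y, a, b, c'⟩ := exists_fixed_tuple hf T hcT (fun z => hp _ _) i Y K
        (fun z y hy => hY.sv i _ _ _ _ y hy) (fun z => hKinv _) hne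
      exact ⟨y, a, b, fun z => hK1 P y (fun w hw hw' => c' ⟨w, hw, hw'⟩) z z.2.1 z.2.2⟩
    by_cases hk5 : 5 ≤ k
    swap
    · exact ⟨y₁, hy₁, hy₁K, hy₁T, fun h => absurd h hk5⟩
    set Z' := {x : Ud F k // f P.d x = 0 ∧ f P.e x = 0 ∧ f z₀ x = 0}
    let T' : Z' → OQ (qU f) := fun x => sU hf (hz₀0 hk5) x.2.2.2
    let Y₁ : AddSubgroup (ι → Module.End F (Vt F k (t + 1))) :=
      { carrier := {y | y ∈ Y ∧ ∀ z : Z, cjHom ι (slot hf i (T z)) y = y}
        zero_mem' := ⟨Y.zero_mem, fun z => map_zero _⟩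
        add_mem' := fun {a b} ha hb => ⟨Y.add_mem ha.1 hb.1, fun z => by rw [map_add, ha.2, hb.2]⟩
        neg_mem' := fun {a} ha => ⟨Y.neg_mem ha.1, fun z => by rw [map_neg, ha.2]⟩ }
    obtain ⟨y, ⟨a, c'⟩, b, d'⟩ := exists_fixed_tuple hf T' (fun a b => by
        simp only [T', sU_add]; exact qU_ext hf fun x => by simp [sU_apply, add_comm (a : Ud F k)])
      (fun z => hp _ _) i Y₁ K (fun x y hy => ⟨hY.sv i _ _ _ _ y hy.1, fun z => by
        have hd : ((T' x : OQ (qU f)) : Ud F k ≃ₗ[F] Ud F k) P.d = P.d :=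
          sU_fix hf _ _ (by rw [hf.symm, hdz₀]) (by rw [hf.symm, x.2.1])
        have he : ((T' x : OQ (qU f)) : Ud F k ≃ₗ[F] Ud F k) P.e = P.e :=
          sU_fix hf _ _ (by rw [hf.symm, hez₀]) (by rw [hf.symm, x.2.2.1])
        obtain ⟨z', hz'⟩ := ((T' x : OQ (qU f)) : Ud F k ≃ₗ[F] Ud F k).surjective (z : Ud F k)
        have g1 : f P.d z' = 0 := by rw [← map_f hf (T' x), hd, hz', z.2.1]
        have g2 : f P.e z' = 0 := by rw [← map_f hf (T' x), he, hz', z.2.2]
        have e : T z * T' x = T' x * T ⟨z', g1, g2⟩ := by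
          rw [sU_conj hf (T' x)]
          congr 1
          exact qU_ext hf fun q => by simp [T, sU_apply, hd, hz']
        show cjHom ι _ (cjHom ι _ y) = _
        funext q
        simp only [cjHom_apply]
        rw [← cj_mul, ← map_mul, e, map_mul, cj_mul]
        exact congrArg (cj _) (congrFun (hy.2 ⟨z', g1, g2⟩) q)⟩)
      (fun x => hKinv _) ⟨y₁, ⟨hy₁, hy₁T⟩, hy₁K⟩
    refine ⟨y, a, b, c', fun _ x h1 h2' h3 _ => sub_eq_zero.1 (hKd P _ (d' ⟨x, h1, h2', h3⟩) fun q w => ?_)⟩
    obtain ⟨r, hr⟩ : ∃ r, y q (Tm i P.d w) = Tm i P.d r := hTd y c' q w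
    have hxd : (T' ⟨x, h1, h2', h3⟩ : Ud F k ≃ₗ[F] Ud F k) P.d = P.d :=
      sU_fix hf _ _ (by rw [hf.symm, hdz₀]) (by rw [hf.symm, h1])
    have hcs : ∀ w, cjHom ι (slot hf i (T' ⟨x, h1, h2', h3⟩)) y q (Tm i P.d w) =
        lm (slot hf i (T' ⟨x, h1, h2', h3⟩)) (y q (Tm i P.d w)) := fun w => by
      rw [cjHom_apply, cj, Module.End.mul_apply, Module.End.mul_apply]
      congr 2
      rw [← map_inv, lm, LinearEquiv.coe_coe, slot_Tm_self]
      congr 2
      rw [Subgroup.coe_inv]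
      exact (LinearEquiv.symm_apply_eq _).2 hxd.symm
    rw [Pi.sub_apply, LinearMap.sub_apply, hcs, hr, lm, LinearEquiv.coe_coe, slot_Tm_self, hxd, sub_self]
  -- its coefficients
  set D := tensor hf i
  let co : Ud F k → Ud F k → Module.End F (Vt F k (t + 1)) → Module.End F (Vt F k t) :=
    fun x v ψ => D.flip.C x ∘ₗ ψ ∘ₗ Tm i v
  set A := fun a => co P.e P.d (y a)
  set B := fun a => co P.e P.e (y a)
  set C := fun a => co z₁ P.e (y a)
  by_cases hex : k = 4 ∧ ∃ x, f P.d x = 0 ∧ f P.e x = 0 ∧ f z₀ x = 0 ∧ ∃ a, co x P.e (y a) ≠ 0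
  · obtain ⟨h4, x, x1, x2, -, a, ha⟩ := hex
    have hx : f x x ≠ 0 := fun hxx => ha (by
      obtain ⟨r, hr⟩ := Submodule.mem_span_singleton.1 (hT h4 P.d x P.dd P.d_ne x1 hxx)
      have hr0 : r = 0 := by simpa [← hr, P.ed hf] using x2
      rw [← hr, hr0, zero_smul]
      simp [co])
    refine ⟨_, IsAtom.wedge P x ((f x x)⁻¹ • x) (f x x) 1 x1 x2 (by simp [x1]) (by simp [x2]) (by simp [hx]) hx
      rfl rfl (by rw [smul_smul, mul_inv_cancel₀ hx, one_smul]; rfl) rfl
      (Or.inr (by rw [smul_smul, mul_inv_cancel₀ hx, one_smul])), ?_,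
      fun a => (2 / f x x) • co x P.e (y a), ?_, ?_, fun h => absurd (LinearMap.congr_fun h P.d) ?_⟩
    · intro h0
      have h5 := congrArg (f x) (LinearMap.congr_fun h0 P.e)
      simp [nf_apply, P.de, hf.symm P.d x, hf.symm P.e x, x1, x2, hx] at h5
    · intro h0
      exact ha ((smul_eq_zero.1 (congrFun h0 a)).resolve_left (div_ne_zero h2 hx))
    · convert Y.sub_mem hyY (hY.refl h4 i x hx y hyY) using 1
      funext q
      rw [Pi.sub_apply, cjHom_apply]
      exact (refl_diff hf hk3 i P (fun z hz hz' => congrFun (hy1 ⟨z, hz, hz'⟩) q) x1 x2 hx).symm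
    · simpa [nf_apply, P.dd, hf.symm P.d x, x1] using P.d_ne.symm
  have hdec : ∀ a, y a = em i 1 (A a) + em i (pd f P.d) (B a) + em i (nf f P.d z₀) (C a) := by
    intro a
    refine Tm_ext i fun u w => D.V_ext fun w' => ?_
    set M : Module.End F (Ud F k) := D.C w' ∘ₗ y a ∘ₗ (Tm i).flip w
    have hM : ∀ v, M v = D.C w' (y a (Tm i v w)) := fun v => rfl
    have hCs : ∀ (s : OQ (qU f)) v, D.C w' (lm (slot hf i s) v) = (s : Ud F k ≃ₗ[F] Ud F k) (D.C w' v) := by
      intro s
      refine LinearMap.congr_fun (D.hom_ext (L := D.C w' ∘ₗ lm (slot hf i s))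
        (L' := lm s ∘ₗ D.C w') fun b r => ?_)
      simp [lm, slot_Tm_self, D.C_T]
    have hcom : ∀ (s : OQ (qU f)), cjHom ι (slot hf i s) y = y → ∀ v,
        (s : Ud F k ≃ₗ[F] Ud F k) (M v) = M ((s : Ud F k ≃ₗ[F] Ud F k) v) := by
      intro s hs v
      rw [hM, hM, ← hCs, ← Module.End.mul_apply, comm_of_cj (congrFun hs a), Module.End.mul_apply]
      congr 2
      rw [lm, LinearEquiv.coe_coe, slot_Tm_self]
    obtain ⟨ζ, hζd, hζe, hMeq, hζ⟩ := commutant hf hk3 P (M := M) fun z h1 h2' v => by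
      have := hcom _ (hy1 ⟨z, h1, h2'⟩) v
      simpa [T, sU, mkU_apply] using this
    have h4c : k = 4 → ∀ x, f P.d x = 0 → f P.e x = 0 → f z₀ x = 0 → f x ζ = 0 := by
      intro h4 x x1 x2 x3
      have hco : co x P.e (y a) = 0 := by
        by_contra hne
        exact hex ⟨h4, x, x1, x2, x3, a, hne⟩
      have h5 : D.flip.C x (y a (Tm i P.e w)) = 0 := LinearMap.congr_fun hco w
      rw [← hζ x x1 x2, hM, D.f_C]
      calc _ = frm f t w' (D.flip.C x (y a (Tm i P.e w))) := (D.flip.f_C _ _ _).symm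
        _ = 0 := by rw [h5, map_zero]
    have hz : ζ = f z₁ ζ • z₀ := hsec ζ hζd hζe (h4 := h4c) fun hk5 x h1 h2' h3 => by
      have hh := hcom _ (hy2 hk5 x h1 h2' h3 (hz₀0 hk5))
      have he : (sU hf (hz₀0 hk5) h3 : Ud F k ≃ₗ[F] Ud F k) P.e = P.e :=
        sU_fix hf _ _ (by rw [hf.symm, hez₀]) (by rw [hf.symm, h2'])
      have hd : (sU hf (hz₀0 hk5) h3 : Ud F k ≃ₗ[F] Ud F k) P.d = P.d :=
        sU_fix hf _ _ (by rw [hf.symm, hdz₀]) (by rw [hf.symm, h1])
      have h5 := hh P.e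
      rw [he, show M P.e = f P.e (M P.d) • P.e + f P.e (M P.e) • P.d + ζ by
        conv_lhs => rw [hMeq]
        simp [pd_apply, nf_apply, P.de, hf.symm P.e ζ, hζe], map_add, map_add, map_smul, map_smul, he, hd,
        add_right_inj] at h5
      exact h5
    have e1 : f P.e (M P.d) = frm f t w' (A a w) := by
      rw [hM, D.f_C, QuadraticMap.polar_comm]
      show _ = frm f t w' (D.flip.C P.e (y a (Tm i P.d w)))
      rw [D.flip.f_C, QuadraticMap.polar_comm]
      rfl
    have e2 : f P.e (M P.e) = frm f t w' (B a w) := by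
      rw [hM, D.f_C]
      show _ = frm f t w' (D.flip.C P.e (y a (Tm i P.e w)))
      rw [D.flip.f_C]
      rfl
    have e3 : f z₁ ζ = frm f t w' (C a w) := by
      rw [← hζ z₁ hdz₁ hez₁, hM, D.f_C]
      show _ = frm f t w' (D.flip.C z₁ (y a (Tm i P.e w)))
      rw [D.flip.f_C]
      rfl
    show D.C w' (y a (Tm i u w)) = _
    rw [← hM, hMeq, hz, e1, e2, e3]
    simp only [LinearMap.add_apply, LinearMap.smul_apply, Module.End.one_apply, em_Tm, map_add, D.C_T, pd_apply,
      nf_apply, map_smul, smul_eq_mul]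
    module
  -- the sign
  set h := slot hf i (P.tor hf (neg_ne_zero.2 (one_ne_zero (α := F))))
  have hh : ∀ a, cjHom ι h y a = em i 1 (A a) + em i (pd f P.d) (B a) - em i (nf f P.d z₀) (C a) := by
    intro a
    rw [cjHom_apply, hdec, cj_add, cj_add, cj_slot_em hf, cj_slot_em hf, cj_slot_em hf, cj_id, cj_pd hf, cj_nf hf,
      P.tor_d, P.tor_perp hf _ hdz₀ hez₀]
    rw [show pd f ((-1 : F) • P.d) = pd f P.d from LinearMap.ext fun q => by simp [pd_apply],
      show nf f ((-1 : F) • P.d) z₀ = (-1 : F) • nf f P.d z₀ from LinearMap.ext fun q => by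
        simp [nf_apply]; abel, em_smul_left]
    module
  by_cases hC : C = 0
  swap
  · refine ⟨_, IsAtom.wedge P z₀ z₁ c g hdz₀ hez₀ hdz₁ hez₁ h10 hc hgd hge hgz hgz₁ halt, ?_,
      fun a => (2 : F) • C a, ?_, ?_, fun h => absurd (LinearMap.congr_fun h P.d) ?_⟩
    · intro h0
      have h5 := congrArg (f z₁) (LinearMap.congr_fun h0 P.e)
      simp [nf_apply, P.de, hdz₁, h10, hf.symm P.e z₀, hez₀] at h5
    · intro h0
      exact hC (funext fun a => (smul_eq_zero.1 (congrFun h0 a)).resolve_left h2)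
    · convert Y.sub_mem hyY (hY.neg i P y hyY) using 1
      funext a
      rw [Pi.sub_apply, hh, hdec, em_smul]
      module
    · simpa [nf_apply, P.dd, hf.symm P.d z₀, hdz₀] using P.d_ne.symm
  by_cases hB : B = 0
  · have he : y = fun a => em i 1 (A a) := funext fun a => by rw [hdec, hB, hC]; simp [em_zero]
    refine ⟨1, IsAtom.one, fun h0 => ?_, A, fun hA => hy0 ?_, he ▸ hyY, fun _ => he ▸ hy0⟩
    · exact P.d_ne (by simpa using LinearMap.congr_fun h0 P.d)
    · rw [he, hA]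
      convert K.zero_mem using 1
      funext a
      simp [em_zero]
  -- removing the scalar part
  have hdiff : ∀ u : OQ (qU f), cjHom ι (slot hf i u) y ∈ Y →
      (fun a => em i (pd f ((u : Ud F k ≃ₗ[F] Ud F k) P.d) - pd f P.d) (B a)) ∈ Y := by
    intro u hu
    convert Y.sub_mem hu hyY using 1
    funext a
    have hCa : C a = 0 := congrFun hC a
    rw [Pi.sub_apply, cjHom_apply, hdec, hCa, em_zero, add_zero, cj_add, cj_slot_em hf, cj_slot_em hf, cj_id,
      cj_pd hf, sub_eq_add_neg (pd f _), em_add_left, ← neg_one_smul F (pd f P.d), em_smul_left]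
    module
  by_cases hk5 : 5 ≤ k
  · have g0 := hz₀0 hk5
    have hv : ∀ (v : Ud F k) (hv : f P.e v = 0), f v v = 0 → f P.d v = 0 →
        (sU hf P.ee hv : Ud F k ≃ₗ[F] Ud F k) P.d = P.d + v := fun v hv hvv hdv => by
      simp [sU_apply, P.ed hf, hf.symm P.d v, hdv, hvv]
    have hm := hdiff _ (hY.sv i P.e z₀ P.ee hez₀ y hyY)
    have hm' := hdiff _ (hY.sv i P.e (-z₀) P.ee (by simp [hez₀]) y hyY)
    rw [hv z₀ hez₀ g0 hdz₀] at hm
    rw [hv (-z₀) _ (by simp [g0]) (by simp [hdz₀])] at hm'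
    obtain ⟨e', he', hze'⟩ := OrthTensor.exists_iso_partner hf g0 (fun h0 => by simp [h0] at h10)
    refine ⟨_, IsAtom.sq ⟨z₀, e', g0, he', hze'⟩, fun h0 => ?_, fun a => (2 : F) • B a, ?_, ?_,
      fun h => absurd (LinearMap.congr_fun h z₀) ?_⟩
    · have h5 := congrArg (f e') (LinearMap.congr_fun h0 e')
      simp [pd_apply, hze', hf.symm z₀ e'] at h5
    · intro h0
      exact hB (funext fun a => (smul_eq_zero.1 (congrFun h0 a)).resolve_left h2)
    · convert Y.add_mem hm hm' using 1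
      funext a
      rw [Pi.add_apply, ← em_add_left, em_smul, ← em_smul_left]
      congr 1
      refine LinearMap.ext fun q => ?_
      simp only [LinearMap.smul_apply, LinearMap.add_apply, LinearMap.sub_apply, pd_apply, map_add, map_neg,
        LinearMap.neg_apply]
      module
    · have hz0 : z₀ ≠ 0 := fun h' => by simp [h'] at h10
      simpa [pd_apply, g0] using hz0.symm
  by_cases h5q : 5 ≤ Nat.card F
  swap
  · -- three elements
    have h4 : k = 4 := by
      rcases hk with h | h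
      · exact absurd (hq h) h5q
      · omega
    have := Fintype.ofFinite F
    have hsq : ∀ x : F, x ≠ 0 → x = 1 ∨ x = -1 := by
      have hpow : ∀ x : F, x ≠ 0 → x ^ (Fintype.card F - 1) = 1 := fun x hx => FiniteField.pow_card_sub_one_eq_one x hx
      have h1 := hpow (-1) (neg_ne_zero.2 one_ne_zero)
      rw [Nat.card_eq_fintype_card] at h5q
      have := Fintype.one_lt_card (α := F)
      have h3 : Fintype.card F = 3 := by
        have hm : (-1 : F) ≠ 1 := fun e => h2 (by linear_combination -e)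
        rcases (show Fintype.card F = 2 ∨ Fintype.card F = 3 ∨ Fintype.card F = 4 by omega) with h | h | h
        · rw [h] at h1; exact absurd (by simpa using h1) hm
        · exact h
        · rw [h] at h1; exact absurd (by simpa [pow_succ] using h1) hm
      intro x hx
      have h := hpow x hx
      rw [h3] at h
      exact mul_self_eq_one_iff.1 (by rw [← pow_two]; exact h)
    have hz00 : f z₀ z₀ ≠ 0 := by
      rcases halt with ⟨h, -, -⟩ | h
      · omega
      · rw [← h] at h10 ⊢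
        intro h'
        simp [hc, hf.symm z₁ z₁] at h' h10
        simp [h'] at h10
    obtain ⟨v, vv, vS⟩ := OrthTensor.exists_aniso_perp hf
      (Submodule.span F ({P.d, P.e} : Set (Ud F k)) ⊔ Submodule.span F {z₀}) (fun x hx hxP => by
        obtain ⟨p, hp, q, hq, rfl⟩ := Submodule.mem_sup.1 hx
        obtain ⟨a₁, b₁, rfl⟩ := Submodule.mem_span_pair.1 hp
        obtain ⟨c₁, rfl⟩ := Submodule.mem_span_singleton.1 hq
        have e1 := hxP P.d (Submodule.mem_sup_left (Submodule.subset_span (Set.mem_insert _ _)))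
        have e2 := hxP P.e (Submodule.mem_sup_left (Submodule.subset_span (Set.mem_insert_of_mem _ rfl)))
        have e3 := hxP z₀ (Submodule.mem_sup_right (Submodule.mem_span_singleton_self z₀))
        have g1' : f z₀ P.d = 0 := by rw [hf.symm, hdz₀]
        have g2' : f z₀ P.e = 0 := by rw [hf.symm, hez₀]
        simp [P.dd, P.ee, P.de, P.ed hf, hdz₀, hez₀, g1', g2', hz00] at e1 e2 e3
        simp [e1, e2, e3])
      (by
        have h3 := Submodule.finrank_add_le_finrank_add_finrank (Submodule.span F ({P.d, P.e} : Set (Ud F k)))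
          (Submodule.span F {z₀})
        have := OrthTensor.span_pair_le (F := F) P.d P.e
        have : finrank F (Submodule.span F ({z₀} : Set (Ud F k))) = 1 :=
          finrank_span_singleton (fun h0 => hz00 (by rw [h0]; simp))
        rw [finrank_fin_fun]
        omega)
    have v1 := vS _ (Submodule.mem_sup_left (Submodule.subset_span (Set.mem_insert _ _)))
    have v2 := vS _ (Submodule.mem_sup_left (Submodule.subset_span (Set.mem_insert_of_mem _ rfl)))
    have v3 := vS _ (Submodule.mem_sup_right (Submodule.mem_span_singleton_self z₀))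
    have v3' : f v z₀ = 0 := by rw [hf.symm]; exact v3
    set x := f z₀ z₀ with hxdef
    have hvx : f v v = x := by
      rcases hsq _ vv with e | e <;> rcases hsq _ hz00 with e' | e' <;> first | exact e.trans e'.symm | skip
      all_goals
        exfalso
        have hs0 : f (z₀ + v) (z₀ + v) = 0 := by simp [e, e', v3, v3', ← hxdef]
        obtain ⟨r, hr⟩ := Submodule.mem_span_singleton.1
          (hT h4 P.d (z₀ + v) P.dd P.d_ne (by simp [hdz₀, v1]) hs0)
        have h5 := congrArg (f P.e) hr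
        simp [P.ed hf, hez₀, v2] at h5
        have h6 := congrArg (f z₀) hr
        simp [h5, v3] at h6
        exact hz00 h6.symm
    have hs : ∀ w, f P.d w = 0 → f P.e w = 0 →
        (fun a => em i (pd f (P.d + w - (f w w / 2) • P.e) - pd f P.d) (B a)) ∈ Y := by
      intro w w1 w2
      have hd := hdiff _ (hY.sv i P.e w P.ee w2 y hyY)
      convert hd using 4
      have hwd : f w P.d = 0 := by rw [hf.symm, w1]
      simp [sU_apply, P.ed hf, hwd]
    refine ⟨_, IsAtom.sq (P.symm hf), fun h0 => ?_, fun a => (2 * x ^ 2) • B a, ?_, ?_,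
      fun h => absurd (LinearMap.congr_fun h P.e) ?_⟩
    · have h5 := congrArg (f P.d) (LinearMap.congr_fun h0 P.d)
      simp [Fr.symm, pd_apply, P.de, P.ed hf] at h5
    · intro h0
      exact hB (funext fun a => (smul_eq_zero.1 (congrFun h0 a)).resolve_left
        (mul_ne_zero h2 (pow_ne_zero _ hz00)))
    · have pm : ∀ w, f P.d w = 0 → f P.e w = 0 →
          (fun a => em i (pd f (P.d + w - (f w w / 2) • P.e) - pd f P.d) (B a)) +
            (fun a => em i (pd f (P.d + -w - (f w w / 2) • P.e) - pd f P.d) (B a)) ∈ Y := fun w w1 w2 => by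
        refine Y.add_mem (hs w w1 w2) ?_
        have h := hs (-w) (by simp [w1]) (by simp [w2])
        simpa using h
      have hmem := Y.sub_mem (Y.add_mem (pm (z₀ + v) (by simp [hdz₀, v1]) (by simp [hez₀, v2]))
        (pm (z₀ - v) (by simp [hdz₀, v1]) (by simp [hez₀, v2])))
        (Y.nsmul_mem (Y.add_mem (pm z₀ hdz₀ hez₀) (pm v v1 v2)) 2)
      convert hmem using 1
      funext a
      refine Tm_ext i fun u w => ?_
      simp only [Pi.add_apply, Pi.sub_apply, Pi.smul_apply, LinearMap.add_apply, LinearMap.sub_apply,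
        LinearMap.smul_apply, ← Nat.cast_smul_eq_nsmul F, em_Tm, Fr.symm, pd_apply, map_add, map_sub, map_smul,
        map_neg, LinearMap.neg_apply, smul_eq_mul, hvx, v3, v3', ← hxdef]
      push_cast
      match_scalars <;> field_simp <;> ring
    · simpa [Fr.symm, pd_apply, P.ee] using P.e_ne.symm
  by_cases hm : ∃ m : F, m ≠ 0 ∧ m ^ 4 ≠ 1
  · obtain ⟨m, hm0, hm4⟩ := hm
    have hd := hdiff _ (hY.sq i P m hm0 y hyY)
    rw [P.tor_d] at hd
    refine ⟨_, IsAtom.sq P, fun h0 => ?_, fun a => (m ^ 4 - 1) • B a, ?_, ?_,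
      fun h => absurd (LinearMap.congr_fun h P.d) ?_⟩
    · have h5 := congrArg (f P.e) (LinearMap.congr_fun h0 P.e)
      simp [pd_apply, P.de, P.ed hf] at h5
    · intro h0
      exact hB (funext fun a => (smul_eq_zero.1 (congrFun h0 a)).resolve_left (sub_ne_zero.2 hm4))
    · convert hd using 1
      funext a
      rw [em_smul, ← em_smul_left]
      congr 1
      refine LinearMap.ext fun q => ?_
      simp only [LinearMap.smul_apply, LinearMap.sub_apply, pd_apply, map_smul, smul_eq_mul]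
      module
    · simpa [pd_apply, P.dd] using P.d_ne.symm
  · push Not at hm
    have : Fintype F := Fintype.ofFinite F
    have hcard : Nat.card F = 5 := by
      refine le_antisymm ?_ h5q
      rw [Nat.card_eq_fintype_card]
      have h6 : (Polynomial.X ^ 4 - Polynomial.C (1 : F)).roots.toFinset.card ≤ 4 := by
        refine (Multiset.toFinset_card_le _).trans ((Polynomial.card_roots' _).trans ?_)
        rw [Polynomial.natDegree_X_pow_sub_C]
      have h7 : (Finset.univ.erase (0 : F)) ⊆ (Polynomial.X ^ 4 - Polynomial.C (1 : F)).roots.toFinset := fun x hx => by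
        rw [Multiset.mem_toFinset, Polynomial.mem_roots (Polynomial.X_pow_sub_C_ne_zero (by norm_num) _)]
        simp [hm x (Finset.mem_erase.1 hx).1]
      have h8 := (Finset.card_le_card h7).trans h6
      rw [Finset.card_erase_of_mem (Finset.mem_univ _), Finset.card_univ] at h8
      omega
    have h5F : (5 : F) = 0 := by
      rw [Nat.card_eq_fintype_card] at hcard
      exact_mod_cast (hcard ▸ FiniteField.cast_card_eq_zero F)
    obtain ⟨z, hdz, hez, hz⟩ := P.exists_z hf hk3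
    have hs : ∀ s : F, (fun a => em i (pd f (P.d + s • z - (s * s * f z z / 2) • P.e) - pd f P.d) (B a)) ∈ Y := by
      intro s
      have hd := hdiff _ (hY.sv i P.e (s • z) P.ee (by simp [hez]) y hyY)
      convert hd using 4
      have hzd : f z P.d = 0 := by rw [hf.symm, hdz]
      simp [sU_apply, P.ed hf, hzd]
      ring_nf
    refine ⟨_, IsAtom.sq (P.symm hf), fun h0 => ?_, fun a => (24 * (f z z / 2) ^ 2) • B a, ?_, ?_,
      fun h => absurd (LinearMap.congr_fun h P.e) ?_⟩
    · have h5 := congrArg (f P.d) (LinearMap.congr_fun h0 P.d)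
      simp [Fr.symm, pd_apply, P.de, P.ed hf] at h5
    · intro h0
      refine hB (funext fun a => (smul_eq_zero.1 (congrFun h0 a)).resolve_left ?_)
      refine mul_ne_zero (fun h24 => ?_) (pow_ne_zero _ (div_ne_zero hz h2))
      exact one_ne_zero (α := F) (by linear_combination (5 : F) * h5F - h24)
    · have hmem := Y.add_mem (Y.sub_mem (hs 4) (Y.nsmul_mem (hs 3) 4))
        (Y.sub_mem (Y.nsmul_mem (hs 2) 6) (Y.nsmul_mem (hs 1) 4))
      convert hmem using 1
      funext a
      refine Tm_ext i fun u w => ?_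
      simp only [Pi.add_apply, Pi.sub_apply, Pi.smul_apply, LinearMap.add_apply, LinearMap.sub_apply,
        LinearMap.smul_apply, ← Nat.cast_smul_eq_nsmul F, em_Tm, Fr.symm, pd_apply, map_add, map_sub, map_smul,
        smul_eq_mul]
      push_cast
      match_scalars <;> field_simp <;> ring
    · simpa [Fr.symm, pd_apply, P.ee] using P.e_ne.symm

omit hf [Finite F] in
/-- The tuples which are scalars at one factor. -/
def scal (ι : Type*) (F : Type*) [Field F] (k t : ℕ) (i : Fin (t + 1)) :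
    AddSubgroup (ι → Module.End F (Vt F k (t + 1))) where
  carrier := {v | ∀ a, ∃ A, v a = em i 1 A}
  zero_mem' a := ⟨0, (em_zero i 1).symm⟩
  add_mem' := fun {v w} hv hw a => by
    obtain ⟨A, hA⟩ := hv a
    obtain ⟨B, hB⟩ := hw a
    exact ⟨A + B, by rw [Pi.add_apply, hA, hB, em_add]⟩
  neg_mem' := fun {v} hv a => by
    obtain ⟨A, hA⟩ := hv a
    refine ⟨(-1 : F) • A, ?_⟩
    rw [Pi.neg_apply, hA, em_smul]
    exact (neg_one_smul F _).symm

theorem exists_split {ι : Type*} (hk : k = 3 ∨ 4 ≤ k) (hq : k = 3 → 5 ≤ Nat.card F)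
    (hT : k = 4 → OrthTensorFour.Thin f) (i : Fin (t + 1))
    {Y : AddSubgroup (ι → Module.End F (Vt F k (t + 1)))} (hY : IsInv hf Y) (hne : ∃ y ∈ Y, y ≠ 0) :
    ∃ M, IsAtom f M ∧ M ≠ 0 ∧ ∃ A : ι → Module.End F (Vt F k t), A ≠ 0 ∧ (fun a => em i M (A a)) ∈ Y := by
  obtain ⟨M, h1, h2, A, h3, h4, -⟩ := exists_split_mod hf hk hq hT i hY (K := ⊥)
    (fun u y hy => by rw [AddSubgroup.mem_bot] at hy ⊢; rw [hy, map_zero])
    (fun P y h z hz hz' => sub_eq_zero.1 (AddSubgroup.mem_bot.1 (h z hz hz')))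
    (fun P v hv _ => AddSubgroup.mem_bot.1 hv) (by
      obtain ⟨y, hy, h⟩ := hne
      exact ⟨y, hy, by rwa [AddSubgroup.mem_bot]⟩)
  exact ⟨M, h1, h2, A, h3, h4⟩

/-- A shift by a scalar at one factor under the Siegel elements of a pair is trivial. -/
theorem scal_fix {ι : Type*} (hk : k = 3 ∨ 4 ≤ k) (hq : k = 3 → 5 ≤ Nat.card F) (i : Fin (t + 1)) (P : Fr f)
    (y : ι → Module.End F (Vt F k (t + 1)))
    (h : ∀ z (hz : f P.d z = 0), f P.e z = 0 →
      cjHom ι (slot hf i (sU hf P.dd hz)) y - y ∈ scal ι F k t i)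
    (z : Ud F k) (hz : f P.d z = 0) (hez : f P.e z = 0) :
    cjHom ι (slot hf i (sU hf P.dd hz)) y = y := by
  classical
  have hk' : 4 ≤ k ∨ 3 ≤ k ∧ 5 ≤ Nat.card F := by
    rcases hk with hk | hk
    · exact Or.inr ⟨hk.ge, hq hk⟩
    · exact Or.inl (by omega)
  funext q
  let A : Ud F k → Module.End F (Vt F k t) := fun x =>
    if hx : f P.d x = 0 ∧ f P.e x = 0 then (h x hx.1 hx.2 q).choose else 0
  have hA : ∀ x (hx : f P.d x = 0), f P.e x = 0 →
      cj (slot hf i (sU hf P.dd hx)) (y q) = y q + em i 1 (A x) := by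
    intro x h1 h2
    simp only [A, dif_pos (And.intro h1 h2)]
    rw [← (h x h1 h2 q).choose_spec, Pi.sub_apply, cjHom_apply]
    abel
  suffices A z = 0 by
    rw [cjHom_apply, hA z hz hez, this, em_zero, add_zero]
  refine LinearMap.ext fun w => (frm_nondeg hf).2 _ fun w' => ?_
  set D := tensor hf i
  set M : Module.End F (Ud F k) := D.C w' ∘ₗ y q ∘ₗ (Tm i).flip w
  refine (shift_eq_zero hf hk' P (M := M) (a := fun x => frm f t w' (A x w)) (fun x h1 h2 v => ?_) hz hez)
  set s := sU hf P.dd h1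
  have hCs : ∀ v, D.C w' (lm (slot hf i s) v) = (s : Ud F k ≃ₗ[F] Ud F k) (D.C w' v) := fun v => by
    refine LinearMap.congr_fun (D.hom_ext (L := D.C w' ∘ₗ lm (slot hf i s)) (L' := lm s ∘ₗ D.C w') fun b r => ?_) v
    simp [lm, slot_Tm_self, D.C_T]
  have e : lm (slot hf i s) * y q = (y q + em i 1 (A x)) * lm (slot hf i s) := by
    rw [← hA x h1 h2, cj, mul_assoc, mul_assoc, lm_inv_mul, mul_one]
  have e' := congrArg (D.C w') (LinearMap.congr_fun e (Tm i v w))
  rw [Module.End.mul_apply, Module.End.mul_apply, hCs, LinearMap.add_apply, map_add] at e'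
  simp only [lm, LinearEquiv.coe_coe, slot_Tm_self, em_Tm, Module.End.one_apply, D.C_T] at e'
  simpa [M, s, sU, mkU_apply] using e'

theorem scal_inv {ι : Type*} (i : Fin (t + 1)) (u : OQ (qU f)) :
    ∀ y ∈ scal ι F k t i, cjHom ι (slot hf i u) y ∈ scal ι F k t i := fun y hy a => by
  obtain ⟨A, hA⟩ := hy a
  exact ⟨A, by rw [cjHom_apply, hA, cj_slot_em hf, cj_id]⟩

/-- **An invariant set contains a monomial.** -/
theorem exists_monomial {ι : Type*} (hk : k = 3 ∨ 4 ≤ k) (hq : k = 3 → 5 ≤ Nat.card F)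
    (hT : k = 4 → OrthTensorFour.Thin f) :
    ∀ {t : ℕ} {Y : AddSubgroup (ι → Module.End F (Vt F k t))}, IsInv hf Y → (∃ y ∈ Y, y ≠ 0) →
      ∃ (Ms : Fin t → Module.End F (Ud F k)) (c : ι → F), (∀ l, IsAtom f (Ms l) ∧ Ms l ≠ 0) ∧ c ≠ 0 ∧
        (fun a => c a • pmap Ms) ∈ Y := by
  intro t
  induction t with
  | zero =>
    rintro Y - ⟨y, hy, hy0⟩
    have hsc : ∀ L : Module.End F (Vt F k 0), L = L 1 (fun j => j.elim0) • 1 := fun L =>
      pvec_ext fun ξ => funext fun b => by
        have e1 : TensorWreath.pvec ξ = 1 := funext fun c => by simp [TensorWreath.pvec]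
        rw [e1, Subsingleton.elim b (fun j => j.elim0)]
        simp
    refine ⟨Fin.elim0, fun a => y a 1 (fun j => j.elim0), fun l => l.elim0,
      fun h => hy0 (funext fun a => by rw [hsc (y a), congrFun h a]; simp), ?_⟩
    convert hy using 1
    funext a
    rw [hsc (y a), show (Fin.elim0 : Fin 0 → Module.End F (Ud F k)) = 1 from funext fun l => l.elim0, pmap_one]

  | succ t ih =>
    intro Y hY hne
    obtain ⟨M, hM, hM0, A, hA, hAY⟩ := exists_split hf hk hq hT 0 hY hne
    let Y' : AddSubgroup (ι → Module.End F (Vt F k t)) :=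
      { carrier := {B | (fun a => em 0 M (B a)) ∈ Y}
        zero_mem' := by
          show _ ∈ Y
          simp only [Pi.zero_apply, em_zero]
          exact Y.zero_mem
        add_mem' := fun {a b} (ha : _ ∈ Y) (hb : _ ∈ Y) => by
          show _ ∈ Y
          simp only [Pi.add_apply, em_add]
          exact Y.add_mem ha hb
        neg_mem' := fun {a} (ha : _ ∈ Y) => by
          show _ ∈ Y
          convert Y.neg_mem ha using 1
          funext b
          rw [Pi.neg_apply, Pi.neg_apply, ← neg_one_smul F (a b), em_smul]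
          exact neg_one_smul F (em 0 M (a b)) }
    have htr : ∀ (j : Fin t) (u : OQ (qU f)) (B : ι → Module.End F (Vt F k t)),
        (cjHom ι (slot hf ((0 : Fin (t + 1)).succAbove j) u) (fun a => em 0 M (B a)) ∈ Y) →
          cjHom ι (slot hf j u) B ∈ Y' := by
      intro j u B h
      show _ ∈ Y
      convert h using 1
      funext a
      rw [cjHom_apply, cjHom_apply, cj_slot_em_succAbove hf]
    obtain ⟨Ms, c, hMs, hc, hmem⟩ := ih (Y := Y')
      ⟨fun l d z hd hz B hB => htr l _ B (hY.sv _ d z hd hz _ hB),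
        fun l P B hB => htr l _ B (hY.neg _ P _ hB), fun l P m hm B hB => htr l _ B (hY.sq _ P m hm _ hB),
        fun h4 l c hc B hB => htr l _ B (hY.refl h4 _ c hc _ hB)⟩
      ⟨A, hAY, hA⟩
    refine ⟨Fin.insertNth 0 M Ms, c, fun l => ?_, hc, ?_⟩
    · rcases Fin.eq_self_or_eq_succAbove 0 l with rfl | ⟨j, rfl⟩
      · rw [Fin.insertNth_apply_same]; exact ⟨hM, hM0⟩
      · rw [Fin.insertNth_apply_succAbove]; exact hMs j
    · convert (show (fun a => em 0 M (c a • pmap Ms)) ∈ Y from hmem) using 1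
      funext a
      rw [em_smul, pmap_insert]

/-- **A non-scalar invariant set contains a non-scalar monomial.** -/
theorem exists_monomial_ns {ι : Type*} (hk : k = 3 ∨ 4 ≤ k) (hq : k = 3 → 5 ≤ Nat.card F)
    (hT : k = 4 → OrthTensorFour.Thin f) :
    ∀ {t : ℕ} {Y : AddSubgroup (ι → Module.End F (Vt F k t))}, IsInv hf Y →
      (∃ y ∈ Y, ∃ a, ∀ c : F, y a ≠ c • 1) →
      ∃ (Ms : Fin t → Module.End F (Ud F k)) (c : ι → F), (∀ l, IsAtom f (Ms l) ∧ Ms l ≠ 0) ∧ c ≠ 0 ∧
        (∃ l, Ms l ≠ 1) ∧ (fun a => c a • pmap Ms) ∈ Y := by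
  intro t
  induction t with
  | zero =>
    rintro Y - ⟨y, -, a, h⟩
    refine absurd (pvec_ext fun ξ => funext fun b => ?_) (h (y a 1 (fun j => j.elim0)))
    have e1 : TensorWreath.pvec ξ = 1 := funext fun c => by simp [TensorWreath.pvec]
    rw [e1, Subsingleton.elim b (fun j => j.elim0)]
    simp
  | succ t ih =>
    intro Y hY hne
    by_cases hK : ∃ y ∈ Y, y ∉ scal ι F k t 0
    · obtain ⟨M, hM, hM0, A, hA, hAY, hA1⟩ := exists_split_mod hf hk hq hT 0 hY (scal_inv hf 0)
        (fun P y h => scal_fix hf hk hq 0 P y h)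
        (fun P v hv h0 => funext fun a => by
          obtain ⟨A, hA⟩ := hv a
          rw [hA, Pi.zero_apply, show A = 0 from LinearMap.ext fun w => (tensor hf (0 : Fin (t + 1))).T_eq_zero' P.d_ne
            (by simpa [hA, em_Tm] using h0 a w), em_zero])
        hK
      have hM1 : M ≠ 1 := fun h => hA1 h fun a => ⟨A a, by rw [h]⟩
      let Y' : AddSubgroup (ι → Module.End F (Vt F k t)) :=
        { carrier := {B | (fun a => em 0 M (B a)) ∈ Y}
          zero_mem' := by
            show _ ∈ Y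
            simp only [Pi.zero_apply, em_zero]
            exact Y.zero_mem
          add_mem' := fun {a b} (ha : _ ∈ Y) (hb : _ ∈ Y) => by
            show _ ∈ Y
            simp only [Pi.add_apply, em_add]
            exact Y.add_mem ha hb
          neg_mem' := fun {a} (ha : _ ∈ Y) => by
            show _ ∈ Y
            convert Y.neg_mem ha using 1
            funext b
            rw [Pi.neg_apply, Pi.neg_apply, ← neg_one_smul F (a b), em_smul]
            exact neg_one_smul F (em 0 M (a b)) }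
      have htr : ∀ (j : Fin t) (u : OQ (qU f)) (B : ι → Module.End F (Vt F k t)),
          (cjHom ι (slot hf ((0 : Fin (t + 1)).succAbove j) u) (fun a => em 0 M (B a)) ∈ Y) →
            cjHom ι (slot hf j u) B ∈ Y' := by
        intro j u B h
        show _ ∈ Y
        convert h using 1
        funext a
        rw [cjHom_apply, cjHom_apply, cj_slot_em_succAbove hf]
      obtain ⟨Ms, c, hMs, hc, hmem⟩ := exists_monomial hf hk hq hT (Y := Y')
        ⟨fun l d z hd hz B hB => htr l _ B (hY.sv _ d z hd hz _ hB),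
          fun l P B hB => htr l _ B (hY.neg _ P _ hB), fun l P m hm B hB => htr l _ B (hY.sq _ P m hm _ hB),
        fun h4 l c hc B hB => htr l _ B (hY.refl h4 _ c hc _ hB)⟩
        ⟨A, hAY, hA⟩
      refine ⟨Fin.insertNth 0 M Ms, c, fun l => ?_, hc, ⟨0, by rwa [Fin.insertNth_apply_same]⟩, ?_⟩
      · rcases Fin.eq_self_or_eq_succAbove 0 l with rfl | ⟨j, rfl⟩
        · rw [Fin.insertNth_apply_same]; exact ⟨hM, hM0⟩
        · rw [Fin.insertNth_apply_succAbove]; exact hMs j
      · convert (show (fun a => em 0 M (c a • pmap Ms)) ∈ Y from hmem) using 1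
        funext a
        rw [em_smul, pmap_insert]
    push Not at hK
    let Y' : AddSubgroup (ι → Module.End F (Vt F k t)) :=
      { carrier := {B | (fun a => em 0 (1 : Module.End F (Ud F k)) (B a)) ∈ Y}
        zero_mem' := by
          show _ ∈ Y
          simp only [Pi.zero_apply, em_zero]
          exact Y.zero_mem
        add_mem' := fun {a b} (ha : _ ∈ Y) (hb : _ ∈ Y) => by
          show _ ∈ Y
          simp only [Pi.add_apply, em_add]
          exact Y.add_mem ha hb
        neg_mem' := fun {a} (ha : _ ∈ Y) => by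
          show _ ∈ Y
          convert Y.neg_mem ha using 1
          funext b
          rw [Pi.neg_apply, Pi.neg_apply, ← neg_one_smul F (a b), em_smul]
          exact neg_one_smul F (em 0 1 (a b)) }
    have htr : ∀ (j : Fin t) (u : OQ (qU f)) (B : ι → Module.End F (Vt F k t)),
        (cjHom ι (slot hf ((0 : Fin (t + 1)).succAbove j) u) (fun a => em 0 1 (B a)) ∈ Y) →
          cjHom ι (slot hf j u) B ∈ Y' := by
      intro j u B h
      show _ ∈ Y
      convert h using 1
      funext a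
      rw [cjHom_apply, cjHom_apply, cj_slot_em_succAbove hf]
    obtain ⟨y, hy, a, hya⟩ := hne
    choose B hB using hK y hy
    obtain ⟨Ms, c, hMs, hc, ⟨l, hl⟩, hmem⟩ := ih (Y := Y')
      ⟨fun l d z hd hz B hB => htr l _ B (hY.sv _ d z hd hz _ hB),
        fun l P B hB => htr l _ B (hY.neg _ P _ hB), fun l P m hm B hB => htr l _ B (hY.sq _ P m hm _ hB),
        fun h4 l c hc B hB => htr l _ B (hY.refl h4 _ c hc _ hB)⟩
      ⟨B, by show _ ∈ Y; convert hy using 1; funext q; exact (hB q).symm, a, fun c h => hya c (by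
        rw [hB a, h, em_smul, em_one])⟩
    refine ⟨Fin.insertNth 0 1 Ms, c, fun j => ?_, hc, ⟨(0 : Fin (t + 1)).succAbove l, by
      rwa [Fin.insertNth_apply_succAbove]⟩, ?_⟩
    · rcases Fin.eq_self_or_eq_succAbove 0 j with rfl | ⟨j', rfl⟩
      · rw [Fin.insertNth_apply_same]
        refine ⟨IsAtom.one, fun h => ?_⟩
        obtain ⟨P, -⟩ := exists_frame hf (f := f) (by omega : 3 ≤ k)
        exact P.d_ne (LinearMap.congr_fun h P.d)
      · rw [Fin.insertNth_apply_succAbove]; exact hMs j'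
    · convert (show (fun a => em 0 1 (c a • pmap Ms)) ∈ Y from hmem) using 1
      funext a
      rw [em_smul, pmap_insert]

end CfsgLib.Geo.OrthWreath
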