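/-
The partner, the projection and the exchange of an elementary map of a factor.
-/
import Cfsg.Agent.Lib.Geo.OrthWreath.Atom

set_option autoImplicit false
set_option linter.unusedSectionVars false

namespace CfsgLib.Geo.OrthWreath

open CfsgLib.Classical CfsgLib.Classical.Quad Module
open CfsgLib.Geo.MixTensor (SymForm)
open LinearMap (BilinForm)

variable {F : Type*} [Field F] {k : ℕ} {f : BilinForm F (Ud F k)}

/-- An elementary map with its partner on the opposite pair. -/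
structure Blk (hf : SymForm f) (M : Module.End F (Ud F k)) where
  P : Fr f
  N : Module.End F (Ud F k)
  u : OQ (qU f)
  z : Ud F k
  eps : F
  nu : F
  sgn : F
  eps_sq : eps * eps = 1
  nu_ne : nu ≠ 0
  sgn_sq : sgn * sgn = 1
  adjM : ∀ a b, f a (M b) = sgn * f (M a) b
  adjN : ∀ a b, f a (N b) = sgn * f (N a) b
  kind : sgn = 1 ∨ ∀ (m : F) (hm : m ≠ 0), cj (P.tor hf hm) M = m • M
  Md : M P.d = 0
  mnm : M * N * M = eps • M
  nmn : N * M * N = eps • N
  comm : M * N * (N * M) = N * M * (M * N)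
  cjM : cj u M = nu • N
  cjN : cj u N = nu⁻¹ • M
  dz : f P.d z = 0
  ez : f P.e z = 0
  zz : f z z ≠ 0
  Qd : (eps • (M * N) + eps • (N * M) - (2 : F) • (M * N * (N * M))) P.d = P.d
  Qe : (eps • (M * N) + eps • (N * M) - (2 : F) • (M * N * (N * M))) P.e = P.e
  Qz : (eps • (M * N) + eps • (N * M) - (2 : F) • (M * N * (N * M))) z = 0
  comp : ∀ (c : OQ (qU f)) (m e : F), m ≠ 0 → e * e = 1 → (c : Ud F k ≃ₗ[F] Ud F k) P.d = m • P.d →
    (c : Ud F k ≃ₗ[F] Ud F k) P.e = m⁻¹ • P.e →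
    (∀ y, f P.d y = 0 → f P.e y = 0 → f z y = 0 → (c : Ud F k ≃ₗ[F] Ud F k) y = y) →
    (c : Ud F k ≃ₗ[F] Ud F k) z = e • z → ∃ a : F, a ≠ 0 ∧ cj c M = a • M ∧ cj c N = a⁻¹ • N

variable {hf : SymForm f} {M : Module.End F (Ud F k)}

namespace Blk

variable (B : Blk hf M)

/-- The idempotent. -/
def E : Module.End F (Ud F k) := B.eps • (M * B.N)

/-- The opposite idempotent. -/
def E' : Module.End F (Ud F k) := B.eps • (B.N * M)

/-- The projection on the span of the block. -/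
def Q : Module.End F (Ud F k) := B.E + B.E' - (2 : F) • (B.E * B.E')

theorem EE' : B.E * B.E' = M * B.N * (B.N * M) := by
  rw [E, E', smul_mul_smul_comm, B.eps_sq, one_smul]

theorem E'E : B.E' * B.E = B.N * M * (M * B.N) := by
  rw [E, E', smul_mul_smul_comm, B.eps_sq, one_smul]

theorem E_comm : B.E * B.E' = B.E' * B.E := by rw [B.EE', B.E'E, B.comm]

theorem Q_eq : B.Q = B.eps • (M * B.N) + B.eps • (B.N * M) - (2 : F) • (M * B.N * (B.N * M)) := by
  rw [Q, B.EE']
  rfl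

theorem E_idem : B.E * B.E = B.E := by
  rw [E, smul_mul_smul_comm, B.eps_sq, one_smul, ← mul_assoc, B.mnm, smul_mul_assoc]

theorem E'_idem : B.E' * B.E' = B.E' := by
  rw [E', smul_mul_smul_comm, B.eps_sq, one_smul, ← mul_assoc, B.nmn, smul_mul_assoc]

theorem Q_idem : B.Q * B.Q = B.Q := by
  have h1 := B.E_idem
  have h2 := B.E'_idem
  have h3 := B.E_comm
  have h4 : B.E * (B.E * B.E') = B.E * B.E' := by rw [← mul_assoc, h1]
  have h5 : B.E' * (B.E * B.E') = B.E * B.E' := by rw [h3, ← mul_assoc, h2]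
  have h6 : B.E * B.E' * B.E = B.E * B.E' := by rw [mul_assoc, ← h3, h4]
  have h7 : B.E * B.E' * B.E' = B.E * B.E' := by rw [mul_assoc, h2]
  have h8 : B.E * B.E' * (B.E * B.E') = B.E * B.E' := by rw [← mul_assoc, h6, h7]
  simp only [Q, mul_add, add_mul, mul_sub, sub_mul, mul_smul_comm, smul_mul_assoc, h1, h2, h4, h5, h6, h7, h8, ← h3]
  module

theorem cjE : cj B.u B.E = B.E' := by
  rw [E, E', cj_smul, cj_prod, B.cjM, B.cjN, smul_mul_smul_comm, mul_inv_cancel₀ B.nu_ne, one_smul]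

theorem cjE' : cj B.u B.E' = B.E := by
  rw [E, E', cj_smul, cj_prod, B.cjM, B.cjN, smul_mul_smul_comm, inv_mul_cancel₀ B.nu_ne, one_smul]

theorem comp_E {c : OQ (qU f)} {m e : F} (hm : m ≠ 0) (he : e * e = 1)
    (h1 : (c : Ud F k ≃ₗ[F] Ud F k) B.P.d = m • B.P.d) (h2 : (c : Ud F k ≃ₗ[F] Ud F k) B.P.e = m⁻¹ • B.P.e)
    (h3 : ∀ y, f B.P.d y = 0 → f B.P.e y = 0 → f B.z y = 0 → (c : Ud F k ≃ₗ[F] Ud F k) y = y)
    (h4 : (c : Ud F k ≃ₗ[F] Ud F k) B.z = e • B.z) : cj c B.E = B.E ∧ cj c B.E' = B.E' := by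
  obtain ⟨a, ha, hM, hN⟩ := B.comp c m e hm he h1 h2 h3 h4
  constructor
  · rw [E, cj_smul, cj_prod, hM, hN, smul_mul_smul_comm, mul_inv_cancel₀ ha, one_smul]
  · rw [E', cj_smul, cj_prod, hM, hN, smul_mul_smul_comm, inv_mul_cancel₀ ha, one_smul]

theorem comp_Q {c : OQ (qU f)} {m e : F} (hm : m ≠ 0) (he : e * e = 1)
    (h1 : (c : Ud F k ≃ₗ[F] Ud F k) B.P.d = m • B.P.d) (h2 : (c : Ud F k ≃ₗ[F] Ud F k) B.P.e = m⁻¹ • B.P.e)
    (h3 : ∀ y, f B.P.d y = 0 → f B.P.e y = 0 → f B.z y = 0 → (c : Ud F k ≃ₗ[F] Ud F k) y = y)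
    (h4 : (c : Ud F k ≃ₗ[F] Ud F k) B.z = e • B.z) : cj c B.Q = B.Q := by
  obtain ⟨hE, hE'⟩ := B.comp_E hm he h1 h2 h3 h4
  rw [Q, sub_eq_add_neg, ← neg_smul (2 : F) (B.E * B.E'), cj_add, cj_add, cj_smul, cj_prod, hE, hE']

theorem E_adj (a b : Ud F k) : f a (B.E b) = f (B.E' a) b := by
  simp only [E, E', LinearMap.smul_apply, Module.End.mul_apply, map_smul, LinearMap.smul_apply, smul_eq_mul,
    B.adjM, B.adjN]
  linear_combination B.eps * f (B.N (M a)) b * B.sgn_sq

theorem E'_adj (a b : Ud F k) : f a (B.E' b) = f (B.E a) b := by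
  simp only [E, E', LinearMap.smul_apply, Module.End.mul_apply, map_smul, LinearMap.smul_apply, smul_eq_mul,
    B.adjM, B.adjN]
  linear_combination B.eps * f (M (B.N a)) b * B.sgn_sq

theorem Q_adj (a b : Ud F k) : f a (B.Q b) = f (B.Q a) b := by
  simp only [Q, LinearMap.sub_apply, LinearMap.add_apply, LinearMap.smul_apply, Module.End.mul_apply, map_sub,
    map_add, map_smul, LinearMap.sub_apply, LinearMap.add_apply, LinearMap.smul_apply, smul_eq_mul, B.E_adj,
    B.E'_adj]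
  rw [← Module.End.mul_apply B.E B.E' a, B.E_comm, Module.End.mul_apply]
  ring

/-- The Siegel element of the block. -/
noncomputable def sg : OQ (qU f) := sU hf B.P.dd B.dz

/-- The reflection in the block inverts the Siegel element. -/
theorem cj_half : (1 - (2 : F) • B.Q) * lm B.sg * (1 - (2 : F) • B.Q) = lm B.sg⁻¹ := by
  set j := 1 - (2 : F) • B.Q with hj
  have hd : B.Q B.P.d = B.P.d := by rw [B.Q_eq]; exact B.Qd
  have hz : B.Q B.z = 0 := by rw [B.Q_eq]; exact B.Qz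
  have hja : ∀ a, j a = a - (2 : F) • B.Q a := fun a => rfl
  have hjj : ∀ a, j (j a) = a := fun a => by
    have h : B.Q (B.Q a) = B.Q a := LinearMap.congr_fun B.Q_idem a
    simp only [hja, map_sub, map_smul, h]
    module
  have hjf : ∀ a b, f a (j b) = f (j a) b := fun a b => by
    simp only [hja, map_sub, map_smul, LinearMap.sub_apply, LinearMap.smul_apply, B.Q_adj]
  have hjd : j B.P.d = -B.P.d := by rw [hja, hd]; module
  have hjz : j B.z = B.z := by rw [hja, hz]; simp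
  refine LinearMap.ext fun a => ?_
  rw [Blk.sg, sU_inv]
  simp only [Module.End.mul_apply, lm, LinearEquiv.coe_coe, sU_apply, map_add, map_sub, map_smul, hjj, hjd, hjz,
    hjf, map_neg, LinearMap.neg_apply, smul_neg, neg_smul, neg_mul]
  module

theorem half_conj : (1 - (2 : F) • B.Q) * cj B.sg (1 - (2 : F) • B.Q) = lm (B.sg⁻¹ * B.sg⁻¹) := by
  rw [cj, ← mul_assoc, ← mul_assoc, B.cj_half, lm_mul]

end Blk

/-- The square of an isotropic vector, with its partner. -/
noncomputable def sqBlk (hf : SymForm f) (P : Fr f) {z : Ud F k} (dz : f P.d z = 0) (ez : f P.e z = 0)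
    (zz : f z z ≠ 0) : Blk hf (pd f P.d) where
  P := P
  N := pd f P.e
  u := P.sw hf one_ne_zero
  z := z
  eps := 1
  nu := 1
  sgn := 1
  eps_sq := one_mul 1
  nu_ne := one_ne_zero
  sgn_sq := one_mul 1
  adjM a b := by simp [pd_apply, hf.symm a P.d]; ring
  adjN a b := by simp [pd_apply, hf.symm a P.e]; ring
  kind := Or.inl rfl
  Md := by simp [pd_apply, P.dd]
  mnm := LinearMap.ext fun a => by simp [pd_apply, P.de, P.ed hf]
  nmn := LinearMap.ext fun a => by simp [pd_apply, P.de, P.ed hf]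
  comm := LinearMap.ext fun a => by simp [pd_apply, P.dd, P.ee]
  cjM := by rw [cj_pd hf, P.sw_d, one_smul, one_smul]
  cjN := by rw [cj_pd hf, P.sw_e, inv_one, one_smul, one_smul]
  dz := dz
  ez := ez
  zz := zz
  Qd := by simp [pd_apply, P.dd, P.ee, P.de, P.ed hf]
  Qe := by simp [pd_apply, P.dd, P.ee, P.de, P.ed hf]
  Qz := by simp [pd_apply, dz, ez]
  comp c m e hm _ h1 h2 _ _ := by
    have hsc : ∀ (x : F) (d : Ud F k), pd f (x • d) = (x * x) • pd f d := fun x d =>
      LinearMap.ext fun a => by simp [pd_apply, smul_smul, mul_comm, mul_assoc]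
    exact ⟨m * m, mul_ne_zero hm hm, by rw [cj_pd hf, h1, hsc], by rw [cj_pd hf, h2, hsc, mul_inv]⟩

theorem sqBlk_zero (hf : SymForm f) (P : Fr f) {z : Ud F k} (dz : f P.d z = 0) (ez : f P.e z = 0)
    (zz : f z z ≠ 0) :
    pd f P.d * pd f P.d = 0 ∧ pd f P.e * pd f P.e = 0 ∧ (sqBlk hf P dz ez zz).E * (sqBlk hf P dz ez zz).E' = 0 := by
  refine ⟨LinearMap.ext fun a => by simp [pd_apply, P.dd], LinearMap.ext fun a => by simp [pd_apply, P.ee], ?_⟩
  rw [Blk.EE']
  exact LinearMap.ext fun a => by simp [sqBlk, pd_apply, P.ee]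

section

variable (hf)
include hf

/-- **Every non-scalar elementary map has a partner.** -/
theorem exists_blk [Finite F] (hk : 3 ≤ k) {M : Module.End F (Ud F k)} (hM : IsAtom f M) :
    M = 1 ∨ Nonempty (Blk hf M) := by
  cases hM with
  | one => exact Or.inl rfl
  | sq P =>
    obtain ⟨z, dz, ez, zz⟩ := P.exists_z hf hk
    exact Or.inr ⟨sqBlk hf P dz ez zz⟩
  | wedge P z₀ z₁ c g hdz₀ hez₀ hdz₁ hez₁ h10 hc hgd hge hgz hgz₁ halt =>
    refine Or.inr ?_
    have hz₀d : f z₀ P.d = 0 := by rw [hf.symm, hdz₀]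
    have hz₀e : f z₀ P.e = 0 := by rw [hf.symm, hez₀]
    have hz₁d : f z₁ P.d = 0 := by rw [hf.symm, hdz₁]
    have hz₁e : f z₁ P.e = 0 := by rw [hf.symm, hez₁]
    have h01 : f z₀ z₁ = 1 := by rw [hf.symm, h10]
    have hed := P.ed hf
    obtain ⟨z, dz, ez, zz, hz, hfix⟩ : ∃ z, f P.d z = 0 ∧ f P.e z = 0 ∧ f z z ≠ 0 ∧
        ((5 ≤ k ∧ f z₀ z₀ = 0 ∧ f z₁ z₁ = 0 ∧ f z z₀ = 0 ∧ f z z₁ = 0) ∨ c • z₁ = z₀ ∧ z = z₀) ∧ True := by
      rcases halt with ⟨h5, h0, h1⟩ | h
      · set S₁ := Submodule.span F ({P.d, P.e} : Set (Ud F k))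
        set S₂ := Submodule.span F ({z₀, z₁} : Set (Ud F k))
        have hs₁ : finrank F S₁ ≤ 2 := OrthTensor.span_pair_le P.d P.e
        have hs₂ : finrank F S₂ ≤ 2 := OrthTensor.span_pair_le z₀ z₁
        have hsum := Submodule.finrank_sup_add_finrank_inf_eq S₁ S₂
        obtain ⟨z, hz, hzS⟩ := OrthTensor.exists_aniso_perp hf (S₁ ⊔ S₂) (fun x hx hxP => by
          obtain ⟨p, hp, q, hq, rfl⟩ := Submodule.mem_sup.1 hx
          obtain ⟨a₁, b₁, rfl⟩ := Submodule.mem_span_pair.1 hp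
          obtain ⟨a₂, b₂, rfl⟩ := Submodule.mem_span_pair.1 hq
          have e1 := hxP P.d (Submodule.mem_sup_left (Submodule.subset_span (Set.mem_insert _ _)))
          have e2 := hxP P.e (Submodule.mem_sup_left (Submodule.subset_span (Set.mem_insert_of_mem _ rfl)))
          have e3 := hxP z₀ (Submodule.mem_sup_right (Submodule.subset_span (Set.mem_insert _ _)))
          have e4 := hxP z₁ (Submodule.mem_sup_right (Submodule.subset_span (Set.mem_insert_of_mem _ rfl)))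
          simp [P.dd, P.ee, P.de, hed, h0, h1, h01, h10, hdz₀, hez₀, hdz₁, hez₁, hz₀d, hz₀e, hz₁d, hz₁e]
            at e1 e2 e3 e4
          rw [e1, e2, e3, e4]
          simp)
          (by rw [finrank_fin_fun]; omega)
        refine ⟨z, hzS _ (Submodule.mem_sup_left (Submodule.subset_span (Set.mem_insert _ _))),
          hzS _ (Submodule.mem_sup_left (Submodule.subset_span (Set.mem_insert_of_mem _ rfl))), hz,
          Or.inl ⟨h5, h0, h1, ?_, ?_⟩, trivial⟩
        · rw [hf.symm]; exact hzS _ (Submodule.mem_sup_right (Submodule.subset_span (Set.mem_insert _ _)))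
        · rw [hf.symm]; exact hzS _ (Submodule.mem_sup_right (Submodule.subset_span (Set.mem_insert_of_mem _ rfl)))
      · refine ⟨z₀, hdz₀, hez₀, ?_, Or.inr ⟨h, rfl⟩, trivial⟩
        conv => enter [1, 2]; rw [← h]
        rw [map_smul, smul_eq_mul, h01, mul_one]
        exact hc
    clear hfix
    have hnf : ∀ (d z : Ud F k) (a b : Ud F k), f a (nf f d z b) = -1 * f (nf f d z a) b := fun d z a b => by
      simp [nf_apply, hf.symm a d, hf.symm a z]; ring
    have hu0 : (P.sw hf one_ne_zero * g : OQ (qU f)).1 z₀ = c • z₁ := by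
      show (P.sw hf one_ne_zero : Ud F k ≃ₗ[F] Ud F k) ((g : Ud F k ≃ₗ[F] Ud F k) z₀) = _
      rw [hgz, map_smul, P.sw_perp hf _ hdz₁ hez₁]
    have hu1 : (P.sw hf one_ne_zero * g : OQ (qU f)).1 z₁ = c⁻¹ • z₀ := by
      show (P.sw hf one_ne_zero : Ud F k ≃ₗ[F] Ud F k) ((g : Ud F k ≃ₗ[F] Ud F k) z₁) = _
      rw [hgz₁, map_smul, P.sw_perp hf _ hdz₀ hez₀]
    have hud : (P.sw hf one_ne_zero * g : OQ (qU f)).1 P.d = P.e := by
      show (P.sw hf one_ne_zero : Ud F k ≃ₗ[F] Ud F k) ((g : Ud F k ≃ₗ[F] Ud F k) P.d) = _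
      rw [hgd, P.sw_d, one_smul]
    have hue : (P.sw hf one_ne_zero * g : OQ (qU f)).1 P.e = P.d := by
      show (P.sw hf one_ne_zero : Ud F k ≃ₗ[F] Ud F k) ((g : Ud F k ≃ₗ[F] Ud F k) P.e) = _
      rw [hge, P.sw_e, inv_one, one_smul]
    refine ⟨{
      P := P
      N := nf f P.e z₁
      u := P.sw hf one_ne_zero * g
      z := z
      eps := -1
      nu := c
      sgn := -1
      eps_sq := by norm_num
      nu_ne := hc
      sgn_sq := by norm_num
      adjM := hnf _ _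
      adjN := hnf _ _
      kind := Or.inr fun m hm => by
        rw [cj_nf hf, P.tor_d, P.tor_perp hf hm hdz₀ hez₀]
        exact LinearMap.ext fun a => by simp [nf_apply]; module
      Md := by simp [nf_apply, P.dd, hz₀d]
      mnm := LinearMap.ext fun a => by
        simp [nf_apply, P.dd, P.de, hed, h01, h10, hdz₁, hz₀e, hez₁, hz₁d, hdz₀, hz₁e, hz₀d, hez₀]
        abel
      nmn := LinearMap.ext fun a => by
        simp [nf_apply, P.ee, P.de, hed, h01, h10, hez₀, hz₁d, hdz₀, hz₀e, hez₁, hz₀d, hdz₁, hz₁e]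
        abel
      comm := LinearMap.ext fun a => by
        rcases hz with ⟨-, g0, g1, -, -⟩ | ⟨h, -⟩
        · simp [nf_apply, P.dd, P.ee, P.de, hed, h01, h10, g0, g1, hdz₀, hez₀, hdz₁, hez₁, hz₀d, hz₀e, hz₁d, hz₁e]
        · have e2 : z₁ = c⁻¹ • z₀ := by rw [← h, inv_smul_smul₀ hc]
          have e00 : f z₀ z₀ = c := by
            calc f z₀ z₀ = f z₀ (c • z₁) := by rw [h]
              _ = c := by rw [map_smul, smul_eq_mul, h01, mul_one]
          subst e2
          simp [nf_apply, P.dd, P.ee, P.de, hed, hdz₀, hez₀, hz₀d, hz₀e, e00, smul_smul]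
          try match_scalars <;> field_simp <;> ring
      cjM := by
        rw [cj_nf hf]
        exact LinearMap.ext fun a => by
          rw [show (_ : Ud F k ≃ₗ[F] Ud F k) P.d = _ from hud, show (_ : Ud F k ≃ₗ[F] Ud F k) z₀ = _ from hu0]
          simp [nf_apply]; module
      cjN := by
        rw [cj_nf hf]
        exact LinearMap.ext fun a => by
          rw [show (_ : Ud F k ≃ₗ[F] Ud F k) P.e = _ from hue, show (_ : Ud F k ≃ₗ[F] Ud F k) z₁ = _ from hu1]
          simp [nf_apply]; module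
      dz := dz
      ez := ez
      zz := zz
      Qd := by
        simp [nf_apply, P.dd, P.ee, P.de, hed, h01, h10, hdz₀, hez₀, hdz₁, hez₁, hz₀d, hz₀e, hz₁d, hz₁e]
      Qe := by
        simp [nf_apply, P.dd, P.ee, P.de, hed, h01, h10, hdz₀, hez₀, hdz₁, hez₁, hz₀d, hz₀e, hz₁d, hz₁e]
      Qz := by
        rcases hz with ⟨-, g0, g1, g2, g3⟩ | ⟨h, rfl⟩
        · have g2' : f z₀ z = 0 := by rw [hf.symm, g2]
          have g3' : f z₁ z = 0 := by rw [hf.symm, g3]
          simp [nf_apply, dz, ez, g2', g3']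
        · have e2 : z₁ = c⁻¹ • z := by rw [← h, inv_smul_smul₀ hc]
          have e00 : f z z = c := by
            calc f z z = f z (c • z₁) := by rw [h]
              _ = c := by rw [map_smul, smul_eq_mul, h01, mul_one]
          subst e2
          simp [nf_apply, P.dd, P.ee, P.de, hed, hdz₀, hez₀, hz₀d, hz₀e, e00, hc, smul_smul]
          try match_scalars <;> field_simp <;> ring
      comp := fun d m e hm he h1 h2 h3 h4 => by
        obtain ⟨a, ha, e0, e1⟩ : ∃ a : F, a * a = 1 ∧ (d : Ud F k ≃ₗ[F] Ud F k) z₀ = a • z₀ ∧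
            (d : Ud F k ≃ₗ[F] Ud F k) z₁ = a • z₁ := by
          rcases hz with ⟨-, g0, g1, g2, g3⟩ | ⟨h, rfl⟩
          · exact ⟨1, one_mul 1, by rw [one_smul, h3 _ hdz₀ hez₀ g2], by rw [one_smul, h3 _ hdz₁ hez₁ g3]⟩
          · refine ⟨e, he, h4, ?_⟩
            have e2 : z₁ = c⁻¹ • z := by rw [← h, inv_smul_smul₀ hc]
            rw [e2, map_smul, h4, smul_comm]
        have ha0 : a ≠ 0 := fun h => by simp [h] at ha
        refine ⟨m * a, mul_ne_zero hm ha0, ?_, ?_⟩
        · rw [cj_nf hf, h1, e0]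
          exact LinearMap.ext fun x => by simp [nf_apply]; module
        · rw [cj_nf hf, h2, e1, mul_inv, inv_eq_of_mul_eq_one_left ha]
          exact LinearMap.ext fun x => by simp [nf_apply]; module }⟩

end

end CfsgLib.Geo.OrthWreath
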