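/-
Radical elements of an isotropic line of one factor in an overgroup without central elements.
-/
import Cfsg.Agent.Lib.Geo.OrthTensor.Key

set_option autoImplicit false
set_option linter.unusedSectionVars false

namespace CfsgLib.Geo.OrthWreath

open CfsgLib.Classical CfsgLib.Classical.Quad Module
open CfsgLib.Geo.MixTensor (SymForm refl)
open CfsgLib.Geo.OrthTensor (Tensor Tens sv sv_apply exists_iso_partner exists_aniso_perp pair_nondeg span_pair_le)
open QuadraticMap (polar polarBilin)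
open LinearMap (BilinForm)

variable {F : Type*} [Field F] {U W V : Type*} [AddCommGroup U] [Module F U] [FiniteDimensional F U]
  [AddCommGroup W] [Module F W] [FiniteDimensional F W] [AddCommGroup V] [Module F V] [FiniteDimensional F V]

/-- An overgroup with the Siegel maps of the second factor and without central elements. -/
structure Lite (Q : QuadraticForm F V) (f : BilinForm F U) (g : BilinForm F W) (T : U →ₗ[F] W →ₗ[F] V)
    (K : Subgroup (OQ Q)) : Prop extends Tensor Q f g T where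
  three : 3 ≤ finrank F W
  nontrivU : Nontrivial U
  siegel : ∀ {w z : W}, g w w = 0 → g w z = 0 → g z z ≠ 0 →
    ∃ k ∈ K, ∀ a y, (k : V ≃ₗ[F] V) (T a y) = T a (sv g w z y)
  nc : ∀ k ∈ K, ∀ (w : W) (φ : U →ₗ[F] U), w ≠ 0 → g w w = 0 →
    (∀ a y, (k : V ≃ₗ[F] V) (T a y) = T a y + g w y • T (φ a) w) → φ = 0

variable [Finite F] {Q : QuadraticForm F V} {f : BilinForm F U} {g : BilinForm F W} {T : U →ₗ[F] W →ₗ[F] V}
  {K : Subgroup (OQ Q)}

namespace Lite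

variable (O : Lite Q f g T K)
include O

/-- The scalar of the kernel of the centre. -/
theorem C_conj {k : OQ Q} {A : U →ₗ[F] U} {B : W →ₗ[F] W} (hA : ∀ a b, f (A a) (A b) = f a b)
    (hk : ∀ a y, (k : V ≃ₗ[F] V) (T a y) = T (A a) (B y)) (z : W) (v : V) :
    O.C (B z) ((k : V ≃ₗ[F] V) v) = A (O.C z v) := O.fext fun a => by
  obtain ⟨b, rfl⟩ : ∃ b, A b = a := by
    refine LinearMap.injective_iff_surjective.1 (fun p q e => sub_eq_zero.1 (O.hf.nd.1 _ fun y => ?_)) a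
    rw [map_sub, LinearMap.sub_apply, ← hA p, ← hA q, e, sub_self]
  rw [O.f_C, ← hk, OQ.map_polar, hA, O.f_C]

/-- The adjoint of a map from the first factor. -/
noncomputable def adjV (X : U →ₗ[F] V) : V →ₗ[F] U :=
  (f.toDual O.hf.nd).symm.toLinearMap ∘ₗ X.dualMap ∘ₗ (polarBilin Q).flip

theorem f_adjV (X : U →ₗ[F] V) (a : U) (v : V) : f a (O.adjV X v) = polar Q (X a) v := by
  rw [O.hf.symm]
  exact LinearMap.BilinForm.apply_toDual_symm_apply (B := f) (hB := O.hf.nd) (X.dualMap ((polarBilin Q).flip v)) a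

theorem adjV_add (X Y : U →ₗ[F] V) (v : V) : O.adjV (X + Y) v = O.adjV X v + O.adjV Y v :=
  O.fext fun a => by rw [map_add, O.f_adjV, O.f_adjV, O.f_adjV, LinearMap.add_apply, polar_add_left']

theorem adjV_smul (c : F) (X : U →ₗ[F] V) (v : V) : O.adjV (c • X) v = c • O.adjV X v :=
  O.fext fun a => by rw [map_smul, O.f_adjV, O.f_adjV, LinearMap.smul_apply, polar_smul_left', smul_eq_mul]

/-- A radical element of a line. -/
def Rad (w : W) (X : U →ₗ[F] V) : Prop :=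
  (∀ a, O.C w (X a) = 0) ∧ ∃ k ∈ K, ∃ ψ : U →ₗ[F] U, ∀ v,
    (k : V ≃ₗ[F] V) v = v + X (O.C w v) - T (O.adjV X v) w + T (ψ (O.C w v)) w

theorem adjV_line {w : W} {X : U →ₗ[F] V} (hX : ∀ a, O.C w (X a) = 0) (b : U) : O.adjV X (T b w) = 0 :=
  O.fext fun a => by rw [O.f_adjV, QuadraticMap.polar_comm, ← O.f_C, hX, map_zero, map_zero]

theorem rad_mul_apply {w : W} (hw : g w w = 0) {X Y : U →ₗ[F] V} (hX : ∀ a, O.C w (X a) = 0)
    (hY : ∀ a, O.C w (Y a) = 0) {k k' : OQ Q} {ψ χ : U →ₗ[F] U}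
    (hk : ∀ v, (k : V ≃ₗ[F] V) v = v + X (O.C w v) - T (O.adjV X v) w + T (ψ (O.C w v)) w)
    (hk' : ∀ v, (k' : V ≃ₗ[F] V) v = v + Y (O.C w v) - T (O.adjV Y v) w + T (χ (O.C w v)) w) (v : V) :
    ((k * k' : OQ Q) : V ≃ₗ[F] V) v = v + (X + Y) (O.C w v) - T (O.adjV (X + Y) v) w +
      T ((ψ + χ - O.adjV X ∘ₗ Y) (O.C w v)) w := by
  show (k : V ≃ₗ[F] V) ((k' : V ≃ₗ[F] V) v) = _
  rw [hk, hk']
  simp only [map_add, map_sub, hY, O.C_T, hw, zero_smul, sub_zero, add_zero, O.adjV_line hX, O.adjV_add,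
    LinearMap.add_apply, LinearMap.sub_apply, LinearMap.comp_apply]
  abel

theorem rad_add {w : W} (hw : g w w = 0) {X Y : U →ₗ[F] V} (hX : O.Rad w X) (hY : O.Rad w Y) :
    O.Rad w (X + Y) := by
  obtain ⟨hX0, k, hk, ψ, e⟩ := hX
  obtain ⟨hY0, k', hk', χ, e'⟩ := hY
  exact ⟨fun a => by simp [hX0, hY0], k * k', K.mul_mem hk hk', _, O.rad_mul_apply hw hX0 hY0 e e'⟩

theorem rad_neg {w : W} (hw : g w w = 0) {X : U →ₗ[F] V} (hX : O.Rad w X) : O.Rad w (-X) := by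
  obtain ⟨hX0, k, hk, ψ, e⟩ := hX
  refine ⟨fun a => by simp [hX0], k⁻¹, K.inv_mem hk, -ψ - O.adjV X ∘ₗ X, fun v => ?_⟩
  show (k : V ≃ₗ[F] V).symm v = _
  rw [LinearEquiv.symm_apply_eq, e]
  have hn : ∀ v, O.adjV (-X) v = -O.adjV X v := fun v => by
    rw [← neg_one_smul F X, O.adjV_smul, neg_one_smul]
  simp only [map_add, map_sub, map_neg, hX0, O.C_T, hw, zero_smul, neg_zero, sub_zero, add_zero,
    O.adjV_line hX0, hn, LinearMap.neg_apply, LinearMap.sub_apply, LinearMap.comp_apply]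
  simp only [LinearMap.add_apply, LinearMap.sub_apply, LinearMap.neg_apply, map_add, map_sub, map_neg]
  abel

/-- Two radical elements commute. -/
theorem rad_comm {w : W} (hw0 : w ≠ 0) (hw : g w w = 0) {X Y : U →ₗ[F] V} (hX : O.Rad w X) (hY : O.Rad w Y)
    (a : U) : O.adjV X (Y a) = O.adjV Y (X a) := by
  obtain ⟨hX0, k, hk, ψ, e⟩ := hX
  obtain ⟨hY0, k', hk', χ, e'⟩ := hY
  set Φ : U →ₗ[F] U := O.adjV Y ∘ₗ X - O.adjV X ∘ₗ Y
  have h := O.nc (k * k' * (k' * k)⁻¹) (K.mul_mem (K.mul_mem hk hk') (K.inv_mem (K.mul_mem hk' hk))) w Φ hw0 hw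
    (fun a y => by
      obtain ⟨v, hv⟩ := ((k' * k : OQ Q) : V ≃ₗ[F] V).surjective (T a y)
      have h1 : O.C w v = g w y • a := by
        have h2 := congrArg (O.C w) hv
        rw [O.rad_mul_apply hw hY0 hX0 e' e, O.C_T] at h2
        simpa [O.C_T, hw, hX0, hY0] using h2
      show ((k * k' : OQ Q) : V ≃ₗ[F] V) (((k' * k : OQ Q) : V ≃ₗ[F] V).symm (T a y)) = _
      rw [← hv, LinearEquiv.symm_apply_apply, O.rad_mul_apply hw hX0 hY0 e e', O.rad_mul_apply hw hY0 hX0 e' e,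
        add_comm Y X, h1]
      simp only [Φ, LinearMap.add_apply, LinearMap.sub_apply, LinearMap.comp_apply, map_add, map_sub, map_smul,
        smul_sub, smul_add, LinearMap.smul_apply]
      abel)
  have h2 := LinearMap.congr_fun h a
  rw [LinearMap.sub_apply, LinearMap.zero_apply, sub_eq_zero] at h2
  exact h2.symm

/-- The Siegel maps give the unit radical elements. -/
theorem rad_unit {w z : W} (hw : g w w = 0) (h : g w z = 0) (hz : g z z ≠ 0) : O.Rad w (T.flip z) := by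
  obtain ⟨k, hk, e⟩ := O.siegel hw h hz
  refine ⟨fun a => by simp [O.C_T, h], k, hk, (-(g z z / 2)) • LinearMap.id, fun v => ?_⟩
  refine LinearMap.congr_fun (O.hom_ext (L := ((k : V ≃ₗ[F] V) : V →ₗ[F] V))
    (L' := LinearMap.id + T.flip z ∘ₗ O.C w - T.flip w ∘ₗ O.adjV (T.flip z) +
      T.flip w ∘ₗ ((-(g z z / 2)) • LinearMap.id) ∘ₗ O.C w) fun a y => ?_) v
  have h1 : O.adjV (T.flip z) (T a y) = g z y • a := O.fext fun b => by
    rw [O.f_adjV, LinearMap.flip_apply, O.polarT, map_smul, smul_eq_mul, mul_comm]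
  simp [e, sv_apply, h1, O.C_T, smul_smul]
  module

/-- Conjugation by a product of isometries scaling the line. -/
theorem rad_conj {w : W} {X : U →ₗ[F] V} (hX : O.Rad w X) {m : OQ Q} (hm : m ∈ K) {A A' : U →ₗ[F] U}
    {B : W →ₗ[F] W} {ε : F} (hA : ∀ a b, f (A a) (A b) = f a b) (h1 : ∀ a, A' (A a) = a) (hε : ε ≠ 0)
    (hB : B w = ε • w) (em : ∀ a y, (m : V ≃ₗ[F] V) (T a y) = T (A a) (B y)) :
    O.Rad w (ε • (((m : V ≃ₗ[F] V) : V →ₗ[F] V) ∘ₗ X ∘ₗ A')) := by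
  obtain ⟨hX0, k, hk, ψ, e⟩ := hX
  have h2 : ∀ a, A (A' a) = a := fun a => by
    obtain ⟨b, rfl⟩ := LinearMap.injective_iff_surjective.1 (fun p q e => by rw [← h1 p, ← h1 q, e]) a
    rw [h1]
  have hC : ∀ v, O.C w ((m : V ≃ₗ[F] V) v) = ε⁻¹ • A (O.C w v) := fun v => by
    rw [← O.C_conj hA em w v, hB, map_smul, LinearMap.smul_apply, inv_smul_smul₀ hε]
  refine ⟨fun a => by simp [hC, hX0], m * k * m⁻¹, K.mul_mem (K.mul_mem hm hk) (K.inv_mem hm),
    (ε * ε) • (A ∘ₗ ψ ∘ₗ A'),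
    fun v => ?_⟩
  obtain ⟨u, rfl⟩ := (m : V ≃ₗ[F] V).surjective v
  show (m : V ≃ₗ[F] V) ((k : V ≃ₗ[F] V) ((m : V ≃ₗ[F] V).symm ((m : V ≃ₗ[F] V) u))) = _
  rw [LinearEquiv.symm_apply_apply, e]
  have h3 : O.adjV (ε • (((m : V ≃ₗ[F] V) : V →ₗ[F] V) ∘ₗ X ∘ₗ A')) ((m : V ≃ₗ[F] V) u) =
      ε • A (O.adjV X u) := by
    rw [O.adjV_smul]
    congr 1
    refine O.fext fun b => ?_
    rw [O.f_adjV, LinearMap.comp_apply, LinearMap.comp_apply, LinearEquiv.coe_coe, OQ.map_polar, ← O.f_adjV]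
    conv_rhs => rw [← h2 b, hA]
  simp [h3, hC, h1, em, hB, smul_smul, hε]

/-- An isometry of the first factor in the group, with its inverse. -/
def UEl (_O : Lite Q f g T K) (A A' : U →ₗ[F] U) : Prop :=
  (∀ a, A' (A a) = a) ∧ (∀ a, A (A' a) = a) ∧ (∀ a b, f (A a) (A b) = f a b) ∧
    ∃ k ∈ K, ∀ a y, (k : V ≃ₗ[F] V) (T a y) = T (A a) y

end Lite

end CfsgLib.Geo.OrthWreath
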