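/-
An element mapping an isotropic line of pure tensors to such a line is a product.
-/
import Cfsg.Agent.Lib.Geo.OrthWreath.Lite

set_option autoImplicit false
set_option linter.unusedSectionVars false

namespace CfsgLib.Geo.OrthWreath

open CfsgLib.Classical CfsgLib.Classical.Quad Module
open CfsgLib.Geo.MixTensor (SymForm refl)
open CfsgLib.Geo.OrthTensor (Tensor Tens sv sv_apply exists_iso_partner exists_aniso_perp pair_nondeg span_pair_le)
open QuadraticMap (polar polarBilin)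
open LinearMap (BilinForm)

variable {F : Type*} [Field F] [Finite F] {U W V : Type*} [AddCommGroup U] [Module F U] [FiniteDimensional F U]
  [AddCommGroup W] [Module F W] [FiniteDimensional F W] [AddCommGroup V] [Module F V] [FiniteDimensional F V]
  {Q : QuadraticForm F V} {f : BilinForm F U} {g : BilinForm F W} {T : U →ₗ[F] W →ₗ[F] V}
  {K : Subgroup (OQ Q)}

/-- An overgroup in which components and shifts are scalar. -/
structure LiteS (Q : QuadraticForm F V) (f : BilinForm F U) (g : BilinForm F W) (T : U →ₗ[F] W →ₗ[F] V)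
    (K : Subgroup (OQ Q)) : Prop extends Lite Q f g T K where
  comp_scalar : ∀ {w : W}, w ≠ 0 → g w w = 0 → ∀ {Y : U →ₗ[F] V}, toLite.Rad w Y → ∀ {z : W}, g w z = 0 →
    ∃ μ : F, ∀ a, toLite.C z (Y a) = μ • a
  scalar_of_shift : ∀ {κ : U →ₗ[F] U}, (∀ A A', toLite.UEl A A' → ∃ ν : F, ∀ a, A (κ (A' a)) = κ a + ν • a) →
    ∃ μ : F, κ = μ • LinearMap.id

namespace LiteS

variable (O : LiteS Q f g T K)
include O

theorem nontriv : Nontrivial U := O.nontrivU

theorem nontrivW : Nontrivial W := Module.nontrivial_of_finrank_pos (R := F) (by have := O.three; omega)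

/-- An anisotropic vector orthogonal to an isotropic one. -/
theorem exists_aniso_orth {w : W} (hw : g w w = 0) (hw0 : w ≠ 0) :
    ∃ u, g u u = 0 ∧ g w u = 1 ∧ ∃ h, g h h ≠ 0 ∧ g w h = 0 ∧ g u h = 0 := by
  obtain ⟨u, huu, hwu⟩ := exists_iso_partner O.hg hw hw0
  obtain ⟨h, hh, hhP⟩ := exists_aniso_perp O.hg _ (pair_nondeg O.hg hw huu hwu)
    (by have := O.three; have := span_pair_le (F := F) w u; omega)
  exact ⟨u, huu, hwu, h, hh, hhP w (Submodule.subset_span (Set.mem_insert _ _)),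
    hhP u (Submodule.subset_span (Set.mem_insert_of_mem _ rfl))⟩

/-- The anisotropic vectors span the orthogonal of an isotropic vector. -/
theorem perp_induction {w : W} (hw : g w w = 0) (hw0 : w ≠ 0) {P : W → Prop}
    (sub : ∀ x y, g w x = 0 → g w y = 0 → P x → P y → P (x - y))
    (aniso : ∀ z, g w z = 0 → g z z ≠ 0 → P z) {z : W} (hz : g w z = 0) : P z := by
  by_cases hzz : g z z = 0
  swap
  · exact aniso z hz hzz
  obtain ⟨u, -, -, h, hh, hwh, -⟩ := O.exists_aniso_orth hw hw0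
  by_cases h1 : g (z + h) (z + h) = 0
  · have h2 : g (z - h) (z - h) ≠ 0 := fun h0 => by
      simp only [map_add, map_sub, LinearMap.add_apply, LinearMap.sub_apply, hzz] at h1 h0
      exact mul_ne_zero O.two hh (by linear_combination h1 + h0)
    have h3 := sub (z - h) (-h) (by simp [hz, hwh]) (by simp [hwh]) (aniso _ (by simp [hz, hwh]) h2)
      (aniso _ (by simp [hwh]) (by simpa using hh))
    simpa using h3
  · have h3 := sub (z + h) h (by simp [hz, hwh]) hwh (aniso _ (by simp [hz, hwh]) h1) (aniso _ hwh hh)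
    simpa using h3

theorem sv_sub {w z : W} (hw : g w w = 0) (h : g w z = 0) (y : W) :
    sv g w z (sv g w z y) - sv g w z y - (sv g w z y - y) = (-(g z z * g w y)) • w := by
  have := O.two
  simp only [sv_apply, map_add, map_sub, map_smul, smul_eq_mul, hw, h, O.hg.symm w z, mul_zero, add_zero, sub_zero]
  match_scalars <;> field_simp <;> ring

/-- An element with a fixed left factor is a product. -/
theorem tens_of_left {k : OQ Q} {A : U →ₗ[F] U} (hA : ∃ a, A a ≠ 0)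
    (h : ∀ y, ∃ r, ∀ a, (k : V ≃ₗ[F] V) (T a y) = T (A a) r) : Tens T k := by
  obtain ⟨a₀, ha⟩ := hA
  choose R hR using h
  exact ⟨A,
    { toFun := R
      map_add' := fun p q => O.T_injective' ha (by rw [← hR, map_add, map_add, hR, hR, map_add])
      map_smul' := fun s p => O.T_injective' ha (by rw [← hR, map_smul, map_smul, hR, map_smul, RingHom.id_apply]) },
    fun a y => hR y a⟩

/-- An element mapping an isotropic line to such a line acts by scalars modulo the image line. -/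
theorem map_scalar {x : OQ Q} (hx : x ∈ K) {w w' : W} (hw0 : w ≠ 0) (hw : g w w = 0) (hw'0 : w' ≠ 0)
    (hw' : g w' w' = 0) {A : U →ₗ[F] U} (hxw : ∀ a, (x : V ≃ₗ[F] V) (T a w) = T (A a) w')
    {z : W} (hz : g w z = 0) {z' : W} (hz' : g w' z' = 0) :
    ∃ μ : F, ∀ b, O.C z' ((x : V ≃ₗ[F] V) (T (f.leftAdjointOfNondegenerate O.hf.nd A b) z)) = μ • b := by
  set As := f.leftAdjointOfNondegenerate O.hf.nd A
  have hAs : ∀ a b, f (A a) b = f a (As b) := fun a b => by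
    rw [O.hf.symm b (A a), O.hf.symm (As b) a]
    exact (LinearMap.BilinForm.isAdjointPairLeftAdjointOfNondegenerate f O.hf.nd A b a).symm
  have hAsurj : Function.Surjective A := LinearMap.injective_iff_surjective.1 fun p q e =>
    O.T_injective hw0 ((x : V ≃ₗ[F] V).injective (by rw [hxw, hxw, e]))
  revert z'
  refine O.perp_induction hw hw0 (P := fun z => ∀ {z' : W}, g w' z' = 0 →
    ∃ μ : F, ∀ b, O.C z' ((x : V ≃ₗ[F] V) (T (As b) z)) = μ • b) ?_ ?_ hz
  · intro p q _ _ hp hq z' hz'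
    obtain ⟨μ, hμ⟩ := hp hz'
    obtain ⟨μ', hμ'⟩ := hq hz'
    exact ⟨μ - μ', fun b => by rw [map_sub, map_sub, map_sub, hμ, hμ', sub_smul]⟩
  intro z hz hzz z' hz'
  obtain ⟨k, hk, e⟩ := O.siegel hw hz hzz
  set X : U →ₗ[F] V := ((x : V ≃ₗ[F] V) : V →ₗ[F] V) ∘ₗ T.flip z ∘ₗ As
  have hCw : ∀ v, O.C w ((x : V ≃ₗ[F] V).symm v) = As (O.C w' v) := fun v => O.fext fun a => by
    rw [O.f_C, ← OQ.map_polar x, hxw, LinearEquiv.apply_symm_apply, ← O.f_C, hAs]
  have hX0 : ∀ a, O.C w' (X a) = 0 := fun a => O.fext fun b => by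
    obtain ⟨b₀, rfl⟩ := hAsurj b
    rw [map_zero, O.f_C, show X a = (x : V ≃ₗ[F] V) (T (As a) z) from rfl, ← hxw, OQ.map_polar, O.polarT, hz,
      mul_zero]
  have hXadj : ∀ v, O.adjV X v = A (O.C z ((x : V ≃ₗ[F] V).symm v)) := fun v => O.fext fun b => by
    rw [O.f_adjV, show X b = (x : V ≃ₗ[F] V) (T (As b) z) from rfl,
      ← LinearEquiv.apply_symm_apply (x : V ≃ₗ[F] V) v, OQ.map_polar, ← O.f_C, LinearEquiv.symm_apply_apply,
      O.hf.symm (O.C z _) (As b), ← hAs, O.hf.symm b]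
  have hRad : O.Rad w' X := by
    refine ⟨hX0, x * k * x⁻¹, K.mul_mem (K.mul_mem hx hk) (K.inv_mem hx), (-(g z z / 2)) • (A ∘ₗ As), fun v => ?_⟩
    show (x : V ≃ₗ[F] V) ((k : V ≃ₗ[F] V) ((x : V ≃ₗ[F] V).symm v)) = _
    have hk' : ∀ v, (k : V ≃ₗ[F] V) v = v + T (O.C w v) z - T (O.C z v) w - (g z z / 2) • T (O.C w v) w := by
      intro v
      refine LinearMap.congr_fun (O.hom_ext (L := ((k : V ≃ₗ[F] V) : V →ₗ[F] V))
        (L' := LinearMap.id + T.flip z ∘ₗ O.C w - T.flip w ∘ₗ O.C z - (g z z / 2) • (T.flip w ∘ₗ O.C w))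
        fun a y => ?_) v
      simp [e, sv_apply, O.C_T, smul_smul]
    rw [hk', map_sub, map_sub, map_add, map_smul, hxw, hxw, LinearEquiv.apply_symm_apply, hCw, hXadj]
    simp [X]
    module
  exact O.comp_scalar hw'0 hw' hRad hz'

/-- **Two lines.** -/
theorem tens_two_lines {x : OQ Q} (hx : x ∈ K) {w u w' u' : W} (hw : g w w = 0) (huu : g u u = 0) (hwu : g w u = 1)
    (hw' : g w' w' = 0) (hu' : g u' u' = 0) {A : U →ₗ[F] U}
    (hxw : ∀ a, (x : V ≃ₗ[F] V) (T a w) = T (A a) w') (hxu : ∀ a, (x : V ≃ₗ[F] V) (T a u) = T (A a) u') :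
    Tens T x := by
  have := O.nontriv
  obtain ⟨a₀, ha₀⟩ := exists_ne (0 : U)
  have hw0 : w ≠ 0 := fun e => by simp [e] at hwu
  have hw'0 : w' ≠ 0 := fun e => ha₀ (O.T_eq_zero hw0 ((x : V ≃ₗ[F] V).injective (by simp [hxw, e])))
  have hiso : ∀ a b, f (A a) (A b) * g w' u' = f a b := fun a b => by
    rw [← O.polarT, ← hxw, ← hxu, OQ.map_polar, O.polarT, hwu, mul_one]
  set γ := g w' u'
  have hγ : γ ≠ 0 := fun h0 => ha₀ (O.hf.nd.1 a₀ fun b => by rw [← hiso, h0, mul_zero])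
  set As := f.leftAdjointOfNondegenerate O.hf.nd A
  have hAs : ∀ a, γ • As (A a) = a := fun a => O.fext fun b => by
    rw [map_smul, smul_eq_mul, O.hf.symm (As (A a)) b, show f (As (A a)) b = f (A a) (A b) from
      LinearMap.BilinForm.isAdjointPairLeftAdjointOfNondegenerate f O.hf.nd A (A a) b, mul_comm, hiso, O.hf.symm b]
  refine O.tens_of_left ⟨a₀, fun e => ha₀ (by rw [← hAs a₀, e, map_zero, smul_zero])⟩ fun y => ?_
  set z := y - g w y • u - g u y • w
  have hz : g w z = 0 := by simp [z, hw, hwu]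
  have huz : g u z = 0 := by simp [z, huu, O.hg.symm w u, hwu]
  obtain ⟨b₀, hb₀⟩ := exists_ne (0 : U)
  obtain ⟨φ, hφ⟩ : ∃ φ : Module.Dual F U, φ b₀ = 1 := by
    obtain ⟨c, hc⟩ : ∃ c, f c b₀ ≠ 0 := by
      by_contra! hc
      exact hb₀ (O.hf.nd.2 b₀ hc)
    exact ⟨(f c b₀)⁻¹ • f c, by simp [hc]⟩
  have hcomp : ∀ z', ∀ b, O.C z' ((x : V ≃ₗ[F] V) (T (As b) z)) =
      φ (O.C z' ((x : V ≃ₗ[F] V) (T (As b₀) z))) • b := by
    intro z' b
    set z'' := z' - (g w' z' / γ) • u'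
    obtain ⟨μ, hμ⟩ := O.map_scalar hx hw0 hw hw'0 hw' hxw hz (z' := z'') (by simp [z'', γ, hγ])
    have hCu : ∀ b, O.C u' ((x : V ≃ₗ[F] V) (T (As b) z)) = 0 := fun b => O.fext fun a => by
      obtain ⟨a', ha'⟩ := LinearMap.injective_iff_surjective.1 (fun p q e => by rw [← hAs p, ← hAs q, e]) a
      rw [map_zero, O.f_C, ← ha', ← hxu, OQ.map_polar, O.polarT, huz, mul_zero]
    have e1 : ∀ b, O.C z' ((x : V ≃ₗ[F] V) (T (As b) z)) = μ • b := fun b => by
      rw [show z' = z'' + (g w' z' / γ) • u' by simp [z''], map_add, map_smul, LinearMap.add_apply,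
        LinearMap.smul_apply, hμ, hCu, smul_zero, add_zero]
    rw [e1, e1, map_smul, hφ, smul_eq_mul, mul_one]
  obtain ⟨ζ, hζ⟩ := O.exists_left_dual
    (φ ∘ₗ O.C.flip ((x : V ≃ₗ[F] V) (T (As b₀) z)))
  have hz2 : ∀ a, (x : V ≃ₗ[F] V) (T a z) = T (A a) (γ • ζ) := fun a => by
    conv_lhs => rw [← hAs a, map_smul, LinearMap.smul_apply, map_smul]
    rw [map_smul (T (A a))]
    congr 1
    refine O.V_ext fun z' => ?_
    rw [hcomp, O.C_T, O.hg.symm ζ z', hζ]
    rfl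
  refine ⟨γ • ζ + g w y • u' + g u y • w', fun a => ?_⟩
  conv_lhs => rw [show y = z + g w y • u + g u y • w by simp only [z]; module]
  simp only [map_add, map_smul, hz2, hxw, hxu]

/-- An element fixing a line pointwise and its orthogonal modulo the line is a radical element. -/
theorem rad_of_fix {s : OQ Q} (hs : s ∈ K) {w u : W} (hw : g w w = 0) (hwu : g w u = 1)
    (h1 : ∀ a, (s : V ≃ₗ[F] V) (T a w) = T a w) {θ : W → U →ₗ[F] U}
    (h2 : ∀ z, g w z = 0 → ∀ b, (s : V ≃ₗ[F] V) (T b z) = T b z + T (θ z b) w) :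
    ∀ z, g w z = 0 → ∃ μ : F, ∀ b, θ z b = μ • b := by
  have hw0 : w ≠ 0 := fun e => by simp [e] at hwu
  set X : U →ₗ[F] V := ((s : V ≃ₗ[F] V) : V →ₗ[F] V) ∘ₗ T.flip u - T.flip u
  have hXa : ∀ a, X a = (s : V ≃ₗ[F] V) (T a u) - T a u := fun a => rfl
  have hCs : ∀ a b, f b (O.C w ((s : V ≃ₗ[F] V) (T a u))) = f b a := fun a b => by
    rw [O.f_C, ← h1 b, OQ.map_polar, O.polarT, hwu, mul_one]
  have hX0 : ∀ a, O.C w (X a) = 0 := fun a => O.fext fun b => by
    rw [hXa, map_sub, map_sub, hCs, O.C_T, hwu, one_smul, sub_self, map_zero]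
  have hadj : ∀ z, g w z = 0 → ∀ b, O.adjV X (T b z) = -θ z b := fun z hz b => O.fext fun a => by
    have h3 : polar Q ((s : V ≃ₗ[F] V) (T a u)) ((s : V ≃ₗ[F] V) (T b z)) = f a b * g u z := by
      rw [OQ.map_polar, O.polarT]
    rw [h2 z hz, polar_add_right', QuadraticMap.polar_comm _ _ (T (θ z b) w), ← O.f_C, hCs, O.hf.symm a (θ z b)]
      at h3
    rw [O.f_adjV, hXa, sub_eq_add_neg, polar_add_left', QuadraticMap.polar_neg_left, O.polarT, map_neg]
    linear_combination h3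
  have hR : O.Rad w X := by
    refine ⟨hX0, s, hs, O.adjV X ∘ₗ T.flip u, fun v => ?_⟩
    refine LinearMap.congr_fun (O.hom_ext (L := ((s : V ≃ₗ[F] V) : V →ₗ[F] V))
      (L' := LinearMap.id + X ∘ₗ O.C w - T.flip w ∘ₗ O.adjV X + T.flip w ∘ₗ (O.adjV X ∘ₗ T.flip u) ∘ₗ O.C w)
      fun a y => ?_) v
    set z := y - g w y • u
    have hz : g w z = 0 := by simp [z, hwu]
    rw [show y = z + g w y • u by simp [z]]
    simp [h2 z hz, hadj z hz, O.C_T, hz, hwu, hXa, smul_sub]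
    abel
  intro z hz
  obtain ⟨μ, hμ⟩ := O.comp_scalar (fun e => hw0 e) hw hR hz
  refine ⟨-μ, fun b => O.fext fun a => ?_⟩
  have h3 := congrArg (f a) (hadj z hz b)
  rw [O.f_adjV, QuadraticMap.polar_comm, ← O.f_C, hμ, map_smul, map_neg, smul_eq_mul, O.hf.symm a b] at h3
  rw [map_smul, smul_eq_mul]
  linear_combination h3

/-- **One line fixed up to sign.** -/
theorem tens_fixed_line {x : OQ Q} (hx : x ∈ K) {w : W} (hw0 : w ≠ 0) (hw : g w w = 0) {ε : F} (hε : ε * ε = 1)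
    (hxw : ∀ a, (x : V ≃ₗ[F] V) (T a w) = ε • T a w) : Tens T x := by
  classical
  have := O.nontriv
  obtain ⟨u, huu, hwu, -⟩ := O.exists_aniso_orth hw hw0
  have hsq : ∀ v : V, ε • ε • v = v := fun v => by rw [smul_smul, hε, one_smul]
  have hxsymm : ∀ a, (x : V ≃ₗ[F] V).symm (T a w) = ε • T a w := fun a => by
    rw [LinearEquiv.symm_apply_eq, map_smul, hxw, hsq]
  have hεx : ∀ a, (x : V ≃ₗ[F] V) (T a w) = T ((ε • LinearMap.id : U →ₗ[F] U) a) w := fun a => by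
    rw [hxw, LinearMap.smul_apply, LinearMap.id_apply, map_smul, LinearMap.smul_apply]
  -- the action modulo the line
  have hmod : ∀ z, g w z = 0 → ∃ ζ : W, g w ζ = 0 ∧ ∃ κ : U →ₗ[F] U, ∀ b,
      ε • (x : V ≃ₗ[F] V) (T b z) = T b ζ + T (κ b) w := by
    intro z hz
    set As := f.leftAdjointOfNondegenerate O.hf.nd (ε • LinearMap.id)
    have hAs : ∀ b, As b = ε • b := fun b => O.fext fun a => by
      rw [O.hf.symm (As b) a, show f (As b) a = f b ((ε • LinearMap.id : U →ₗ[F] U) a) from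
        LinearMap.BilinForm.isAdjointPairLeftAdjointOfNondegenerate f O.hf.nd _ b a]
      simp [O.hf.symm a b]
    have hC : ∀ z', g w z' = 0 → ∃ μ : F, ∀ b, ε • O.C z' ((x : V ≃ₗ[F] V) (T b z)) = μ • b := fun z' hz' => by
      obtain ⟨μ, hμ⟩ := O.map_scalar hx hw0 hw hw0 hw hεx hz hz'
      refine ⟨μ, fun b => ?_⟩
      rw [← hμ b]
      show _ = O.C z' ((x : V ≃ₗ[F] V) (T (As b) z))
      rw [hAs, map_smul, LinearMap.smul_apply, map_smul, map_smul]
    obtain ⟨b₀, hb₀⟩ := exists_ne (0 : U)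
    obtain ⟨φ, hφ⟩ : ∃ φ : Module.Dual F U, φ b₀ = 1 := by
      obtain ⟨c, hc⟩ : ∃ c, f c b₀ ≠ 0 := by
        by_contra! hc
        exact hb₀ (O.hf.nd.2 b₀ hc)
      exact ⟨(f c b₀)⁻¹ • f c, by simp [hc]⟩
    set pr : W →ₗ[F] W := LinearMap.id - (g w).smulRight u
    set κ : U →ₗ[F] U := ε • (O.C u ∘ₗ ((x : V ≃ₗ[F] V) : V →ₗ[F] V) ∘ₗ T.flip z)
    obtain ⟨ζ, hζ⟩ := O.exists_left_dual (ε • (φ ∘ₗ O.C.flip ((x : V ≃ₗ[F] V) (T b₀ z)) ∘ₗ pr))
    have hprw : pr w = w := by simp [pr, hw]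
    have hcw : ∀ b, O.C w ((x : V ≃ₗ[F] V) (T b z)) = 0 := fun b => O.fext fun a => by
      have h1 := OQ.map_polar x (T a w) (T b z)
      rw [hxw, polar_smul_left', ← O.f_C, O.polarT, hz, mul_zero, mul_eq_zero] at h1
      rw [map_zero]
      exact h1.resolve_left fun h0 => by simp [h0] at hε
    have hwζ : g w ζ = 0 := by
      rw [O.hg.symm, hζ]
      simp [hprw, hcw]
    refine ⟨ζ, hwζ, κ, fun b => ?_⟩
    refine O.V_ext fun z' => ?_
    obtain ⟨μ, hμ⟩ := hC (pr z') (by simp [pr, hwu])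
    have hζz : g z' ζ = μ := by
      rw [O.hg.symm ζ z', hζ]
      simp only [LinearMap.smul_apply, LinearMap.comp_apply, LinearMap.flip_apply]
      rw [← map_smul, hμ b₀, map_smul, hφ, smul_eq_mul, mul_one]
    rw [map_smul, map_add, O.C_T, O.C_T, hζz, ← hμ b, O.hg.symm w z']
    conv_lhs => rw [show z' = pr z' + g w z' • u by simp [pr]]
    simp only [map_add, map_smul, LinearMap.add_apply, LinearMap.smul_apply, smul_add, κ, LinearMap.comp_apply,
      LinearEquiv.coe_coe, LinearMap.flip_apply]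
    module
  choose! ζ hζw κ hκ using hmod
  -- the line coefficients are scalars
  have hκs : ∀ z, g w z = 0 → ∃ μ : F, κ z = μ • LinearMap.id := fun z hz => O.scalar_of_shift fun A A' hU => by
    obtain ⟨h1, h2, -, k, hk, ek⟩ := hU
    have ek' : ∀ a y, (k : V ≃ₗ[F] V).symm (T a y) = T (A' a) y := fun a y => by
      rw [LinearEquiv.symm_apply_eq, ek, h2]
    set s : OQ Q := x⁻¹ * k * x * k⁻¹
    have hs : ∀ v, (s : V ≃ₗ[F] V) v =
        (x : V ≃ₗ[F] V).symm ((k : V ≃ₗ[F] V) ((x : V ≃ₗ[F] V) ((k : V ≃ₗ[F] V).symm v))) := fun _ => rfl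
    obtain ⟨μ, hμ⟩ := O.rad_of_fix (s := s) (θ := fun z => A ∘ₗ κ z ∘ₗ A' - κ z)
      (K.mul_mem (K.mul_mem (K.mul_mem (K.inv_mem hx) hk) hx) (K.inv_mem hk)) hw hwu
      (fun a => by rw [hs, ek', hxw, map_smul, ek, h2, map_smul, hxsymm, hsq])
      (fun z hz b => by
        have e0 : ∀ b, (x : V ≃ₗ[F] V) (T b z) = ε • (T b (ζ z) + T (κ z b) w) := fun b => by
          rw [← hκ z hz b, hsq]
        rw [hs, ek', e0, map_smul, map_add, ek, ek, h2,
          show T b (ζ z) = ε • (x : V ≃ₗ[F] V) (T b z) - T (κ z b) w by rw [hκ z hz b, add_sub_cancel_right],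
          map_smul, map_add, map_sub, map_smul, LinearEquiv.symm_apply_apply, hxsymm, hxsymm]
        simp only [smul_add, smul_sub, hsq, LinearMap.sub_apply, LinearMap.comp_apply, map_sub]
        abel) z hz
    exact ⟨μ, fun a => sub_eq_iff_eq_add'.1 (hμ a)⟩
  choose! μ hμ using hκs
  have hperp : ∀ z, g w z = 0 → ∀ b, (x : V ≃ₗ[F] V) (T b z) = T b (ε • (ζ z + μ z • w)) := fun z hz b => by
    rw [map_smul, map_add, map_smul, ← hsq ((x : V ≃ₗ[F] V) (T b z)), hκ z hz, hμ z hz]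
    simp
  -- the map on the orthogonal
  set Wp := LinearMap.ker (g w)
  obtain ⟨a₀, ha₀⟩ := exists_ne (0 : U)
  let B : Wp →ₗ[F] Wp :=
    { toFun := fun z => ⟨ε • (ζ (z : W) + μ (z : W) • w), LinearMap.mem_ker.2 (by simp [hζw _ z.2, hw])⟩
      map_add' := fun p q => Subtype.ext (O.T_injective' ha₀ (by
        simp only [Submodule.coe_add, map_add]
        rw [← hperp _ (by rw [map_add]; simp [LinearMap.mem_ker.1 p.2, LinearMap.mem_ker.1 q.2]),
          ← hperp _ p.2, ← hperp _ q.2, map_add, map_add]))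
      map_smul' := fun c p => Subtype.ext (O.T_injective' ha₀ (by
        simp only [Submodule.coe_smul, RingHom.id_apply]
        rw [map_smul (T a₀) c, ← hperp _ (by simp [LinearMap.mem_ker.1 p.2]), ← hperp _ p.2, map_smul, map_smul])) }
  have hBsurj : Function.Surjective B := LinearMap.injective_iff_surjective.1
    ((injective_iff_map_eq_zero B).2 fun p hp => Subtype.ext (O.T_eq_zero' ha₀ ((x : V ≃ₗ[F] V).injective (by
      rw [hperp _ p.2, show ε • (ζ (p : W) + μ (p : W) • w) = 0 from congrArg Subtype.val hp, map_zero, map_zero]))))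
  -- the partner line
  set L : U →ₗ[F] V := ((x : V ≃ₗ[F] V) : V →ₗ[F] V) ∘ₗ T.flip u
  have hL : ∀ a, L a = (x : V ≃ₗ[F] V) (T a u) := fun a => rfl
  have hLw : ∀ a, O.C w (L a) = ε • a := fun a => O.fext fun b => by
    have h1 := OQ.map_polar x (T b w) (T a u)
    rw [hxw, polar_smul_left', ← O.f_C, O.polarT, hwu, mul_one] at h1
    rw [map_smul, smul_eq_mul, ← h1, ← mul_assoc, hε, one_mul]
    rfl
  have hLp : ∀ z', g w z' = 0 → ∃ σ : F, ∀ a, O.C z' (L a) = σ • a := fun z' hz' => by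
    obtain ⟨⟨z, hz⟩, hzB⟩ := hBsurj ⟨z', LinearMap.mem_ker.2 hz'⟩
    have e : ε • (ζ z + μ z • w) = z' := congrArg Subtype.val hzB
    refine ⟨g z u, fun a => O.fext fun b => ?_⟩
    rw [O.f_C, ← e, ← hperp z hz, hL, OQ.map_polar, O.polarT, map_smul, smul_eq_mul, mul_comm]
  set pr : W →ₗ[F] W := LinearMap.id - (g w).smulRight u
  obtain ⟨φ, hφ⟩ : ∃ φ : Module.Dual F U, φ a₀ = 1 := by
    obtain ⟨c, hc⟩ : ∃ c, f c a₀ ≠ 0 := by
      by_contra! hc
      exact ha₀ (O.hf.nd.2 a₀ hc)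
    exact ⟨(f c a₀)⁻¹ • f c, by simp [hc]⟩
  obtain ⟨ζ₁, hζ₁⟩ := O.exists_left_dual (φ ∘ₗ O.C.flip (L a₀) ∘ₗ pr)
  set Φ : U →ₗ[F] U := O.C u ∘ₗ L
  have hu' : ∀ a, (x : V ≃ₗ[F] V) (T a u) = T a ζ₁ + T (Φ a) w := fun a => O.V_ext fun z' => by
    obtain ⟨σ, hσ⟩ := hLp (pr z') (by simp [pr, hwu])
    have h1 : g z' ζ₁ = σ := by
      rw [O.hg.symm ζ₁ z', hζ₁, LinearMap.comp_apply, LinearMap.comp_apply, LinearMap.flip_apply, hσ, map_smul, hφ,
        smul_eq_mul, mul_one]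
    rw [← hL, map_add, O.C_T, O.C_T, h1, O.hg.symm w z', ← hσ]
    conv_lhs => rw [show z' = pr z' + g w z' • u by simp [pr]]
    simp [Φ]
  have hwζ₁ : g w ζ₁ = ε := by
    rw [O.hg.symm, hζ₁]
    simp [pr, hw, hLw, hφ]
  -- the partner coefficient commutes with the isometries
  have hΦ : ∃ ν : F, Φ = ν • LinearMap.id := O.scalar_of_shift fun A A' hU => by
    obtain ⟨h1, h2, -, k, hk, ek⟩ := hU
    have ek' : ∀ a y, (k : V ≃ₗ[F] V).symm (T a y) = T (A' a) y := fun a y => by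
      rw [LinearEquiv.symm_apply_eq, ek, h2]
    set s : OQ Q := x⁻¹ * k * x * k⁻¹
    have hs : ∀ v, (s : V ≃ₗ[F] V) v =
        (x : V ≃ₗ[F] V).symm ((k : V ≃ₗ[F] V) ((x : V ≃ₗ[F] V) ((k : V ≃ₗ[F] V).symm v))) := fun _ => rfl
    have hs2 : ∀ z, g w z = 0 → ∀ a, (s : V ≃ₗ[F] V) (T a z) = T a z := fun z hz a => by
      rw [hs, ek', hperp z hz, ek, h2, LinearEquiv.symm_apply_eq, hperp z hz]
    have hsu : ∀ a, (s : V ≃ₗ[F] V) (T a u) = T a u + ε • T (A (Φ (A' a)) - Φ a) w := fun a => by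
      rw [hs, ek', hu', map_add, ek, ek, h2, LinearEquiv.symm_apply_eq, map_add, hu', map_smul, hxw, hsq]
      simp only [map_sub, LinearMap.sub_apply]
      abel
    have h3 := O.nc s (K.mul_mem (K.mul_mem (K.mul_mem (K.inv_mem hx) hk) hx) (K.inv_mem hk)) w
      (ε • (A ∘ₗ Φ ∘ₗ A' - Φ)) hw0 hw (fun a y => by
        set z := y - g w y • u
        have hz : g w z = 0 := by simp [z, hwu]
        conv_lhs => rw [show y = z + g w y • u by simp [z]]
        simp only [map_add, map_smul, hs2 z hz, hsu]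
        simp [z, smul_add]
        module)
    refine ⟨0, fun a => ?_⟩
    have h4 := LinearMap.congr_fun h3 a
    simp only [LinearMap.smul_apply, LinearMap.sub_apply, LinearMap.comp_apply, LinearMap.zero_apply,
      smul_eq_zero, sub_eq_zero] at h4
    rcases h4 with h4 | h4
    · simp [h4] at hε
    · rw [h4]; simp
  obtain ⟨ν, hν⟩ := hΦ
  refine O.tens_of_left (A := LinearMap.id) ⟨a₀, ha₀⟩ fun y => ?_
  set z := y - g w y • u
  have hz : g w z = 0 := by simp [z, hwu]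
  refine ⟨ε • (ζ z + μ z • w) + g w y • (ζ₁ + ν • w), fun a => ?_⟩
  conv_lhs => rw [show y = z + g w y • u by simp [z]]
  simp only [map_add, map_smul, hperp z hz, hu', hν, LinearMap.smul_apply, LinearMap.id_apply]

/-- An element conjugating a Siegel map into a product maps its line to such a line. -/
theorem line_of_siegel {x σ : OQ Q} {w z : W} (hw0 : w ≠ 0) (hw : g w w = 0) (h : g w z = 0) (hz : g z z ≠ 0)
    (eσ : ∀ a y, (σ : V ≃ₗ[F] V) (T a y) = T a (sv g w z y)) {B : W →ₗ[F] W} (eB : ∀ a y, ((x * σ * x⁻¹ : OQ Q) : V ≃ₗ[F] V) (T a y) = T a (B y)) :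
    ∃ (A : U →ₗ[F] U) (w' : W), g w' w' = 0 ∧ ∀ a, (x : V ≃ₗ[F] V) (T a w) = T (A a) w' := by
  set s : OQ Q := x * σ * x⁻¹ with hs
  have hsx : ∀ v, (s : V ≃ₗ[F] V) ((x : V ≃ₗ[F] V) v) = (x : V ≃ₗ[F] V) ((σ : V ≃ₗ[F] V) v) := fun v => by
    show (x : V ≃ₗ[F] V) ((σ : V ≃ₗ[F] V) ((x : V ≃ₗ[F] V).symm ((x : V ≃ₗ[F] V) v))) = _
    rw [LinearEquiv.symm_apply_apply]
  set S : V →ₗ[F] V := ((s : V ≃ₗ[F] V) : V →ₗ[F] V) - LinearMap.id
  set L : U →ₗ[F] V := ((x : V ≃ₗ[F] V) : V →ₗ[F] V) ∘ₗ T.flip w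
  have hSS : ∀ v, S (S v) ∈ LinearMap.range L := by
    intro v
    obtain ⟨v, rfl⟩ := (x : V ≃ₗ[F] V).surjective v
    refine ⟨(-(g z z)) • O.C w v, ?_⟩
    have h1 : ∀ v, (σ : V ≃ₗ[F] V) ((σ : V ≃ₗ[F] V) v) - (σ : V ≃ₗ[F] V) v - ((σ : V ≃ₗ[F] V) v - v) =
        (-(g z z)) • T (O.C w v) w := by
      intro v
      refine LinearMap.congr_fun (O.hom_ext (L := (((σ : V ≃ₗ[F] V) : V →ₗ[F] V) ∘ₗ ((σ : V ≃ₗ[F] V) : V →ₗ[F] V)) -
        ((σ : V ≃ₗ[F] V) : V →ₗ[F] V) - (((σ : V ≃ₗ[F] V) : V →ₗ[F] V) - LinearMap.id))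
        (L' := (-(g z z)) • (T.flip w ∘ₗ O.C w)) fun a y => ?_) v
      simp only [LinearMap.sub_apply, LinearMap.comp_apply, LinearEquiv.coe_coe, LinearMap.id_apply, eσ,
        LinearMap.smul_apply, LinearMap.flip_apply, O.C_T, ← map_sub]
      rw [map_sub (sv g w z), O.sv_sub hw h]
      simp only [map_smul, LinearMap.smul_apply, smul_smul, neg_mul]
    simp only [S, L, LinearMap.sub_apply, LinearEquiv.coe_coe, LinearMap.id_apply, map_sub, LinearMap.comp_apply,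
      LinearMap.flip_apply, map_smul, hsx]
    rw [← map_smul (x : V ≃ₗ[F] V), ← h1 v]
    simp only [map_sub]
  have := O.nontriv
  obtain ⟨a₀, ha₀⟩ := exists_ne (0 : U)
  obtain ⟨u, hu⟩ : ∃ u, g w u ≠ 0 := by
    by_contra! hc
    exact hw0 (O.hg.nd.1 w hc)
  obtain ⟨r, hr⟩ : ∃ r, B (B r) - B r - (B r - r) ≠ 0 := by
    by_contra! hc
    have hzero : ∀ v, S (S v) = 0 := by
      intro v
      refine LinearMap.congr_fun (O.hom_ext (L := S ∘ₗ S) (L' := (0 : V →ₗ[F] V)) fun a y => ?_) v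
      simp only [S, LinearMap.comp_apply, LinearMap.sub_apply, LinearEquiv.coe_coe, LinearMap.id_apply,
        map_sub, eB, LinearMap.zero_apply]
      simpa only [map_sub, map_zero] using congrArg (T a) (hc y)
    have h1 := hzero ((x : V ≃ₗ[F] V) (T a₀ u))
    simp only [S, LinearMap.sub_apply, LinearEquiv.coe_coe, LinearMap.id_apply, map_sub, hsx, eσ] at h1
    replace h1 : (x : V ≃ₗ[F] V) (T a₀ (sv g w z (sv g w z u) - sv g w z u - (sv g w z u - u))) = 0 := by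
      simpa only [map_sub] using h1
    rw [LinearEquiv.map_eq_zero_iff, O.sv_sub hw h, map_smul, smul_eq_zero, neg_eq_zero, mul_eq_zero] at h1
    rcases h1 with h1 | h1
    · rcases h1 with h1 | h1
      · exact hz h1
      · exact hu h1
    · exact hw0 (O.T_eq_zero' ha₀ h1)
  set w' := B (B r) - B r - (B r - r)
  have hsub : LinearMap.range (T.flip w') ≤ LinearMap.range L := by
    rintro _ ⟨a, rfl⟩
    have h2 : S (S (T a r)) = T a w' := by simp [S, eB, w', map_sub]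
    rw [LinearMap.flip_apply, ← h2]
    exact hSS _
  have hinj : Function.Injective (T.flip w') := fun p q e => O.T_injective hr e
  have hLinj : Function.Injective L := fun p q e => O.T_injective hw0 ((x : V ≃ₗ[F] V).injective e)
  have heq := Submodule.eq_of_le_of_finrank_eq hsub (by
    rw [LinearMap.finrank_range_of_inj hinj, LinearMap.finrank_range_of_inj hLinj])
  obtain ⟨d, hd⟩ := O.exists_partner hr
  have hmap : ∀ a, (x : V ≃ₗ[F] V) (T a w) = T (O.C d ((x : V ≃ₗ[F] V) (T a w))) w' := fun a => by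
    obtain ⟨b, hb⟩ := heq.ge ⟨a, rfl⟩
    have hb' : T b w' = (x : V ≃ₗ[F] V) (T a w) := hb
    rw [← hb', O.C_T, hd, one_smul]
  refine ⟨O.C d ∘ₗ L, w', ?_, hmap⟩
  obtain ⟨e', he'⟩ := O.hf.exists_aniso
  obtain ⟨a', ha'⟩ : ∃ a', O.C d (L a') = e' := by
    refine (LinearMap.injective_iff_surjective (f := O.C d ∘ₗ L)).1 (fun p q e => hLinj ?_) e'
    show (x : V ≃ₗ[F] V) (T p w) = (x : V ≃ₗ[F] V) (T q w)
    rw [hmap p, hmap q]
    exact congrArg (fun b => T b w') e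
  have h2 := OQ.map_polar x (T a' w) (T a' w)
  rw [hmap a', O.polarT, O.polarT, hw, mul_zero, mul_eq_zero] at h2
  exact h2.resolve_left (by rw [show O.C d ((x : V ≃ₗ[F] V) (T a' w)) = e' from ha']; exact he')

end LiteS

end CfsgLib.Geo.OrthWreath
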