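/-
Conjugation of pure maps, adjoints, projections on lines and orthogonal bases.
-/
import Cfsg.Agent.Lib.Geo.OrthWreath.Block

set_option autoImplicit false
set_option linter.unusedSectionVars false

namespace CfsgLib.Geo.OrthWreath

open CfsgLib.Classical CfsgLib.Classical.Quad Module
open CfsgLib.Geo.MixTensor (SymForm)
open CfsgLib.Geo.TensorWreath (pvec)
open LinearMap (BilinForm)

variable {F : Type*} [Field F] {k t : ℕ} {f : BilinForm F (Ud F k)}

theorem pmap_smul_all (X : Fin t → Module.End F (Ud F k)) (c : Fin t → F) :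
    pmap (fun l => c l • X l) = (∏ l, c l) • pmap X := pvec_ext fun ξ => by
  rw [LinearMap.smul_apply, pmap_pvec, pmap_pvec, ← pvec_smul_all]
  rfl

theorem pmap_ne_zero {X : Fin t → Module.End F (Ud F k)} (h : ∀ l, X l ≠ 0) : pmap X ≠ 0 := by
  choose a ha using fun l => (by
    by_contra! hc
    exact h l (LinearMap.ext fun a => by simp [hc]) : ∃ a, X l a ≠ 0)
  intro h0
  have h1 := LinearMap.congr_fun h0 (pvec a)
  rw [pmap_pvec, LinearMap.zero_apply] at h1
  exact pvec_ne_zero ha h1

theorem pmap_Tm_eq_zero (j : Fin (t + 1)) (X : Fin (t + 1) → Module.End F (Ud F k)) {v : Ud F k} (h : X j v = 0)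
    (w : Vt F k t) : pmap X (Tm j v w) = 0 :=
  LinearMap.congr_fun (pvec_ext (L := pmap X ∘ₗ Tm j v) (L' := 0) fun η => by
    rw [LinearMap.comp_apply, Tm_pvec, pmap_pvec, LinearMap.zero_apply, pvec_eq_zero_iff]
    exact ⟨j, by simpa using h⟩) w

theorem pmap_adjoint {X : Fin t → Module.End F (Ud F k)} {s : Fin t → F}
    (h : ∀ l a b, f a (X l b) = s l * f (X l a) b) (v w : Vt F k t) :
    frm f t v (pmap X w) = (∏ l, s l) * frm f t (pmap X v) w := by
  have e : (frm f t).compl₁₂ LinearMap.id (pmap X) = (∏ l, s l) • (frm f t).compl₁₂ (pmap X) LinearMap.id :=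
    frm_ext fun ξ η => by
      simp only [LinearMap.compl₁₂_apply, LinearMap.smul_apply, LinearMap.id_apply, smul_eq_mul, pmap_pvec, frm_pvec,
        ← Finset.prod_mul_distrib, h]
  exact LinearMap.congr_fun (LinearMap.congr_fun e v) w

/-- The projection on a line. -/
noncomputable def lproj (f : BilinForm F (Ud F k)) (v : Ud F k) : Module.End F (Ud F k) :=
  (f v v)⁻¹ • pd f v

theorem lproj_apply (v a : Ud F k) : lproj f v a = ((f v v)⁻¹ * f v a) • v := by
  simp [lproj, pd_apply, smul_smul]

theorem lproj_mul_self {v : Ud F k} (h : f v v ≠ 0) : lproj f v * lproj f v = lproj f v :=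
  LinearMap.ext fun a => by
    simp only [Module.End.mul_apply, lproj_apply, map_smul, smul_eq_mul]
    match_scalars
    field_simp

theorem lproj_mul {v w : Ud F k} (h : f v w = 0) : lproj f v * lproj f w = 0 :=
  LinearMap.ext fun a => by simp [lproj_apply, h]

theorem lproj_neg (v : Ud F k) : lproj f (-v) = lproj f v :=
  LinearMap.ext fun a => by simp [lproj_apply]

variable (hf : SymForm f)
include hf

theorem cj_lproj (u : OQ (qU f)) (v : Ud F k) : cj u (lproj f v) = lproj f ((u : Ud F k ≃ₗ[F] Ud F k) v) := by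
  rw [lproj, cj_smul, cj_pd hf, lproj, map_f hf]

theorem sum_lproj {v : Fin k → Ud F k} (h : ∀ i j, i ≠ j → f (v i) (v j) = 0) (h0 : ∀ i, f (v i) (v i) ≠ 0) :
    ∑ i, lproj f (v i) = 1 := by
  have hli : LinearIndependent F v := by
    rw [Fintype.linearIndependent_iff]
    intro c hc i
    have h1 := congrArg (f (v i)) hc
    rw [map_sum, map_zero, Finset.sum_eq_single i (fun j _ hj => by rw [map_smul, h i j (Ne.symm hj), smul_zero])
      (by simp), map_smul, smul_eq_mul, mul_eq_zero] at h1
    exact h1.resolve_right (h0 i)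
  refine (Module.Basis.mk hli (hli.span_eq_top_of_card_eq_finrank' (by simp)).ge).ext fun i => ?_
  rw [Module.Basis.mk_apply, LinearMap.sum_apply, Module.End.one_apply, Finset.sum_eq_single i
    (fun j _ hj => by simp [lproj_apply, h j i hj]) (by simp), lproj_apply, inv_mul_cancel₀ (h0 i), one_smul]

theorem cj_slot_pmap (i : Fin t) (u : OQ (qU f)) (X : Fin t → Module.End F (Ud F k)) :
    cj (slot hf i u) (pmap X) = pmap (Function.update X i (cj u (X i))) := by
  have e : ∀ v : OQ (qU f), lm (slot hf i v) = pmap (Function.update 1 i (lm v)) := fun v => by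
    rw [lm, slot_coe, emb_eq]
    rfl
  rw [cj, ← map_inv, e, e, pmap_mul, pmap_mul]
  congr 1
  funext l
  by_cases hl : l = i
  · subst hl; simp [cj]
  · simp [Function.update_of_ne hl]

/-- A product of elements of all factors. -/
theorem exists_slots (us : Fin t → OQ (qU f)) : ∃ g : OQ (qT f t), IsStd g ∧ g ∈ slots hf t ∧
    ∀ X, cj g (pmap X) = pmap fun l => cj (us l) (X l) := by
  classical
  suffices H : ∀ s : Finset (Fin t), ∃ g : OQ (qT f t), IsStd g ∧ g ∈ slots hf t ∧
      ∀ X, cj g (pmap X) = pmap fun l => if l ∈ s then cj (us l) (X l) else X l by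
    obtain ⟨g, hg, hgs, e⟩ := H Finset.univ
    exact ⟨g, hg, hgs, fun X => by simpa using e X⟩
  intro s
  induction s using Finset.induction with
  | empty => exact ⟨1, isStd_one, one_mem _, fun X => by simp [cj_one]⟩
  | @insert a s ha ih =>
    obtain ⟨g, hg, hgs, e⟩ := ih
    refine ⟨slot hf a (us a) * g, (isStd_slot hf a _).mul hg, mul_mem (slot_mem_slots hf a _) hgs, fun X => ?_⟩
    rw [cj_mul, e, cj_slot_pmap hf]
    congr 1
    funext l
    by_cases hl : l = a
    · subst hl; simp [ha]
    · simp [Function.update_of_ne hl, hl]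

variable [Finite F]

/-- Three orthogonal vectors of the norm opposite to that of a vector orthogonal to a pair. -/
theorem exists_three (hk : k = 3) (P : Fr f) {z : Ud F k} (dz : f P.d z = 0) (ez : f P.e z = 0)
    (zz : f z z ≠ 0) : ∃ v : Fin k → Ud F k, (∀ i j, i ≠ j → f (v i) (v j) = 0) ∧ ∀ i, f (v i) (v i) = -f z z := by
  subst hk
  have h2 := hf.two
  set x := -f z z with hx
  have hx0 : x ≠ 0 := neg_ne_zero.2 zz
  have hed := P.ed hf
  have zd : f z P.d = 0 := by rw [hf.symm, dz]
  have ze : f z P.e = 0 := by rw [hf.symm, ez]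
  set a := P.d + (x / 2) • P.e
  set b := P.d - (x / 2) • P.e
  have haa : f a a = x := by
    simp [a, P.dd, P.ee, P.de, hed]
    field_simp
    ring
  have hbb : f b b = -x := by
    simp [b, P.dd, P.ee, P.de, hed]
    field_simp
    ring
  have hab : f a b = 0 := by
    simp [a, b, P.dd, P.ee, P.de, hed]
  have hba : f b a = 0 := by rw [hf.symm, hab]
  have haz : f a z = 0 := by simp [a, dz, ez]
  have hza : f z a = 0 := by rw [hf.symm, haz]
  have hbz : f b z = 0 := by simp [b, dz, ez]
  have hzb : f z b = 0 := by rw [hf.symm, hbz]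
  have hA : ∀ y ∈ Submodule.span F ({a} : Set (Ud F 3)),
      (∀ y' ∈ Submodule.span F ({a} : Set (Ud F 3)), f y' y = 0) → y = 0 := by
    intro y hy hP
    obtain ⟨c, rfl⟩ := Submodule.mem_span_singleton.1 hy
    have h := hP a (Submodule.mem_span_singleton_self a)
    rw [map_smul, smul_eq_mul, haa, mul_eq_zero] at h
    rw [h.resolve_right hx0, zero_smul]
  obtain ⟨a₂, h22, h12⟩ := hf.exists_norm_perp _ hA (by
    rw [finrank_span_singleton (fun h => hx0 (by rw [← haa, h]; simp)), finrank_fin_fun]) hx0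
  have h12 := h12 a (Submodule.mem_span_singleton_self a)
  have h21 : f a₂ a = 0 := by rw [hf.symm, h12]
  obtain ⟨a₃, h33, hperp⟩ := OrthTensor.exists_aniso_perp hf (Submodule.span F ({a, a₂} : Set (Ud F 3)))
    (fun y hy hP => by
      obtain ⟨p, q, rfl⟩ := Submodule.mem_span_pair.1 hy
      have e1 := hP a (Submodule.subset_span (Set.mem_insert _ _))
      have e2 := hP a₂ (Submodule.subset_span (Set.mem_insert_of_mem _ rfl))
      simp [haa, h22, h12, h21, hx0] at e1 e2
      simp [e1, e2])
    (by rw [finrank_fin_fun]; have := OrthTensor.span_pair_le (F := F) a a₂; omega)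
  have h13 := hperp a (Submodule.subset_span (Set.mem_insert _ _))
  have h23 := hperp a₂ (Submodule.subset_span (Set.mem_insert_of_mem _ rfl))
  have h31 : f a₃ a = 0 := by rw [hf.symm, h13]
  have h32 : f a₃ a₂ = 0 := by rw [hf.symm, h23]
  obtain ⟨r, hr0, hr⟩ := OrthTensor.frame_prod hf (n := 3) (by simp) ![a, a₂, a₃] ![a, b, z]
    (fun i j hij => by fin_cases i <;> fin_cases j <;> first | exact absurd rfl hij | assumption)
    (fun i => by fin_cases i <;> simp [haa, h22, hx0, h33])
    (fun i j hij => by fin_cases i <;> fin_cases j <;> first | exact absurd rfl hij | assumption)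
    (fun i => by fin_cases i <;> simp [haa, hbb, hx0, zz])
  simp only [Fin.prod_univ_three, Matrix.cons_val_zero, Matrix.cons_val_one, Matrix.cons_val, haa, h22, hbb,
    show f z z = -x by simp [hx]] at hr
  have h33' : f (r⁻¹ • a₃) (r⁻¹ • a₃) = x := by
    simp only [map_smul, LinearMap.smul_apply, smul_eq_mul]
    have : f a₃ a₃ = r * r * x := mul_left_cancel₀ (mul_ne_zero hx0 hx0) (by linear_combination hr)
    rw [this]
    field_simp
  refine ⟨![a, a₂, r⁻¹ • a₃], fun i j hij => ?_, fun i => ?_⟩
  · fin_cases i <;> fin_cases j <;> first | exact absurd rfl hij | simp [h12, h21, h13, h31, h23, h32]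
  · fin_cases i <;> assumption

end CfsgLib.Geo.OrthWreath
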