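/-
An overgroup of the standard elements has no elements in the centre of the radical of an isotropic line.
-/
import Cfsg.Agent.Lib.Geo.OrthWreath.Pure

set_option autoImplicit false
set_option linter.unusedSectionVars false

namespace CfsgLib.Geo.OrthWreath

open CfsgLib.Classical CfsgLib.Classical.Quad Module
open CfsgLib.Known.OmegaCriterion
open CfsgLib.Geo.MixTensor (SymForm)
open CfsgLib.Geo.OrthTensor (Tens)
open CfsgLib.Geo.TensorWreath (pvec)
open QuadraticMap (polar polarBilin)
open LinearMap (BilinForm)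

variable {F : Type*} [Field F] [Finite F] {k t : ℕ} {f : BilinForm F (Ud F k)}

theorem card_five (hf : SymForm f) (h : Nat.card F ≠ 3) : 5 ≤ Nat.card F := by
  have := Fintype.ofFinite F
  rw [Nat.card_eq_fintype_card] at h ⊢
  have hodd : Fintype.card F % 2 = 1 := FiniteField.odd_card_of_char_ne_two (fun e => hf.two (by
    have := ringChar.eq_iff.1 e
    exact CharTwo.two_eq_zero))
  have := Fintype.one_lt_card (α := F)
  omega

theorem ring_square {R : Type*} [Ring R] {M N : R} (hM : M * M = 0) (hN : N * N = 0) (h1 : M * N * M = -M)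
    (h2 : N * M * N = -N) :
    ((1 + M) * (1 + N) * (1 + M)) * ((1 + M) * (1 + N) * (1 + M)) = 1 + (M * N + N * M) + (M * N + N * M) := by
  set A := M * N + N * M
  set S := M + N
  have e : (1 + M) * (1 + N) * (1 + M) = 1 + A + S := by
    simp only [A, S, add_mul, mul_add, one_mul, mul_one, hM, h1, mul_zero, add_zero]
    abel
  have hS : S * S = A := by simp only [A, S, add_mul, mul_add, hM, hN]; abel
  have hAA : A * A = -A := by
    have a1 : M * N * (M * N) = -(M * N) := by rw [← mul_assoc, h1, neg_mul]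
    have a2 : N * M * (N * M) = -(N * M) := by rw [← mul_assoc, h2, neg_mul]
    have a3 : M * N * (N * M) = 0 := by rw [mul_assoc, ← mul_assoc N, hN, zero_mul, mul_zero]
    have a4 : N * M * (M * N) = 0 := by rw [mul_assoc, ← mul_assoc M, hM, zero_mul, mul_zero]
    simp only [A, add_mul, mul_add, a1, a2, a3, a4]
    abel
  have hAS : A * S = -S := by
    have a1 : M * N * N = 0 := by rw [mul_assoc, hN, mul_zero]
    have a2 : N * M * M = 0 := by rw [mul_assoc, hM, mul_zero]
    simp only [A, S, add_mul, mul_add, a1, a2, h1, h2]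
    abel
  have hSA : S * A = -S := by
    have a1 : M * (M * N) = 0 := by rw [← mul_assoc, hM, zero_mul]
    have a2 : N * (N * M) = 0 := by rw [← mul_assoc, hN, zero_mul]
    simp only [A, S, add_mul, mul_add, a1, a2, ← mul_assoc M N M, ← mul_assoc N M N, h1, h2]
    abel
  rw [e]
  simp only [add_mul, mul_add, one_mul, mul_one, hAA, hS, hAS, hSA]
  abel

/-- The product of two half turns along three orthogonal idempotents. -/
theorem em_square (i : Fin (t + 1)) {a b c : Module.End F (Ud F k)} (ha : a * a = a) (hb : b * b = b)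
    (hc : c * c = c) (hab : a * b = 0) (hba : b * a = 0) (hac : a * c = 0) (hca : c * a = 0) (hbc : b * c = 0)
    (hcb : c * b = 0) {A A' : Module.End F (Vt F k t)} (hA : A * A = A) (hA' : A' * A' = A') :
    ((1 - (2 : F) • em i (a + b) A) * (1 - (2 : F) • em i (a + c) A')) *
        ((1 - (2 : F) • em i (a + b) A) * (1 - (2 : F) • em i (a + c) A')) =
      1 + em i a ((1 - (2 : F) • A) * (1 - (2 : F) • A') * ((1 - (2 : F) • A) * (1 - (2 : F) • A')) - 1) := by
  refine Tm_ext i fun u w => ?_
  have h : ∀ {p q r : Module.End F (Ud F k)}, p * q = r → ∀ v, p (q v) = r v := fun e v => LinearMap.congr_fun e v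
  have g1 : ∀ v, A (A v) = A v := fun v => LinearMap.congr_fun hA v
  have g2 : ∀ v, A' (A' v) = A' v := fun v => LinearMap.congr_fun hA' v
  simp only [Module.End.mul_apply, Module.End.one_apply, LinearMap.sub_apply, LinearMap.add_apply,
    LinearMap.smul_apply, map_sub, map_add, map_smul, em_Tm, h ha, h hb, h hc, h hab, h hba, h hac, h hca, h hbc,
    h hcb, g1, g2, LinearMap.zero_apply, map_zero]
  module

theorem sub_two {V : Type*} [AddCommGroup V] [Module F V] (a b : Module.End F V) :
    a - (2 : F) • b = a + (-2 : F) • b := by module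

theorem pmap_mul' (X Y : Fin t → Module.End F (Ud F k)) : pmap X * pmap Y = pmap fun l => X l * Y l :=
  pmap_mul X Y

namespace Core

variable {hf : SymForm f} {X : Subgroup (OQ (qT f (t + 1)))} (C : Core hf X)
include C

/-- The conjugate of an element near the identity. -/
theorem lm_conj (g y : OQ (qT f (t + 1))) {A : Module.End F (Vt F k (t + 1))} (h : lm y = 1 + A) :
    lm (g * y * g⁻¹) = 1 + cj g A := by
  rw [lm_mul, lm_mul, h, mul_add, mul_one, add_mul, lm_mul_inv, cj]

theorem lm_conj_sub (g y : OQ (qT f (t + 1))) {A : Module.End F (Vt F k (t + 1))}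
    (h : lm y = 1 - (2 : F) • A) : lm (g * y * g⁻¹) = 1 - (2 : F) • cj g A := by
  rw [sub_two] at h ⊢
  rw [C.lm_conj g y h, cj_smul]

/-- A standard element of the shape of a central element is trivial. -/
theorem std_zero {x : OQ (qT f (t + 1))} (hx : IsStd x) {i : Fin (t + 1)} {d : Ud F k} (hd0 : d ≠ 0)
    (hd : f d d = 0) {φ : Module.End F (Vt F k t)} (e : lm x = 1 + em i (pd f d) φ) : φ = 0 := by
  have hxT : ∀ u w, (x : Vt F k (t + 1) ≃ₗ[F] Vt F k (t + 1)) (Tm i u w) = Tm i u w + f d u • Tm i d (φ w) :=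
    fun u w => by
      have h := LinearMap.congr_fun e (Tm i u w)
      simp only [LinearMap.add_apply, Module.End.one_apply, em_Tm, pd_apply, map_smul, LinearMap.smul_apply] at h
      exact h
  obtain ⟨v, rfl, hvd⟩ := fix_line hf (by have := C.k3; omega) hx hd0
    (fun w => by rw [hxT, hd, zero_smul, add_zero])
  obtain ⟨e', hee, hde⟩ := OrthTensor.exists_iso_partner hf hd hd0
  have h1 : ∀ w, Tm i ((v : Ud F k ≃ₗ[F] Ud F k) e' - e') w = Tm i d (φ w) := fun w => by
    have h := hxT e' w
    rw [slot_Tm_self, hde, one_smul] at h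
    rw [map_sub, LinearMap.sub_apply, h, add_sub_cancel_left]
  refine LinearMap.ext fun w => ?_
  rw [LinearMap.zero_apply]
  by_cases hw : w = 0
  · simp [hw]
  obtain ⟨r, hr⟩ := (tensor hf i).exists_partner hw
  have h2 := congrArg ((tensor hf i).C r) (h1 w)
  rw [(tensor hf i).C_T, (tensor hf i).C_T, hr, one_smul] at h2
  set s := frm f t r (φ w)
  have hs : s = 0 := by
    have h3 := map_f hf v e' e'
    rw [show (v : Ud F k ≃ₗ[F] Ud F k) e' = e' + s • d by rw [← h2]; abel] at h3
    simp only [map_add, map_smul, LinearMap.add_apply, LinearMap.smul_apply, smul_eq_mul, hee, hd, hde,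
      hf.symm d e', mul_zero, add_zero, mul_one] at h3
    exact (mul_eq_zero.1 (show (2 : F) * s = 0 by linear_combination h3)).resolve_left hf.two
  rw [hs, zero_smul] at h2
  have h4 := h1 w
  rw [h2, map_zero, LinearMap.zero_apply] at h4
  exact (tensor hf i).T_eq_zero' hd0 h4.symm

theorem nc_one (h1 : t = 1) {x : OQ (qT f (t + 1))} (hx : x ∈ X) {i : Fin (t + 1)} {d : Ud F k} (hd0 : d ≠ 0)
    (hd : f d d = 0) {φ : Module.End F (Vt F k t)} (e : lm x = 1 + em i (pd f d) φ) : φ = 0 := by
  subst h1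
  by_contra hne
  refine C.proper ?_
  have hdim : finrank F (Vt F k 1) = k := by rw [finrank_Vt, pow_one]
  have hι : ∀ w : Vt F k 1, w = pvec fun _ => fun a => w fun _ => a := fun w => funext fun b => by
    simp only [pvec, Fin.prod_univ_one]
    exact congrArg w (funext fun j => by rw [Fin.fin_one_eq_zero j])
  have hfrm : ∀ v w : Vt F k 1, frm f 1 v w = f (fun a => v fun _ => a) (fun a => w fun _ => a) := fun v w => by
    conv_lhs => rw [hι v, hι w, frm_pvec, Fin.prod_univ_one]
  have O : OrthTensor.Pre (qT f 2) (frm f 1) f (Tm i).flip X :=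
    OrthTensor.Pre.of_tens (tensor hf i).flip (by rw [finrank_fin_fun]; exact C.k3)
      { form := symForm_frm hf
        three := by rw [hdim]; exact C.k3
        big := fun h => by rw [hdim, ← finrank_fin_fun F (n := k)]; exact C.small.big h
        four := fun h d z g1 g2 g3 g4 => by
          rw [hdim] at h
          obtain ⟨r, hr⟩ := Submodule.mem_span_singleton.1 (C.thin h (fun a => d fun _ => a) (fun a => z fun _ => a)
            (by rw [← hfrm]; exact g1) (fun e => g2 (funext fun b => by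
              rw [← funext fun j => (by rw [Fin.fin_one_eq_zero j] : b 0 = b j)]; exact congrFun e (b 0)))
            (by rw [← hfrm]; exact g3) (by rw [← hfrm]; exact g4))
          refine Submodule.mem_span_singleton.2 ⟨r, funext fun b => ?_⟩
          rw [← funext fun j => (by rw [Fin.fin_one_eq_zero j] : b 0 = b j)]
          exact congrFun hr (b 0) }
      fun g hg hT => C.base g hg (by
        obtain ⟨A, B, eAB⟩ := hT
        exact isStd_of_tens_one (i := i) ⟨B, A, fun u w => eAB w u⟩)
  have h := O.eichGroup_le hd0 hd (φ := φ) ⟨x, hx, fun a y => by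
    have h := LinearMap.congr_fun e (Tm i y a)
    simp only [LinearMap.add_apply, Module.End.one_apply, em_Tm, pd_apply, map_smul, LinearMap.smul_apply] at h
    exact h⟩ hne
  rwa [eichGroup_eq_commutator (qT_nd hf) C.five] at h

theorem nc_two (h2 : 2 ≤ t) {x : OQ (qT f (t + 1))} (hx : x ∈ X) {i : Fin (t + 1)} {d : Ud F k} (hd0 : d ≠ 0)
    (hd : f d d = 0) {φ : Module.End F (Vt F k t)} (e : lm x = 1 + em i (pd f d) φ) : φ = 0 := by
  classical
  by_contra hne
  have hk3 := C.k3
  have two := hf.two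
  obtain ⟨e₀, he₀, hde₀⟩ := OrthTensor.exists_iso_partner hf hd hd0
  let P₀ : Fr f := ⟨d, e₀, hd, he₀, hde₀⟩
  have hdd : pd f d * pd f d = 0 := LinearMap.ext fun a => by simp [pd_apply, hd]
  -- the additive set
  let Φ : AddSubgroup (Unit → Module.End F (Vt F k t)) :=
    { carrier := {y | ∃ g ∈ X, lm g = 1 + em i (pd f d) (y ())}
      zero_mem' := ⟨1, X.one_mem, by rw [lm_one, Pi.zero_apply, em_zero, add_zero]⟩
      add_mem' := by
        rintro a b ⟨g, hg, eg⟩ ⟨g', hg', eg'⟩
        refine ⟨g * g', X.mul_mem hg hg', ?_⟩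
        rw [lm_mul, eg, eg', add_mul, mul_add, mul_add, em_mul, hdd, Pi.add_apply, em_add,
          show em i (0 : Module.End F (Ud F k)) (a () * b ()) = 0 from Tm_ext i fun u w => by simp [em_Tm]]
        simp only [one_mul, mul_one]
        abel
      neg_mem' := by
        rintro a ⟨g, hg, eg⟩
        refine ⟨g⁻¹, X.inv_mem hg, ?_⟩
        have h1 : lm g * (1 + em i (pd f d) ((-a) ())) = 1 := by
          rw [eg, add_mul, mul_add, mul_add, em_mul, hdd,
            show em i (0 : Module.End F (Ud F k)) (a () * (-a) ()) = 0 from Tm_ext i fun u w => by simp [em_Tm]]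
          simp only [one_mul, mul_one, add_zero]
          rw [add_assoc, ← em_add, Pi.neg_apply, neg_add_cancel, em_zero, add_zero]
        calc lm g⁻¹ = lm g⁻¹ * (lm g * (1 + em i (pd f d) ((-a) ()))) := by rw [h1, mul_one]
          _ = _ := by rw [← mul_assoc, lm_inv_mul, one_mul] }
  have htrans : ∀ (l : Fin t) (u v : OQ (qU f)) (c : F), cj v (pd f d) = c • pd f d →
      slot hf i v * slot hf (i.succAbove l) u ∈ X → ∀ y ∈ Φ, c • cjHom Unit (slot hf l u) y ∈ Φ := by
    rintro l u v c hv hmem y ⟨g, hg, eg⟩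
    refine ⟨_, X.mul_mem (X.mul_mem hmem hg) (X.inv_mem hmem), ?_⟩
    rw [C.lm_conj _ _ eg, cj_mul, cj_slot_em_succAbove hf, cj_slot_em hf, hv, em_smul_left, Pi.smul_apply, em_smul]
    rfl
  have hsc : ∀ (m : F) (hm : m ≠ 0), cj (P₀.tor hf hm) (pd f d) = (m * m) • pd f d := fun m hm => by
    rw [cj_pd hf, P₀.tor_d hf hm]
    exact LinearMap.ext fun a => by simp [pd_apply, P₀, smul_smul, mul_comm, mul_assoc]
  have hInv : IsInv hf Φ := by
    refine ⟨fun l a z ha hz y hy => ?_, fun l P y hy => ?_, fun l P m hm y hy => ?_, fun h4 l c hc y hy => ?_⟩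
    · have h := htrans l (sU hf ha hz) 1 1 (by simp [cj_one]) (by
        rw [map_one, one_mul]
        exact C.base _ (slot_sU_mem hf C.five _ ha hz) (isStd_slot hf _ _)) y hy
      rwa [one_smul] at h
    · have h := htrans l (P.tor hf (neg_ne_zero.2 one_ne_zero)) _ _ (hsc _ (neg_ne_zero.2 one_ne_zero))
        (C.tor_pair_mem _ _ P₀ P _ (neg_ne_zero.2 one_ne_zero) ⟨1, by ring⟩) y hy
      rwa [neg_mul_neg, one_mul, one_smul] at h
    · have h := htrans l (P.tor hf (mul_ne_zero hm hm)) _ _ (hsc _ one_ne_zero)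
        (C.tor_pair_mem _ _ P₀ P one_ne_zero (mul_ne_zero hm hm) ⟨m, by ring⟩) y hy
      rwa [one_mul, one_smul] at h
    · have h := htrans l (rfU hf hc) 1 1 (by simp [cj_one]) (by
        rw [map_one, one_mul]
        exact C.refl_mem h4 h2 _ hc) y hy
      rwa [one_smul] at h
  -- a monomial
  obtain ⟨Ms, c₀, hMs, hc₀, g₀, hg₀, eg₀⟩ := exists_monomial hf C.hk C.hq C.thin hInv ⟨fun _ => φ, ⟨x, hx, e⟩,
    fun h => hne (congrFun h ())⟩
  obtain ⟨c, hc, eg⟩ : ∃ c : F, c ≠ 0 ∧ lm g₀ = 1 + em i (pd f d) (c • pmap Ms) :=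
    ⟨c₀ (), fun h => hc₀ (funext fun _ => h), eg₀⟩
  set Ts : Fin (t + 1) → Module.End F (Ud F k) := i.insertNth (pd f d) Ms with hTs
  have egT : lm g₀ = 1 + c • pmap Ts := by rw [eg, hTs, pmap_insert, em_smul]
  obtain ⟨z₀, hdz₀, hez₀, hz₀⟩ := P₀.exists_z hf hk3
  have hblk : ∀ j, ∃ B : Blk hf (Ts j), j = i → B.E * B.E' = 0 ∧ Ts j * Ts j = 0 ∧ B.N * B.N = 0 ∧ B.sgn = 1 ∧
      (∀ m (hm : m ≠ 0), cj (B.P.tor hf hm) (Ts j) = (m * m) • Ts j) ∧
      (∀ v, B.E v = f B.P.e v • B.P.d) ∧ ∀ v, B.E' v = f B.P.d v • B.P.e := by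
    intro j
    rcases Fin.eq_self_or_eq_succAbove i j with rfl | ⟨l, rfl⟩
    · rw [hTs, Fin.insertNth_apply_same]
      obtain ⟨h1, h2, h3⟩ := sqBlk_zero hf P₀ hdz₀ hez₀ hz₀
      exact ⟨sqBlk hf P₀ hdz₀ hez₀ hz₀, fun _ => ⟨h3, h1, h2, rfl, hsc,
        fun v => by simp [Blk.E, sqBlk, pd_apply, P₀, hde₀], fun v => by
          simp [Blk.E', sqBlk, pd_apply, P₀, hf.symm d e₀, hde₀]⟩⟩
    · rw [hTs, Fin.insertNth_apply_succAbove]
      rcases exists_blk hf hk3 (hMs l).1 with h1 | ⟨⟨B⟩⟩
      · exfalso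
        obtain ⟨rest, hrest⟩ : ∃ rest, Ts = (i.succAbove l).insertNth (1 : Module.End F (Ud F k)) rest :=
          ⟨Fin.removeNth (i.succAbove l) Ts, by
            conv_lhs => rw [← Fin.insertNth_self_removeNth (i.succAbove l) Ts]
            rw [hTs, Fin.insertNth_apply_succAbove, h1]⟩
        have hT : Tens (Tm (i.succAbove l)) g₀ := ⟨1, 1 + c • pmap rest, fun u w => by
          show lm g₀ (Tm (i.succAbove l) u w) = _
          rw [egT, hrest, pmap_insert]
          simp [em_Tm]⟩
        have h := C.std_zero (C.tens_std hg₀ hT) hd0 hd eg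
        rcases smul_eq_zero.1 h with h | h
        · exact hc h
        · exact pmap_ne_zero (fun l => (hMs l).2) h
      · exact ⟨B, fun h => absurd h (Fin.succAbove_ne i l)⟩
  choose B hB using hblk
  obtain ⟨hEE', hTi, hNi, hsgn, htor, hEd, hEe⟩ := hB i rfl
  have hTs0 : ∀ j, Ts j ≠ 0 := fun j => by
    rcases Fin.eq_self_or_eq_succAbove i j with rfl | ⟨l, rfl⟩
    · rw [hTs, Fin.insertNth_apply_same]
      intro h
      exact hd0 (by simpa [pd_apply, hde₀] using LinearMap.congr_fun h e₀)
    · rw [hTs, Fin.insertNth_apply_succAbove]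
      exact (hMs l).2
  set M := pmap Ts
  set N := pmap fun j => (B j).N
  have hMM : M * M = 0 := by rw [pmap_mul']; exact pmap_eq_zero _ i hTi
  have hNN : N * N = 0 := by rw [pmap_mul']; exact pmap_eq_zero _ i hNi
  -- a factor scaled by its torus
  obtain ⟨l₀, hl₀, hkind⟩ : ∃ l₀, l₀ ≠ i ∧ ∀ (m : F) (hm : m ≠ 0), cj ((B l₀).P.tor hf hm) (Ts l₀) = m • Ts l₀ := by
    by_contra! hno
    have hall : ∀ j, (B j).sgn = 1 := fun j => by
      by_cases hj : j = i
      · subst hj; exact hsgn
      rcases (B j).kind with h | h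
      · exact h
      · obtain ⟨m, hm, h'⟩ := hno j hj
        exact absurd (h m hm) h'
    have hadj : ∀ v w, frm f (t + 1) v (M w) = frm f (t + 1) (M v) w := fun v w => by
      rw [pmap_adjoint (s := fun _ => 1) (fun j a b => by rw [← hall j]; exact (B j).adjM a b), Finset.prod_const_one,
        one_mul]
    refine pmap_ne_zero hTs0 (LinearMap.ext fun w => (frm_nondeg hf).2 _ fun v => ?_)
    have hg : ∀ v, (g₀ : Vt F k (t + 1) ≃ₗ[F] Vt F k (t + 1)) v = v + c • M v := fun v =>
      LinearMap.congr_fun egT v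
    have h := map_frm hf g₀ v w
    rw [hg, hg] at h
    have hMMw : M (M w) = 0 := LinearMap.congr_fun hMM w
    simp only [map_add, map_smul, LinearMap.add_apply, LinearMap.smul_apply, smul_eq_mul, ← hadj, hMMw, map_zero,
      mul_zero, add_zero] at h
    have h5 : (2 * c) * frm f (t + 1) v (M w) = 0 := by linear_combination h
    exact (mul_eq_zero.1 h5).resolve_left (mul_ne_zero two hc)
  have hscale : ∀ a : F, ∃ g ∈ X, lm g = 1 + a • M := by
    intro a
    by_cases ha : a = 0
    · exact ⟨1, X.one_mem, by rw [lm_one, ha, zero_smul, add_zero]⟩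
    set m := a / c
    have hm : m ≠ 0 := div_ne_zero ha hc
    have hmem := C.tor_pair_mem i l₀ (B i).P (B l₀).P hm (inv_ne_zero hm) ⟨1, by field_simp⟩
    refine ⟨_, X.mul_mem (X.mul_mem hmem hg₀) (X.inv_mem hmem), ?_⟩
    rw [C.lm_conj _ _ egT, cj_smul, cj_mul, cj_slot_pmap hf, hkind, pmap_update_smul, Function.update_eq_self,
      cj_smul, cj_slot_pmap hf, htor, pmap_update_smul, Function.update_eq_self, smul_smul, smul_smul]
    congr 2
    simp only [m]
    field_simp
  -- the opposite monomial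
  obtain ⟨g₁, hg₁s, hg₁l, hg₁⟩ := exists_slots hf fun j => (B j).u
  obtain ⟨cc, m, ε, hm, hε, c1, c2, c3, c4, hcmem⟩ :=
    C.comp i (B i).P (B i).dz (B i).ez (B i).zz g₁ hg₁l
  obtain ⟨a₀, ha₀, -, hcN⟩ := (B i).comp cc m ε hm hε c1 c2 c3 c4
  have hgmem : slot hf i cc * g₁ ∈ X := C.base _ hcmem ((isStd_slot hf i cc).mul hg₁s)
  set ν := (∏ j, (B j).nu) * a₀⁻¹ with hν
  have hν0 : ν ≠ 0 := mul_ne_zero (Finset.prod_ne_zero_iff.2 fun j _ => (B j).nu_ne) (inv_ne_zero ha₀)
  have hgM : cj (slot hf i cc * g₁) M = ν • N := by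
    rw [cj_mul, hg₁, show (fun l => cj (B l).u (Ts l)) = fun l => (B l).nu • (B l).N from funext fun l => (B l).cjM,
      pmap_smul_all, cj_smul, cj_slot_pmap hf, hcN, pmap_update_smul, Function.update_eq_self, smul_smul]
  set eps := ∏ j, (B j).eps with heps
  have heps2 : eps * eps = 1 := by
    rw [heps, ← Finset.prod_mul_distrib]
    exact Finset.prod_eq_one fun j _ => (B j).eps_sq
  obtain ⟨x₁, hx₁, ex₁⟩ := hscale 1
  obtain ⟨x₂, hx₂, ex₂⟩ : ∃ g ∈ X, lm g = 1 + (-eps) • N := by
    obtain ⟨g, hg, eg'⟩ := hscale (-eps / ν)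
    refine ⟨_, X.mul_mem (X.mul_mem hgmem hg) (X.inv_mem hgmem), ?_⟩
    rw [C.lm_conj _ _ eg', cj_smul, hgM, smul_smul, div_mul_cancel₀ _ hν0]
  rw [one_smul] at ex₁
  have hprod : ∀ Z : Fin (t + 1) → Module.End F (Ud F k), eps • pmap Z = pmap fun j => (B j).eps • Z j := fun Z =>
    (pmap_smul_all _ _).symm
  have hMNM : M * N * M = eps • M := by
    rw [pmap_mul', pmap_mul', hprod]
    exact congrArg pmap (funext fun j => (B j).mnm)
  have hNMN : N * M * N = eps • N := by
    rw [pmap_mul', pmap_mul', hprod]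
    exact congrArg pmap (funext fun j => (B j).nmn)
  have hMN : M * N = eps • pmap fun j => (B j).E := by
    rw [pmap_mul', hprod]
    exact congrArg pmap (funext fun j => by rw [Blk.E, smul_smul, (B j).eps_sq, one_smul])
  have hNM : N * M = eps • pmap fun j => (B j).E' := by
    rw [pmap_mul', hprod]
    exact congrArg pmap (funext fun j => by rw [Blk.E', smul_smul, (B j).eps_sq, one_smul])
  have hhalf : ∃ y ∈ X, lm y = 1 - (2 : F) • (pmap (fun j => (B j).E) + pmap fun j => (B j).E') := by
    refine ⟨_, X.mul_mem (X.mul_mem (X.mul_mem hx₁ hx₂) hx₁) (X.mul_mem (X.mul_mem hx₁ hx₂) hx₁), ?_⟩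
    have h1 : M * ((-eps) • N) * M = -M := by
      rw [mul_smul_comm, smul_mul_assoc, hMNM, smul_smul, neg_mul, heps2, neg_smul, one_smul]
    have h2 : ((-eps) • N) * M * ((-eps) • N) = -((-eps) • N) := by
      rw [smul_mul_assoc, smul_mul_smul_comm, neg_mul_neg, heps2, one_smul, hNMN]
      module
    rw [lm_mul, lm_mul, lm_mul, ex₁, ex₂, ring_square hMM (by rw [smul_mul_smul_comm, hNN, smul_zero]) h1 h2,
      mul_smul_comm, smul_mul_assoc, hMN, hNM, smul_smul, smul_smul, neg_mul, heps2, neg_smul, neg_smul, one_smul,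
      one_smul]
    module
  -- both directions in every factor
  let St : Finset (Fin (t + 1)) → (Fin (t + 1) → Module.End F (Ud F k)) :=
    fun s j => if j ∈ s then (B j).Q else (B j).E
  let St' : Finset (Fin (t + 1)) → (Fin (t + 1) → Module.End F (Ud F k)) :=
    fun s j => if j ∈ s then (B j).Q else (B j).E'
  have hflip : ∀ s : Finset (Fin (t + 1)), i ∉ s → ∃ y ∈ X, lm y = 1 - (2 : F) • (pmap (St s) + pmap (St' s)) := by
    intro s
    induction s using Finset.induction with
    | empty => intro _; simpa [St, St'] using hhalf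
    | @insert l s hl ih =>
      intro hi
      rw [Finset.mem_insert, not_or] at hi
      obtain ⟨y, hy, ey⟩ := ih hi.2
      obtain ⟨cl, m, ε, hm, hε, c1, c2, c3, c4, hcmem⟩ :=
        C.comp i (B i).P (B i).dz (B i).ez (B i).zz (slot hf l (B l).u) (slot_mem_slots hf _ _)
      obtain ⟨hE, hE'⟩ := (B i).comp_E hm hε c1 c2 c3 c4
      have hg : slot hf i cl * slot hf l (B l).u ∈ X := C.base _ hcmem ((isStd_slot hf i _).mul (isStd_slot hf l _))
      refine ⟨y * (slot hf i cl * slot hf l (B l).u * y * (slot hf i cl * slot hf l (B l).u)⁻¹),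
        X.mul_mem hy (X.mul_mem (X.mul_mem hg hy) (X.inv_mem hg)), ?_⟩
      rw [lm_mul, ey, C.lm_conj_sub _ _ ey, cj_add]
      have hi' : ∀ Z : Fin (t + 1) → Module.End F (Ud F k), Z i = (B i).E ∨ Z i = (B i).E' →
          cj (slot hf i cl * slot hf l (B l).u) (pmap Z) = pmap (Function.update Z l (cj (B l).u (Z l))) := by
        intro Z hZ
        rw [cj_mul, cj_slot_pmap hf, cj_slot_pmap hf, Function.update_of_ne hi.1]
        congr 1
        rw [Function.update_eq_self_iff, Function.update_of_ne hi.1]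
        rcases hZ with h | h <;> rw [h] <;> assumption
      have hSt : St s l = (B l).E := if_neg hl
      have hSt' : St' s l = (B l).E' := if_neg hl
      rw [hi' _ (Or.inl (if_neg hi.2)), hi' _ (Or.inr (if_neg hi.2)), hSt, hSt', (B l).cjE, (B l).cjE']
      set P := pmap (St s)
      set P' := pmap (St' s)
      set R := pmap (Function.update (St s) l (B l).E')
      set R' := pmap (Function.update (St' s) l (B l).E)
      have h1 : P * R' = 0 := by
        rw [pmap_mul']
        refine pmap_eq_zero _ i ?_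
        rw [Function.update_of_ne hi.1]
        simp only [St, St', if_neg hi.2, hEE']
      have h2 : P' * R = 0 := by
        rw [pmap_mul']
        refine pmap_eq_zero _ i ?_
        rw [Function.update_of_ne hi.1]
        simp only [St, St', if_neg hi.2, ← (B i).E_comm, hEE']
      have h3 : P * R = pmap (Function.update (St s) l ((B l).E * (B l).E')) := by
        rw [pmap_mul']
        congr 1
        funext j
        by_cases hj : j = l
        · subst hj; simp [hSt]
        · simp only [Function.update_of_ne hj, St]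
          split_ifs
          · exact (B j).Q_idem
          · exact (B j).E_idem
      have h4 : P' * R' = pmap (Function.update (St' s) l ((B l).E * (B l).E')) := by
        rw [pmap_mul']
        congr 1
        funext j
        by_cases hj : j = l
        · subst hj; simp [hSt', (B j).E_comm]
        · simp only [Function.update_of_ne hj, St']
          split_ifs
          · exact (B j).Q_idem
          · exact (B j).E'_idem
      have hnew : ∀ (Z : Fin (t + 1) → Module.End F (Ud F k)) (E E' : Module.End F (Ud F k)), Z l = E →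
          pmap Z + pmap (Function.update Z l E') - (2 : F) • pmap (Function.update Z l ((B l).E * (B l).E')) =
            pmap (Function.update Z l (E + E' - (2 : F) • ((B l).E * (B l).E'))) := by
        rintro Z E E' rfl
        rw [sub_two, sub_two, pmap_update_add,
          pmap_update_add, pmap_update_smul, Function.update_eq_self]
      have e1 : St (insert l s) = Function.update (St s) l (B l).Q := funext fun j => by
        by_cases hj : j = l
        · subst hj; simp [St]
        · simp [St, Function.update_of_ne hj, hj]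
      have e2 : St' (insert l s) = Function.update (St' s) l (B l).Q := funext fun j => by
        by_cases hj : j = l
        · subst hj; simp [St']
        · simp [St', Function.update_of_ne hj, hj]
      rw [e1, e2, Blk.Q, ← hnew _ _ _ hSt, ← h3,
        show (B l).E + (B l).E' - (2 : F) • ((B l).E * (B l).E') = (B l).E' + (B l).E - (2 : F) • ((B l).E * (B l).E') by
          abel, ← hnew _ _ _ hSt', ← h4]
      simp only [sub_mul, mul_sub, one_mul, mul_one, smul_mul_assoc, mul_smul_comm, add_mul, mul_add, h1, h2,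
        smul_add, smul_sub, smul_smul, smul_zero, add_zero, zero_add]
      module
  obtain ⟨y, hy, ey⟩ := hflip (Finset.univ.erase i) (Finset.notMem_erase i _)
  -- split at the factor `i`
  set Qs : Fin t → Module.End F (Ud F k) := fun j => (B (i.succAbove j)).Q
  set A := pmap Qs
  have eyA : lm y = 1 - (2 : F) • em i ((B i).E + (B i).E') A := by
    rw [ey]
    have h1 : St (Finset.univ.erase i) = i.insertNth (B i).E Qs := funext fun j => by
      rcases Fin.eq_self_or_eq_succAbove i j with rfl | ⟨l, rfl⟩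
      · simp [St]
      · simp [St, Qs, Fin.succAbove_ne i l]
    have h2 : St' (Finset.univ.erase i) = i.insertNth (B i).E' Qs := funext fun j => by
      rcases Fin.eq_self_or_eq_succAbove i j with rfl | ⟨l, rfl⟩
      · simp [St']
      · simp [St', Qs, Fin.succAbove_ne i l]
    rw [h1, h2, pmap_insert, pmap_insert, ← em_add_left]
  obtain ⟨j₀, j₁, hj⟩ : ∃ j₀ j₁ : Fin t, j₀ ≠ j₁ := ⟨⟨0, by omega⟩, ⟨1, by omega⟩, by simp [Fin.ext_iff]⟩
  set Bl := B (i.succAbove j₀)
  set Bm := B (i.succAbove j₁)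
  have hAA : A * A = A := by rw [pmap_mul']; exact congrArg pmap (funext fun j => (B _).Q_idem)
  -- moved at the second factor
  have hs : slot hf (i.succAbove j₀) Bl.sg ∈ X :=
    C.base _ (slot_sU_mem hf C.five _ _ _) (isStd_slot hf _ _)
  set Q' := cj Bl.sg Bl.Q
  set A' := pmap (Function.update Qs j₀ Q')
  have hQ' : Q' * Q' = Q' := by rw [← cj_prod, Bl.Q_idem]
  have hA'A' : A' * A' = A' := by
    rw [pmap_mul']
    congr 1
    funext j
    by_cases hj' : j = j₀
    · subst hj'; simp [hQ']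
    · simp [Function.update_of_ne hj', Qs, Blk.Q_idem]
  have hcA : cj (slot hf j₀ Bl.sg) A = A' := by rw [cj_slot_pmap hf]
  set J := lm ((Bl.sg⁻¹ * Bl.sg⁻¹) * (Bl.sg⁻¹ * Bl.sg⁻¹))
  set K := pmap (Function.update Qs j₀ (J - 1))
  have hjj : (1 - (2 : F) • A) * (1 - (2 : F) • A') * ((1 - (2 : F) • A) * (1 - (2 : F) • A')) - 1 = K := by
    have e1 : Bl.Q * Q' = (1 / 4 : F) • (lm (Bl.sg⁻¹ * Bl.sg⁻¹) - 1 + (2 : F) • Bl.Q + (2 : F) • Q') := by
      have h := Bl.half_conj
      rw [show cj Bl.sg (1 - (2 : F) • Bl.Q) = 1 - (2 : F) • Q' by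
        rw [sub_two, cj_add, cj_smul, cj_id, ← sub_two]] at h
      rw [← h]
      simp only [sub_mul, mul_sub, one_mul, mul_one, smul_mul_assoc, mul_smul_comm, smul_smul, smul_sub, smul_add]
      have h4 : (4 : F) ≠ 0 := by rw [show (4 : F) = 2 * 2 by norm_num]; exact mul_ne_zero two two
      match_scalars <;> field_simp <;> ring
    have hj0 : Function.update Qs j₀ Bl.Q = Qs := Function.update_eq_self_iff.2 rfl
    have hx : (1 - (2 : F) • A) * (1 - (2 : F) • A') = 1 + pmap (Function.update Qs j₀ (lm (Bl.sg⁻¹ * Bl.sg⁻¹) - 1)) := by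
      have hAA' : A * A' = pmap (Function.update Qs j₀ (Bl.Q * Q')) := by
        rw [pmap_mul']
        congr 1
        funext j
        by_cases hj' : j = j₀
        · subst hj'; simp; rfl
        · simp [Function.update_of_ne hj', Qs, Blk.Q_idem]
      have h4 : lm (Bl.sg⁻¹ * Bl.sg⁻¹) - 1 = (4 : F) • (Bl.Q * Q') + (-2 : F) • Bl.Q + (-2 : F) • Q' := by
        rw [e1]
        have h4 : (4 : F) ≠ 0 := by rw [show (4 : F) = 2 * 2 by norm_num]; exact mul_ne_zero two two
        match_scalars <;> field_simp <;> ring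
      rw [h4, pmap_update_add, pmap_update_add, pmap_update_smul, pmap_update_smul, pmap_update_smul, hj0, ← hAA']
      simp only [sub_mul, mul_sub, one_mul, mul_one, smul_mul_assoc, mul_smul_comm, smul_smul]
      module
    rw [hx]
    set w := lm (Bl.sg⁻¹ * Bl.sg⁻¹) - 1
    set W := pmap (Function.update Qs j₀ w)
    have hWW : W * W = pmap (Function.update Qs j₀ (w * w)) := by
      rw [pmap_mul']
      congr 1
      funext j
      by_cases hj' : j = j₀
      · subst hj'; simp
      · simp [Function.update_of_ne hj', Qs, Blk.Q_idem]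
    have hw : J - 1 = w + w + w * w := by
      simp only [J, w, lm_mul, sub_mul, mul_sub, one_mul, mul_one]
      abel
    simp only [K, hw]
    rw [pmap_update_add, pmap_update_add, ← hWW]
    simp only [add_mul, mul_add, one_mul, mul_one, W]
    abel
  -- lines
  set Pi := (B i).P
  have hline : ∀ s : F, s ≠ 0 → ∀ z', f Pi.d z' = 0 → f Pi.e z' = 0 → f z' z' = -(2 * s) →
      ∃ g ∈ X, lm g = 1 + em i (lproj f (Pi.d + s • Pi.e)) K := by
    intro s hs0 z' g1 g2 g3
    set a := Pi.d + s • Pi.e
    set b := Pi.d - s • Pi.e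
    have hed := Pi.ed hf
    have haa : f a a = 2 * s := by simp [a, Pi.dd, Pi.ee, Pi.de, hed]; ring
    have hbb : f b b = -(2 * s) := by simp [b, Pi.dd, Pi.ee, Pi.de, hed]; ring
    have haa0 : f a a ≠ 0 := haa ▸ mul_ne_zero two hs0
    have hbb0 : f b b ≠ 0 := hbb ▸ neg_ne_zero.2 (mul_ne_zero two hs0)
    have hab : f a b = 0 := by simp [a, b, Pi.dd, Pi.ee, Pi.de, hed]
    have haz : f a z' = 0 := by simp [a, g1, g2]
    have hbz : f b z' = 0 := by simp [b, g1, g2]
    have hzz0 : f z' z' ≠ 0 := g3 ▸ neg_ne_zero.2 (mul_ne_zero two hs0)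
    have hsub : f (b - z') (b - z') ≠ 0 := by
      simp only [map_sub, LinearMap.sub_apply, hbb, g3, hbz, hf.symm b z']
      exact fun h => mul_ne_zero (mul_ne_zero two two) hs0 (by linear_combination -h)
    have hEi : (B i).E + (B i).E' = lproj f a + lproj f b := by
      refine LinearMap.ext fun v => ?_
      rw [LinearMap.add_apply, LinearMap.add_apply, hEd, hEe, lproj_apply, lproj_apply, haa, hbb]
      simp only [a, b, map_add, map_sub, map_smul, LinearMap.add_apply, LinearMap.sub_apply, LinearMap.smul_apply,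
        smul_eq_mul]
      match_scalars <;> field_simp <;> ring
    set h := rfU hf hsub
    have hha : (h : Ud F k ≃ₗ[F] Ud F k) a = a := by
      rw [rfU_apply, hf.refl_fix (by simp [hf.symm a b, hab, hf.symm a z', haz])]
    have hhb : (h : Ud F k ≃ₗ[F] Ud F k) b = z' := by
      rw [rfU_apply, MixTensor.SymForm.refl_swap hf (hbb.trans g3.symm) hsub]
    obtain ⟨cm, m, ε, hm, hε, c1, c2, c3, c4, hcmem⟩ :=
      C.comp (i.succAbove j₁) Bm.P Bm.dz Bm.ez Bm.zz (slot hf i h) (slot_mem_slots hf _ _)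
    have hg : slot hf (i.succAbove j₁) cm * slot hf i h ∈ X :=
      C.base _ hcmem ((isStd_slot hf _ _).mul (isStd_slot hf i _))
    have hcQ : cj cm Bm.Q = Bm.Q := Bm.comp_Q hm hε c1 c2 c3 c4
    set y₁ := slot hf (i.succAbove j₀) Bl.sg * y * (slot hf (i.succAbove j₀) Bl.sg)⁻¹
    set y₂ := slot hf (i.succAbove j₁) cm * slot hf i h * y₁ * (slot hf (i.succAbove j₁) cm * slot hf i h)⁻¹
    have ey₁ : lm y₁ = 1 - (2 : F) • em i ((B i).E + (B i).E') A' := by
      rw [C.lm_conj_sub _ _ eyA, cj_slot_em_succAbove hf, hcA]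
    have ey₂ : lm y₂ = 1 - (2 : F) • em i (lproj f a + lproj f z') A' := by
      rw [C.lm_conj_sub _ _ ey₁, cj_mul, cj_slot_em hf, hEi, cj_add, cj_lproj hf, cj_lproj hf, hha, hhb,
        cj_slot_em_succAbove hf, cj_slot_pmap hf, Function.update_of_ne hj.symm,
        show cj cm (Qs j₁) = Qs j₁ from hcQ]
      congr 3
      exact congrArg pmap (Function.update_eq_self_iff.2 (Function.update_of_ne hj.symm _ _).symm)
    have hy₁ : y₁ ∈ X := X.mul_mem (X.mul_mem hs hy) (X.inv_mem hs)
    have hy₂ : y₂ ∈ X := X.mul_mem (X.mul_mem hg hy₁) (X.inv_mem hg)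
    refine ⟨y * y₂ * (y * y₂), X.mul_mem (X.mul_mem hy hy₂) (X.mul_mem hy hy₂), ?_⟩
    rw [lm_mul, lm_mul, eyA, ey₂, hEi, em_square i (lproj_mul_self haa0) (lproj_mul_self hbb0) (lproj_mul_self hzz0)
      (lproj_mul hab) (lproj_mul (by rw [hf.symm, hab])) (lproj_mul haz) (lproj_mul (by rw [hf.symm, haz]))
      (lproj_mul hbz) (lproj_mul (by rw [hf.symm, hbz])) hAA hA'A', hjj]
  -- moving the line
  have hmove : ∀ a v : Ud F k, f a a = f v v → f v v ≠ 0 → (∃ g ∈ X, lm g = 1 + em i (lproj f a) K) →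
      ∃ g ∈ X, lm g = 1 + em i (lproj f v) K := by
    intro a v hav hv ⟨g, hg, eg'⟩
    obtain ⟨u, hu⟩ : ∃ u : OQ (qU f), lproj f ((u : Ud F k ≃ₗ[F] Ud F k) a) = lproj f v := by
      rcases hf.sub_or_add hav (hav ▸ hv) with h | h
      · exact ⟨rfU hf h, by rw [rfU_apply, MixTensor.SymForm.refl_swap hf hav h]⟩
      · have h' : f (a - -v) (a - -v) ≠ 0 := by rwa [sub_neg_eq_add]
        refine ⟨rfU hf h', ?_⟩
        rw [rfU_apply, MixTensor.SymForm.refl_swap hf (by simpa using hav) h', lproj_neg]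
    obtain ⟨cm, m, ε, hm, hε, c1, c2, c3, c4, hcmem⟩ :=
      C.comp (i.succAbove j₁) Bm.P Bm.dz Bm.ez Bm.zz (slot hf i u) (slot_mem_slots hf _ _)
    have hgm : slot hf (i.succAbove j₁) cm * slot hf i u ∈ X :=
      C.base _ hcmem ((isStd_slot hf _ _).mul (isStd_slot hf i _))
    refine ⟨_, X.mul_mem (X.mul_mem hgm hg) (X.inv_mem hgm), ?_⟩
    rw [C.lm_conj _ _ eg', cj_mul, cj_slot_em hf, cj_lproj hf, hu, cj_slot_em_succAbove hf, cj_slot_pmap hf,
      Function.update_of_ne hj.symm, show cj cm (Qs j₁) = Qs j₁ from Bm.comp_Q hm hε c1 c2 c3 c4]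
    congr 3
    exact Function.update_eq_self_iff.2 (Function.update_of_ne hj.symm _ _).symm
  -- a basis
  obtain ⟨vs, horth, hvs0, hvs⟩ : ∃ vs : Fin k → Ud F k, (∀ p q, p ≠ q → f (vs p) (vs q) = 0) ∧
      (∀ p, f (vs p) (vs p) ≠ 0) ∧ ∀ p, ∃ g ∈ X, lm g = 1 + em i (lproj f (vs p)) K := by
    rcases C.hk with hk | hk
    · obtain ⟨vs, h1, h2'⟩ := exists_three hf hk Pi (B i).dz (B i).ez (B i).zz
      set zz := f (B i).z (B i).z
      have hz0 : -zz ≠ 0 := neg_ne_zero.2 (B i).zz
      refine ⟨vs, h1, fun p => h2' p ▸ hz0, fun p => hmove _ _ ?_ (h2' p ▸ hz0)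
        (hline (-zz / 2) (div_ne_zero hz0 two) (B i).z (B i).dz (B i).ez (by simp only [zz]; field_simp))⟩
      simp [h2', Pi.dd, Pi.ee, Pi.de, Pi.ed hf, zz]
      field_simp
      ring
    · have : Invertible (2 : F) := invertibleOfNonzero two
      obtain ⟨v, hv⟩ := LinearMap.BilinForm.exists_orthogonal_basis (B := f) ⟨fun x y => hf.symm y x⟩
      have hv0 : ∀ p, f (v p) (v p) ≠ 0 :=
        LinearMap.IsOrthoᵢ.not_isOrtho_basis_self_of_separatingLeft hv hf.nd.1
      have hdim : finrank F (Ud F k) = k := finrank_fin_fun F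
      refine ⟨fun p => v (Fin.cast hdim.symm p), fun p q h => hv (fun e => h (Fin.cast_injective _ e)),
        fun p => hv0 _, fun p => ?_⟩
      set x := f (v (Fin.cast hdim.symm p)) (v (Fin.cast hdim.symm p))
      have hx : x ≠ 0 := hv0 _
      obtain ⟨z', g1, g2, g3⟩ := Pi.exists_z_norm hf (by omega) (neg_ne_zero.2 hx)
      refine hmove _ _ ?_ hx (hline (x / 2) (div_ne_zero hx two) z' g1 g2 (by rw [g3]; field_simp))
      simp only [map_add, map_smul, LinearMap.add_apply, LinearMap.smul_apply, smul_eq_mul, Pi.dd, Pi.ee, Pi.de,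
        Pi.ed hf, x]
      field_simp
      ring
  -- the product
  obtain ⟨g, hg, eg'⟩ : ∃ g ∈ X, lm g = 1 + em i (∑ p, lproj f (vs p)) K := by
    suffices H : ∀ s : Finset (Fin k), ∃ g ∈ X, lm g = 1 + em i (∑ p ∈ s, lproj f (vs p)) K from H _
    intro s
    induction s using Finset.induction with
    | empty => exact ⟨1, X.one_mem, by
        rw [lm_one, Finset.sum_empty,
          show em i (0 : Module.End F (Ud F k)) K = 0 from Tm_ext i fun u w => by simp [em_Tm], add_zero]⟩
    | @insert p s hp ih =>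
      obtain ⟨g, hg, eg'⟩ := ih
      obtain ⟨g', hg', eg''⟩ := hvs p
      refine ⟨g' * g, X.mul_mem hg' hg, ?_⟩
      rw [lm_mul, eg', eg'', Finset.sum_insert hp, em_add_left, add_mul, mul_add, mul_add, em_mul, Finset.mul_sum,
        Finset.sum_eq_zero (fun q hq => lproj_mul (horth p q fun h => hp (h ▸ hq))),
        show em i (0 : Module.End F (Ud F k)) (K * K) = 0 from Tm_ext i fun u w => by simp [em_Tm]]
      simp only [one_mul, mul_one]
      abel
  rw [sum_lproj hf horth hvs0] at eg'
  have hgT : ∀ u w, (g : Vt F k (t + 1) ≃ₗ[F] Vt F k (t + 1)) (Tm i u w) = Tm i u (w + K w) := fun u w => by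
    have h := LinearMap.congr_fun eg' (Tm i u w)
    simp only [LinearMap.add_apply, Module.End.one_apply, em_Tm] at h
    rw [map_add]
    exact h
  have hstd := C.tens_std hg (i := i) ⟨1, 1 + K, fun u w => by simp [hgT]⟩
  set Zs : Fin (t + 1) → Module.End F (Ud F k) := i.insertNth 1 (Function.update Qs j₀ (J - 1))
  have eZ : lm g = 1 + pmap Zs := by rw [eg', pmap_insert]
  have hfixZ : ∀ j v, Zs j v = 0 → ∀ w, (g : Vt F k (t + 1) ≃ₗ[F] Vt F k (t + 1)) (Tm j v w) = Tm j v w := by
    intro j v hv w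
    have h := LinearMap.congr_fun eZ (Tm j v w)
    simp only [LinearMap.add_apply, Module.End.one_apply, pmap_Tm_eq_zero j Zs hv w, add_zero] at h
    exact h
  have hJ : J = lm (sU hf Bl.P.dd (z := (-4 : F) • Bl.z) (by rw [map_smul, Bl.dz, smul_zero])) := by
    show lm _ = _
    rw [Blk.sg, sU_inv, sU_add, sU_add]
    congr 1
    refine qU_ext hf fun a => ?_
    simp [sU_apply, smul_smul]
    module
  obtain ⟨v, hv, -⟩ := fix_line hf (by omega) hstd (i := i.succAbove j₀) Bl.P.d_ne
    (hfixZ _ _ (by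
      simp only [Zs, Fin.insertNth_apply_succAbove, Function.update_self, LinearMap.sub_apply, hJ, lm,
        LinearEquiv.coe_coe, sU_self hf, Module.End.one_apply, sub_self]))
  obtain ⟨v', hv', hv'z⟩ := fix_line hf (by omega) hstd (i := i.succAbove j₁)
    (c := Bm.z) (fun h => Bm.zz (by rw [h]; simp))
    (hfixZ _ _ (by
      simp only [Zs, Fin.insertNth_apply_succAbove, Function.update_of_ne hj.symm]
      have := Bm.Qz
      rwa [← Blk.Q_eq] at this))
  obtain ⟨cs, hcs⟩ := slot_eq_slot hf (by omega) (fun h => hj (Fin.succAbove_right_injective h.symm))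
    (hv'.symm.trans hv)
  have hzne : Bm.z ≠ 0 := fun h => Bm.zz (by rw [h]; simp)
  have hcs1 : cs = 1 := smul_left_injective F hzne (by
    show cs • Bm.z = (1 : F) • Bm.z
    rw [← hcs, hv'z, one_smul])
  have hg1 : g = 1 := by
    rw [hv', show v' = 1 from qU_ext hf fun a => by rw [hcs, hcs1, one_smul]; rfl, map_one]
  rw [hg1, lm_one, left_eq_add] at eZ
  refine pmap_ne_zero (fun j => ?_) eZ
  rcases Fin.eq_self_or_eq_succAbove i j with rfl | ⟨l, rfl⟩
  · simp only [Zs, Fin.insertNth_apply_same]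
    exact fun h => Pi.d_ne (LinearMap.congr_fun h Pi.d)
  · simp only [Zs, Fin.insertNth_apply_succAbove]
    by_cases hl : l = j₀
    · subst hl
      rw [Function.update_self]
      intro h
      have h' := congrArg (f Bl.z) (LinearMap.congr_fun h Bl.P.e)
      have k1 : f Bl.z Bl.P.d = 0 := by rw [hf.symm, Bl.dz]
      have k2 : f Bl.z Bl.P.e = 0 := by rw [hf.symm, Bl.ez]
      simp [hJ, lm, sU_apply, Bl.P.de, Bl.dz, Bl.ez, k1, k2, Bl.zz] at h'
      exact mul_ne_zero two two (by linear_combination h')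
    · rw [Function.update_of_ne hl]
      intro h
      have h' := LinearMap.congr_fun h (B (i.succAbove l)).P.d
      rw [show Qs l = (B (i.succAbove l)).Q from rfl, Blk.Q_eq, (B (i.succAbove l)).Qd] at h'
      exact (B (i.succAbove l)).P.d_ne h'

/-- **No central elements.** -/
theorem nc {x : OQ (qT f (t + 1))} (hx : x ∈ X) {i : Fin (t + 1)} {d : Ud F k} (hd0 : d ≠ 0) (hd : f d d = 0)
    {φ : Module.End F (Vt F k t)} (e : lm x = 1 + em i (pd f d) φ) : φ = 0 := by
  rcases Nat.lt_or_ge t 2 with h | h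
  · exact C.nc_one (by have := C.t1; omega) hx hd0 hd e
  · exact C.nc_two h hx hd0 hd e

end Core

end CfsgLib.Geo.OrthWreath
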