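/-
The components of radical elements are scalars.
-/
import Cfsg.Agent.Lib.Geo.OrthWreath.Central
import Cfsg.Agent.Lib.Geo.OrthWreath.Lite

set_option autoImplicit false
set_option linter.unusedSectionVars false

namespace CfsgLib.Geo.OrthWreath

open CfsgLib.Classical CfsgLib.Classical.Quad Module
open CfsgLib.Geo.MixTensor (SymForm)
open CfsgLib.Geo.OrthTensor (sv sv_apply)
open CfsgLib.Geo.TensorWreath (pvec)
open QuadraticMap (polar polarBilin)
open LinearMap (BilinForm)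

variable {F : Type*} [Field F] [Finite F] {k t : ℕ} {f : BilinForm F (Ud F k)}

/-- A map commuting with all the Siegel elements of all factors is a scalar. -/
theorem scalar_of_comm_sv (hf : SymForm f) (hk : 3 ≤ k) :
    ∀ {t : ℕ} (ψ : Module.End F (Vt F k t)),
      (∀ (l : Fin t) (d z : Ud F k) (hd : f d d = 0) (hz : f d z = 0), cj (slot hf l (sU hf hd hz)) ψ = ψ) →
      ∃ μ : F, ψ = μ • 1 := by
  intro t
  induction t with
  | zero =>
    intro ψ _
    refine ⟨ψ 1 (fun j => j.elim0), pvec_ext fun ξ => funext fun b => ?_⟩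
    have e1 : pvec ξ = 1 := funext fun c => by simp [pvec]
    rw [e1, Subsingleton.elim b (fun j => j.elim0)]
    simp
  | succ t ih =>
    intro ψ h
    obtain ⟨P, -⟩ := exists_frame hf (f := f) hk
    set D := tensor hf (0 : Fin (t + 1))
    set A : Module.End F (Vt F k t) := D.flip.C P.e ∘ₗ ψ ∘ₗ Tm 0 P.d
    have hψ : ψ = em 0 1 A := by
      refine Tm_ext 0 fun u w => D.V_ext fun w' => ?_
      set M : Module.End F (Ud F k) := D.C w' ∘ₗ ψ ∘ₗ (Tm 0).flip w
      have hM : ∀ v, M v = D.C w' (ψ (Tm 0 v w)) := fun v => rfl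
      obtain ⟨μ, hμ⟩ : ∃ μ : F, M = μ • LinearMap.id := by
        refine OrthTensor.scalar_of_isotropic hf (by rwa [finrank_fin_fun]) fun d hd => ?_
        by_cases hd0 : d = 0
        · exact ⟨0, by simp [hd0]⟩
        obtain ⟨e, he, hde⟩ := OrthTensor.exists_iso_partner hf hd hd0
        let P' : Fr f := ⟨d, e, hd, he, hde⟩
        obtain ⟨ζ, hζd, -, hMeq, -⟩ := commutant hf hk P' (M := M) fun z h1 h2 v => by
          have hs := h 0 d z hd h1
          have hCs : ∀ (s : OQ (qU f)) v, D.C w' (lm (slot hf 0 s) v) = (s : Ud F k ≃ₗ[F] Ud F k) (D.C w' v) := by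
            intro s
            refine LinearMap.congr_fun (D.hom_ext (L := D.C w' ∘ₗ lm (slot hf 0 s))
              (L' := lm s ∘ₗ D.C w') fun b r => ?_)
            simp [lm, slot_Tm_self, D.C_T]
          have : (sU hf hd h1 : Ud F k ≃ₗ[F] Ud F k) (M v) = M ((sU hf hd h1 : Ud F k ≃ₗ[F] Ud F k) v) := by
            rw [hM, hM, ← hCs, ← Module.End.mul_apply, comm_of_cj hs, Module.End.mul_apply]
            congr 2
            rw [lm, LinearEquiv.coe_coe, slot_Tm_self]
          simpa [sU, mkU_apply] using this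
        refine ⟨f e (M d), ?_⟩
        conv_lhs => rw [hMeq]
        simp [P', pd_apply, nf_apply, hd, hf.symm d ζ, show f d ζ = 0 from hζd]
      have e1 : frm f t w' (A w) = f P.e (M P.d) := by
        rw [hM, D.f_C, QuadraticMap.polar_comm]
        show frm f t w' (D.flip.C P.e (ψ (Tm 0 P.d w))) = _
        rw [D.flip.f_C, QuadraticMap.polar_comm]
        rfl
      rw [hμ, LinearMap.smul_apply, LinearMap.id_apply, map_smul, smul_eq_mul, P.ed hf, mul_one] at e1
      rw [← hM, hμ, em_Tm, Module.End.one_apply, D.C_T, e1]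
      rfl
    obtain ⟨μ, hμ⟩ := ih A fun l d z hd hz => LinearMap.ext fun w => by
      have h' := LinearMap.congr_fun (h ((0 : Fin (t + 1)).succAbove l) d z hd hz) (Tm 0 P.d w)
      rw [hψ, cj_slot_em_succAbove hf, em_Tm, em_Tm] at h'
      exact D.T_injective' P.d_ne h'
    exact ⟨μ, by rw [hψ, hμ, em_smul, em_one]⟩

/-- **A map changed by scalars by the Siegel elements is a scalar.** -/
theorem scalar_of_shift_sv (hf : SymForm f) (hk : k = 3 ∨ 4 ≤ k) (hq : k = 3 → 5 ≤ Nat.card F)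
    (κ : Module.End F (Vt F k (t + 1)))
    (h : ∀ (l : Fin (t + 1)) (d z : Ud F k) (hd : f d d = 0) (hz : f d z = 0),
      ∃ ν : F, cj (slot hf l (sU hf hd hz)) κ = κ + ν • 1) : ∃ μ : F, κ = μ • 1 := by
  have hk3 : 3 ≤ k := by omega
  refine scalar_of_comm_sv hf hk3 κ fun l d z hd hz => ?_
  by_cases hd0 : d = 0
  · subst hd0
    rw [show sU hf hd hz = 1 from qU_ext hf fun a => by simp [sU_apply], map_one, cj_one]
  obtain ⟨e, he, hde⟩ := OrthTensor.exists_iso_partner hf hd hd0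
  let P : Fr f := ⟨d, e, hd, he, hde⟩
  set z' := z - f e z • d
  have hz' : f d z' = 0 := by simp [z', hd, hz]
  rw [show sU hf hd hz = sU hf hd hz' from qU_ext hf fun a => by
    simp [sU_apply, z', hd, hz, hf.symm d z, smul_smul]; module]
  have hfix := scal_fix hf hk hq l P (fun _ : Unit => κ) (fun x hx _ _ => by
    obtain ⟨ν, hν⟩ := h l d x hd hx
    refine ⟨ν • 1, ?_⟩
    rw [Pi.sub_apply, cjHom_apply, hν, em_smul, em_one]
    abel) z' hz' (by simp [P, z', hf.symm d e, hde])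
  exact congrFun hfix ()

namespace Core

variable {hf : SymForm f} {X : Subgroup (OQ (qT f (t + 1)))} (C : Core hf X)
include C

/-- The second factor plays the part of one factor. -/
theorem lite (i : Fin (t + 1)) : Lite (qT f (t + 1)) (frm f t) f (Tm i).flip X where
  toTensor := (tensor hf i).flip
  three := by rw [finrank_fin_fun]; exact C.k3
  nontrivU := Module.nontrivial_of_finrank_pos (R := F) (by
    rw [finrank_Vt]; exact Nat.pow_pos (by have := C.k3; omega))
  siegel {w z} hw hz _ := ⟨slot hf i (sU hf hw hz), C.base _ (slot_sU_mem hf C.five _ hw hz) (isStd_slot hf _ _),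
    fun a y => by rw [LinearMap.flip_apply, LinearMap.flip_apply, slot_Tm_self, sU, mkU_apply]⟩
  nc x hx w φ hw0 hw h := C.nc (i := i) hx hw0 hw (Tm_ext i fun u a => by
    simp only [LinearMap.add_apply, Module.End.one_apply, em_Tm, pd_apply, map_smul, LinearMap.smul_apply]
    exact h a u)

/-- The components are scalars for one further factor without totally singular planes. -/
theorem comp_scalar_four (h4 : k = 4) (h1 : t = 1) (i : Fin (t + 1)) {d : Ud F k} (hd0 : d ≠ 0) (hd : f d d = 0)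
    {Y : Vt F k t →ₗ[F] Vt F k (t + 1)} (hY : (C.lite i).Rad d Y) {z : Ud F k} (hz : f d z = 0) :
    ∃ μ : F, ∀ a, (C.lite i).C z (Y a) = μ • a := by
  classical
  subst h1
  have hk3 := C.k3
  have two := hf.two
  set O := C.lite i
  obtain ⟨e, he, hde⟩ := OrthTensor.exists_iso_partner hf hd hd0
  let P : Fr f := ⟨d, e, hd, he, hde⟩
  have hed : f e d = 1 := P.ed hf
  let ι := {x : Ud F k // f d x = 0 ∧ f e x = 0}
  suffices main : ∀ x : ι, ∃ μ : F, O.C (x : Ud F k) ∘ₗ Y = μ • 1 by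
    obtain ⟨μ, hμ⟩ := main ⟨z - f e z • d, by simp [hd, hz], by simp [hed]⟩
    refine ⟨μ, fun a => ?_⟩
    have h := LinearMap.congr_fun hμ a
    simp only [LinearMap.comp_apply, map_sub, map_smul, LinearMap.sub_apply, LinearMap.smul_apply, hY.1,
      smul_zero, sub_zero, Module.End.one_apply] at h
    exact h
  by_contra hne
  push Not at hne
  obtain ⟨x₀, hx₀⟩ := hne
  let S : AddSubgroup (ι → Module.End F (Vt F k 1)) :=
    { carrier := {y | ∃ Y, O.Rad d Y ∧ ∀ x, y x = O.C (x : Ud F k) ∘ₗ Y}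
      zero_mem' := ⟨Y + -Y, O.rad_add hd hY (O.rad_neg hd hY), fun x => by simp⟩
      add_mem' := fun {y y'} ⟨Y, hY, e1⟩ ⟨Y', hY', e2⟩ =>
        ⟨Y + Y', O.rad_add hd hY hY', fun x => by rw [Pi.add_apply, e1, e2, LinearMap.comp_add]⟩
      neg_mem' := fun {y} ⟨Y, hY, e1⟩ => ⟨-Y, O.rad_neg hd hY, fun x => by rw [Pi.neg_apply, e1, LinearMap.comp_neg]⟩ }
  -- conjugation by a Siegel element of the other factor
  have hcj : ∀ {p q : Ud F k} (hp : f p p = 0) (hq : f p q = 0) (Y : Vt F k 1 →ₗ[F] Vt F k (1 + 1)), O.Rad d Y →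
      O.Rad d (lm (slot hf (i.succAbove 0) (sU hf hp hq)) ∘ₗ Y ∘ₗ lm (slot hf 0 (sU hf hp hq))⁻¹) ∧
      ∀ x : Ud F k, O.C x ∘ₗ lm (slot hf (i.succAbove 0) (sU hf hp hq)) ∘ₗ Y ∘ₗ lm (slot hf 0 (sU hf hp hq))⁻¹ =
        cj (slot hf 0 (sU hf hp hq)) (O.C x ∘ₗ Y) := by
    intro p q hp hq Y hY
    set g := slot hf (0 : Fin 1) (sU hf hp hq)
    have em : ∀ a v, (slot hf (i.succAbove 0) (sU hf hp hq) : Vt F k (1 + 1) ≃ₗ[F] Vt F k (1 + 1))
        ((Tm i).flip a v) = (Tm i).flip (lm g a) (LinearMap.id (R := F) v) := fun a v => by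
      simp [g, lm, slot_Tm_succAbove]
    have hA : ∀ a b, frm f 1 (lm g a) (lm g b) = frm f 1 a b := fun a b => map_frm hf _ a b
    refine ⟨?_, fun x => LinearMap.ext fun a => ?_⟩
    · have h := O.rad_conj hY (C.base _ (slot_sU_mem hf C.five _ hp hq) (isStd_slot hf _ _)) (A := lm g)
        (A' := lm g⁻¹) (B := LinearMap.id) (ε := 1) hA (fun a => LinearMap.congr_fun (lm_inv_mul g) a) one_ne_zero
        (by simp) em
      rwa [one_smul] at h
    · simp only [cj, Module.End.mul_apply, LinearMap.comp_apply]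
      exact O.C_conj hA em x (Y (lm g⁻¹ a))
  have hinv : ∀ (u : {z : Ud F k // f d z = 0 ∧ f e z = 0}), ∀ y ∈ S,
      cjHom ι (slot hf (0 : Fin 1) (sU hf hd u.2.1)) y ∈ S := by
    rintro u y ⟨Y, hY, e1⟩
    exact ⟨_, (hcj hd u.2.1 Y hY).1, fun x => by rw [cjHom_apply, e1, (hcj hd u.2.1 Y hY).2]⟩
  obtain ⟨y, hy, hy0, hfix⟩ := exists_fixed_tuple hf (fun u : {z : Ud F k // f d z = 0 ∧ f e z = 0} => sU hf hd u.2.1)
    (fun a b => by simp only [sU_add]; exact qU_ext hf fun x => by simp [sU_apply, add_comm (a : Ud F k)])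
    (fun u => by rw [sU_pow, ← sU_zero hf hd]; exact qU_ext hf fun a => by simp [sU_apply]) (0 : Fin 1) S
    (scal ι F k 0 0) hinv (fun u => scal_inv hf 0 _) ⟨fun x => O.C (x : Ud F k) ∘ₗ Y, ⟨Y, hY, fun x => rfl⟩, fun h => by
      obtain ⟨A, hA⟩ := h x₀
      refine hx₀ (A 1 (fun j => j.elim0)) ?_
      have hA' : O.C (x₀ : Ud F k) ∘ₗ Y = em (0 : Fin 1) 1 A := hA
      rw [hA']
      conv_lhs => rw [show A = A 1 (fun j => j.elim0) • 1 from pvec_ext fun ξ => funext fun b => by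
        have e1 : pvec ξ = 1 := funext fun c => by simp [pvec]
        rw [e1, Subsingleton.elim b (fun j => j.elim0)]
        simp]
      rw [em_smul, em_one]⟩
  have hfix' : ∀ (x : ι) z (hz : f d z = 0), f e z = 0 → cj (slot hf (0 : Fin 1) (sU hf hd hz)) (y x) = y x :=
    fun x z hz hz' => congrFun (scal_fix hf C.hk C.hq (0 : Fin 1) P y (fun u hu hu' => hfix ⟨u, hu, hu'⟩) z hz hz') x
  obtain ⟨Y₀, hY₀, eY₀⟩ := hy
  -- the components are self-adjoint
  have hsa : ∀ x, f d x = 0 → f x x ≠ 0 → ∀ a b, frm f 1 a (O.C x (Y₀ b)) = frm f 1 (O.C x (Y₀ a)) b :=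
    fun x hx hxx a b => by
      have h := congrArg (frm f 1 a) (O.rad_comm hd0 hd hY₀ (O.rad_unit hd hx hxx) b)
      rw [O.f_adjV, O.f_adjV] at h
      have h' : polar (qT f (1 + 1)) (Y₀ a) ((Tm i).flip b x) =
          polar (qT f (1 + 1)) ((Tm i).flip a x) (Y₀ b) := h
      rw [QuadraticMap.polar_comm, ← O.f_C, ← O.f_C] at h'
      rw [← h', O.hf.symm (O.C x (Y₀ a)) b]
  let tu : Ud F k →ₗ[F] Vt F k 1 := LinearMap.funLeft F F (fun a : Fin 1 → Fin k => a 0)
  let ut : Vt F k 1 →ₗ[F] Ud F k := LinearMap.funLeft F F (fun a (_ : Fin 1) => a)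
  have htu : ∀ a, tu a = pvec fun _ => a := fun a => funext fun b => by simp [tu, pvec, LinearMap.funLeft_apply]
  have hut : ∀ w, tu (ut w) = w := fun w => funext fun b => by
    simp only [tu, ut, LinearMap.funLeft_apply]
    exact congrArg w (funext fun j => by rw [Fin.fin_one_eq_zero j])
  have hfu : ∀ a b, frm f 1 (tu a) (tu b) = f a b := fun a b => by rw [htu, htu, frm_pvec, Fin.prod_univ_one]
  have hutu : ∀ a, ut (tu a) = a := fun a => funext fun b => rfl
  have hsl : ∀ (u : OQ (qU f)) v, (slot hf (0 : Fin 1) u : Vt F k 1 ≃ₗ[F] Vt F k 1) (tu v) =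
      tu ((u : Ud F k ≃ₗ[F] Ud F k) v) := fun u v => by
    rw [htu, htu, slot_pvec]
    congr 1
    funext j
    rw [Fin.fin_one_eq_zero j, Function.update_self]
  let pr : Ud F k →ₗ[F] Ud F k := LinearMap.id - (f e).smulRight d - (f d).smulRight e
  have hpr : ∀ v, f d (pr v) = 0 ∧ f e (pr v) = 0 := fun v => by constructor <;> simp [pr, hd, he, hde, hed]
  obtain ⟨η', hη'⟩ := O.exists_left_dual (f e ∘ₗ ut ∘ₗ O.C.flip (Y₀ (tu d)) ∘ₗ pr)
  obtain ⟨η, hη⟩ := O.exists_left_dual (f e ∘ₗ ut ∘ₗ O.C.flip (Y₀ (tu e)) ∘ₗ pr)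
  have hprd : pr d = 0 := by simp [pr, hd, hed]
  have hpre : pr e = 0 := by simp [pr, he, hde]
  have hη'd : f η' d = 0 := by simp [hη', hprd]
  have hη'e : f η' e = 0 := by simp [hη', hpre]
  have hηd : f η d = 0 := by simp [hη, hprd]
  have hηe : f η e = 0 := by simp [hη, hpre]
  set Q : Module.End F (Vt F k 1) := em (0 : Fin 1) (pd f d) 1
  have hQ : ∀ a, Q (tu a) = tu (f d a • d) := fun a => by
    rw [htu, htu, pvec_eq_Tm (0 : Fin 1), em_Tm, pvec_eq_Tm (0 : Fin 1) fun _ => f d a • d]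
    simp [pd_apply]
    exact congrArg _ (congrArg _ (congrArg _ (funext fun j => j.elim0)))
  -- the shape of the components
  have hcomp : ∀ (x : ι) b, O.C (x : Ud F k) (Y₀ b) = f η' x • b + f η x • Q b := by
    intro x b
    obtain ⟨a, rfl⟩ : ∃ a, tu a = b := ⟨ut b, hut b⟩
    set M : Module.End F (Ud F k) := ut ∘ₗ (O.C (x : Ud F k) ∘ₗ Y₀) ∘ₗ tu
    have hM : ∀ v, tu (M v) = O.C (x : Ud F k) (Y₀ (tu v)) := fun v => hut _
    have hMi : ∀ v w, M v = w ↔ O.C (x : Ud F k) (Y₀ (tu v)) = tu w := fun v w =>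
      ⟨fun h => by rw [← hM, h], fun h => by rw [← hutu w, ← h, ← hM, hutu]⟩
    obtain ⟨ζ, hζd, hζe, hMeq, -⟩ := commutant hf hk3 P (M := M) fun z g1 g2 v => by
      have h := comm_of_cj (hfix' x z g1 g2)
      have h' := LinearMap.congr_fun h (tu v)
      rw [eY₀, Module.End.mul_apply, Module.End.mul_apply] at h'
      simp only [lm, LinearEquiv.coe_coe, LinearMap.comp_apply, hsl] at h'
      have e1 : (sU hf hd g1 : Ud F k ≃ₗ[F] Ud F k) (M v) = M ((sU hf hd g1 : Ud F k ≃ₗ[F] Ud F k) v) := by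
        refine ((hMi _ _).2 ?_).symm
        rw [← hsl _ (M v), hM]
        exact h'.symm
      simpa [sU, mkU_apply, P] using e1
    have hxp : pr (x : Ud F k) = x := by simp [pr, x.2.1, x.2.2]
    have hα : f η' x = f e (M d) := by rw [hη']; simp [M, hxp]
    have hβ : f η x = f e (M e) := by rw [hη]; simp [M, hxp]
    by_cases hx0 : (x : Ud F k) = 0
    · rw [hx0]; simp
    have hsym : ∀ p q, f p (M q) = f (M p) q := fun p q => by
      rw [← hfu p (M q), ← hfu (M p) q, hM, hM]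
      refine hsa _ x.2.1 (fun hxx => hx0 ?_) _ _
      obtain ⟨r, hr⟩ := Submodule.mem_span_singleton.1 (C.thin h4 d x hd hd0 x.2.1 hxx)
      have hr0 : r = 0 := by simpa [← hr, hed] using x.2.2
      rw [← hr, hr0, zero_smul]
    have hζ0 : ζ = 0 := hf.nd.1 _ fun q => by
      have h := hsym e q
      rw [hMeq] at h
      have hde' : f d ζ = 0 := hζd
      have hee' : f e ζ = 0 := hζe
      simp [P, nf_apply, pd_apply, hd, he, hde, hed, hde', hee', hf.symm d ζ, hf.symm e ζ, hf.symm d q, hf.symm e q,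
        hf.symm ζ q] at h
      refine (mul_eq_zero.1 (show (2 : F) * f ζ q = 0 from ?_)).resolve_left two
      first | linear_combination h | linear_combination -h
    have hMa : M a = f η' x • a + f η x • (f d a • d) := by
      rw [hα, hβ]
      conv_lhs => rw [hMeq, hζ0]
      simp [P, nf_apply, pd_apply]
    rw [← hM, hMa, map_add, map_smul, map_smul, hQ]
  have hdec : ∀ b, Y₀ b = Tm i η' b + Tm i η (Q b) + Tm i d (O.C e (Y₀ b)) := fun b => O.V_ext fun v => by
    have h := hcomp ⟨pr v, hpr v⟩ b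
    have p1 : f η' (pr v) = f η' v := by simp [pr, hη'd, hη'e]
    have p2 : f η (pr v) = f η v := by simp [pr, hηd, hηe]
    simp only [p1, p2] at h
    rw [map_add, map_add, show O.C v (Tm i η' b) = f v η' • b from O.C_T v b η',
      show O.C v (Tm i η (Q b)) = f v η • Q b from O.C_T v _ η,
      show O.C v (Tm i d (O.C e (Y₀ b))) = f v d • O.C e (Y₀ b) from O.C_T v _ d, hf.symm η' v, hf.symm η v,
      hf.symm d v, ← h]
    conv_lhs => rw [show v = pr v + f e v • d + f d v • e by simp [pr]; abel]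
    simp only [map_add, map_smul, LinearMap.add_apply, LinearMap.smul_apply, hY₀.1, smul_zero, add_zero]
  -- the non-scalar part
  have hη0 : η ≠ 0 := by
    intro h0
    refine hy0 fun x => ⟨f η' x • 1, LinearMap.ext fun b => ?_⟩
    rw [eY₀, LinearMap.comp_apply, hcomp, h0, map_zero, LinearMap.zero_apply, zero_smul, add_zero, em_smul, em_one]
    rfl
  have hdη : f d η = 0 := by rw [hf.symm, hηd]
  have hηη : f η η ≠ 0 := fun h => hη0 (by
    obtain ⟨r, hr⟩ := Submodule.mem_span_singleton.1 (C.thin h4 d η hd hd0 hdη h)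
    have hr0 : r = 0 := by
      rw [hf.symm] at hηe
      simpa [← hr, hed] using hηe
    rw [← hr, hr0, zero_smul])
  -- a second line
  obtain ⟨w, w1, w2, ww⟩ := P.exists_z hf hk3
  have w1' : f d w = 0 := w1
  have w2' : f e w = 0 := w2
  set g := slot hf (0 : Fin 1) (sU hf he w2')
  set m := slot hf (i.succAbove 0) (sU hf he w2')
  set d' := (sU hf he w2' : Ud F k ≃ₗ[F] Ud F k) d
  have hdd' : f d d' = -(f w w / 2) := by
    have hwd : f w d = 0 := by rw [hf.symm, w1']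
    simp [d', sU_apply, hed, hwd, hd, hde, w1']
  obtain ⟨hY', -⟩ := hcj he w2' Y₀ hY₀
  set Q' : Module.End F (Vt F k 1) := em (0 : Fin 1) (pd f d') 1
  have hQ' : ∀ a, Q' (tu a) = tu (f d' a • d') := fun a => by
    rw [htu, htu, pvec_eq_Tm (0 : Fin 1), em_Tm, pvec_eq_Tm (0 : Fin 1) fun _ => f d' a • d']
    simp [pd_apply]
    exact congrArg _ (congrArg _ (congrArg _ (funext fun j => j.elim0)))
  have hgQ : cj g Q = Q' := by rw [cj_slot_em hf, cj_pd hf]
  have hm : ∀ u v, (m : Vt F k (1 + 1) ≃ₗ[F] Vt F k (1 + 1)) (Tm i u v) = Tm i u (lm g v) := fun u v => by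
    simp [m, g, lm, slot_Tm_succAbove]
  have hdec' : ∀ b, (lm m ∘ₗ Y₀ ∘ₗ lm g⁻¹) b = Tm i η' b + Tm i η (Q' b) + Tm i d (lm g (O.C e (Y₀ (lm g⁻¹ b)))) := by
    intro b
    rw [LinearMap.comp_apply, LinearMap.comp_apply]
    conv_lhs => rw [hdec]
    rw [lm, LinearEquiv.coe_coe, map_add, map_add, hm, hm, hm,
      ← hgQ]
    congr 2
    rw [← Module.End.mul_apply, lm_mul_inv]
    rfl
  have h := fun a b => congrArg (frm f 1 (tu a)) (O.rad_comm hd0 hd hY₀ hY' (tu b))
  have hcomm : ∀ a b, f η η * (f (f d a • d) (f d' b • d') - f (f d' a • d') (f d b • d)) = 0 := by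
    intro a b
    have h := h a b
    rw [O.f_adjV, O.f_adjV, hdec' (tu a), hdec' (tu b), hdec (tu a), hdec (tu b)] at h
    simp only [polar_qT hf, map_add, LinearMap.add_apply, frm_Tm hf, hd, hf.symm d η, hdη, hf.symm d η', hη'd,
      hηd, zero_mul, add_zero, zero_add, hf.symm η η', hQ, hQ', hfu, show f d η' = 0 by rw [hf.symm]; exact hη'd] at h
    simp only [map_smul, LinearMap.smul_apply, smul_eq_mul, hf.symm d a, hf.symm d' a] at h ⊢
    linear_combination h
  have h1 := hcomm d e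
  simp only [map_smul, LinearMap.smul_apply, smul_eq_mul, hd, hde, zero_mul, zero_sub, one_mul, mul_one] at h1
  rw [hf.symm d d', hdd'] at h1
  have hw : f w w / 2 ≠ 0 := div_ne_zero ww two
  exact mul_ne_zero hηη (mul_ne_zero hw hw) (by
    first | linear_combination h1 | linear_combination -h1)

/-- **The components of a radical element are scalars.** -/
theorem comp_scalar (i : Fin (t + 1)) {d : Ud F k} (hd0 : d ≠ 0) (hd : f d d = 0)
    {Y : Vt F k t →ₗ[F] Vt F k (t + 1)} (hY : (C.lite i).Rad d Y) {z : Ud F k} (hz : f d z = 0) :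
    ∃ μ : F, ∀ a, (C.lite i).C z (Y a) = μ • a := by
  classical
  by_cases hk4 : k = 4 ∧ t = 1
  · exact C.comp_scalar_four hk4.1 hk4.2 i hd0 hd hY hz
  have ht4 : k = 4 → 2 ≤ t := fun h => by
    have := C.t1
    rcases Nat.lt_or_ge t 2 with ht | ht
    · exact absurd ⟨h, by omega⟩ hk4
    · exact ht
  have hk3 := C.k3
  have two := hf.two
  set O := C.lite i
  obtain ⟨e, he, hde⟩ := OrthTensor.exists_iso_partner hf hd hd0
  let P : Fr f := ⟨d, e, hd, he, hde⟩
  have hed : f e d = 1 := P.ed hf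
  let ι := {x : Ud F k // f d x = 0 ∧ f e x = 0}
  -- the set of components
  let S : AddSubgroup (ι → Module.End F (Vt F k t)) :=
    { carrier := {y | ∃ Y, O.Rad d Y ∧ ∀ x, y x = O.C (x : Ud F k) ∘ₗ Y}
      zero_mem' := ⟨Y + -Y, O.rad_add hd hY (O.rad_neg hd hY), fun x => by simp⟩
      add_mem' := fun {y y'} ⟨Y, hY, e1⟩ ⟨Y', hY', e2⟩ =>
        ⟨Y + Y', O.rad_add hd hY hY', fun x => by rw [Pi.add_apply, e1, e2, LinearMap.comp_add]⟩
      neg_mem' := fun {y} ⟨Y, hY, e1⟩ => ⟨-Y, O.rad_neg hd hY, fun x => by rw [Pi.neg_apply, e1, LinearMap.comp_neg]⟩ }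
  have hconj : ∀ (l : Fin t) (u c : OQ (qU f)) (ε : F), ε ≠ 0 → (c : Ud F k ≃ₗ[F] Ud F k) d = ε • d →
      (∀ x, f d x = 0 → f e x = 0 → (c : Ud F k ≃ₗ[F] Ud F k) x = x) →
      slot hf i c * slot hf (i.succAbove l) u ∈ X → ∀ y ∈ S, ε • cjHom ι (slot hf l u) y ∈ S := by
    rintro l u c ε hε hcd hcx hmem y ⟨Y, hY, e1⟩
    set m := slot hf i c * slot hf (i.succAbove l) u
    have em : ∀ a v, (m : Vt F k (t + 1) ≃ₗ[F] Vt F k (t + 1)) ((Tm i).flip a v) =
        (Tm i).flip (lm (slot hf l u) a) (lm c v) := fun a v => by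
      simp [m, lm, slot_Tm_self, slot_Tm_succAbove]
    have hA : ∀ a b, frm f t (lm (slot hf l u) a) (lm (slot hf l u) b) = frm f t a b := fun a b => map_frm hf _ a b
    refine ⟨_, O.rad_conj hY hmem (A := lm (slot hf l u)) (A' := lm (slot hf l u)⁻¹) (B := lm c) (ε := ε) hA
      (fun a => LinearMap.congr_fun (lm_inv_mul (slot hf l u)) a) hε hcd em, fun x => LinearMap.ext fun a => ?_⟩
    simp only [Pi.smul_apply, cjHom_apply, cj, LinearMap.smul_apply, Module.End.mul_apply, LinearMap.comp_apply,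
      map_smul, e1]
    congr 1
    have h1 := O.C_conj hA em (x : Ud F k) (Y (lm (slot hf l u)⁻¹ a))
    rw [show lm c (x : Ud F k) = x from hcx _ x.2.1 x.2.2] at h1
    exact h1.symm
  have hInv : IsInv hf S := by
    refine ⟨fun l a b ha hb y hy => ?_, fun l Q y hy => ?_, fun l Q m hm y hy => ?_, fun h4 l c hc y hy => ?_⟩
    · have h := hconj l (sU hf ha hb) 1 1 one_ne_zero (by simp) (fun x _ _ => rfl) (by
        rw [map_one, one_mul]
        exact C.base _ (slot_sU_mem hf C.five _ ha hb) (isStd_slot hf _ _)) y hy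
      rwa [one_smul] at h
    · have h := hconj l _ (P.tor hf (neg_ne_zero.2 one_ne_zero)) (-1) (neg_ne_zero.2 one_ne_zero)
        (P.tor_d hf _) (fun x h1 h2 => P.tor_perp hf _ h1 h2)
        (C.tor_pair_mem _ _ P Q _ (neg_ne_zero.2 one_ne_zero) ⟨1, by ring⟩) y hy
      have h' := S.neg_mem h
      convert h' using 1
      funext x
      rw [Pi.neg_apply, Pi.smul_apply]
      module
    · have h := hconj l (Q.tor hf (mul_ne_zero hm hm)) (P.tor hf one_ne_zero) 1 one_ne_zero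
        (by rw [P.tor_d hf]) (fun x h1 h2 => P.tor_perp hf _ h1 h2)
        (C.tor_pair_mem _ _ P Q one_ne_zero (mul_ne_zero hm hm) ⟨m, by ring⟩) y hy
      rwa [one_smul] at h
    · have h := hconj l (rfU hf hc) 1 1 one_ne_zero (by simp) (fun x _ _ => rfl) (by
        rw [map_one, one_mul]
        exact C.refl_mem h4 (ht4 h4) _ hc) y hy
      rwa [one_smul] at h
  -- reduction to the orthogonal of the pair
  suffices main : ∀ x : ι, ∃ μ : F, O.C (x : Ud F k) ∘ₗ Y = μ • 1 by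
    obtain ⟨μ, hμ⟩ := main ⟨z - f e z • d, by simp [hd, hz], by simp [hed]⟩
    refine ⟨μ, fun a => ?_⟩
    have h := LinearMap.congr_fun hμ a
    simp only [LinearMap.comp_apply, map_sub, map_smul, LinearMap.sub_apply, LinearMap.smul_apply, hY.1,
      smul_zero, sub_zero, Module.End.one_apply] at h
    exact h
  by_contra hne
  push Not at hne
  obtain ⟨x₀, hx₀⟩ := hne
  obtain ⟨Ms, c, hMs, hc, ⟨l₁, hl₁⟩, Y₀, hY₀, eY₀⟩ := exists_monomial_ns hf C.hk C.hq C.thin hInv
    ⟨fun x => O.C (x : Ud F k) ∘ₗ Y, ⟨Y, hY, fun x => rfl⟩, x₀, hx₀⟩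
  set M := pmap Ms
  have eY' : ∀ (x : ι) (a : Vt F k t), O.C (x : Ud F k) (Y₀ a) = c x • M a := fun x a =>
    (LinearMap.congr_fun (eY₀ x) a).symm
  have hM0 : M ≠ 0 := pmap_ne_zero fun l => (hMs l).2
  -- the components are self-adjoint
  have hsa : ∀ x : ι, ∀ a b, frm f t a (c x • M b) = frm f t (c x • M a) b := by
    have aniso : ∀ x, f d x = 0 → f x x ≠ 0 → ∀ a b,
        frm f t a (O.C x (Y₀ b)) = frm f t (O.C x (Y₀ a)) b := fun x hx hxx a b => by
      have h := congrArg (frm f t a) (O.rad_comm hd0 hd hY₀ (O.rad_unit hd hx hxx) b)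
      rw [O.f_adjV, O.f_adjV] at h
      have h' : polar (qT f (t + 1)) (Y₀ a) ((Tm i).flip b x) =
          polar (qT f (t + 1)) ((Tm i).flip a x) (Y₀ b) := h
      rw [QuadraticMap.polar_comm, ← O.f_C, ← O.f_C] at h'
      rw [← h', O.hf.symm (O.C x (Y₀ a)) b]
    obtain ⟨z₀, dz₀, ez₀, zz₀⟩ := P.exists_z hf hk3
    intro x a b
    rw [← eY', ← eY']
    by_cases hxx : f (x : Ud F k) x = 0
    swap
    · exact aniso _ x.2.1 hxx a b
    have h0 := aniso z₀ dz₀ zz₀ a b
    by_cases h1 : f ((x : Ud F k) + z₀) ((x : Ud F k) + z₀) = 0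
    · have h2 : f ((x : Ud F k) - z₀) ((x : Ud F k) - z₀) ≠ 0 := fun hh => by
        simp only [map_add, map_sub, LinearMap.add_apply, LinearMap.sub_apply, hxx] at h1 hh
        exact mul_ne_zero two zz₀ (by linear_combination h1 + hh)
      have h3 := aniso _ (by simp [x.2.1, show f d z₀ = 0 from dz₀]) h2 a b
      simp only [map_sub, LinearMap.sub_apply, h0] at h3
      linear_combination h3
    · have h3 := aniso _ (by simp [x.2.1, show f d z₀ = 0 from dz₀]) h1 a b
      simp only [map_add, LinearMap.add_apply, h0] at h3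
      linear_combination h3
  obtain ⟨x₁, hx₁⟩ := Function.ne_iff.1 hc
  have hMsa : ∀ a b, frm f t a (M b) = frm f t (M a) b := fun a b => by
    have h := hsa x₁ a b
    simp only [map_smul, LinearMap.smul_apply, smul_eq_mul] at h
    exact mul_left_cancel₀ hx₁ h
  -- the vector of the coefficients
  obtain ⟨v₀, w₀, hvw⟩ : ∃ v w, frm f t v (M w) ≠ 0 := by
    by_contra! h
    exact hM0 (LinearMap.ext fun w => (frm_nondeg hf).2 _ fun v => h v w)
  let pr : Ud F k →ₗ[F] Ud F k := LinearMap.id - (f e).smulRight d - (f d).smulRight e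
  obtain ⟨ζ, hζ⟩ := O.exists_left_dual
    ((frm f t v₀ (M w₀))⁻¹ • (frm f t v₀ ∘ₗ O.C.flip (Y₀ w₀) ∘ₗ pr))
  have hζd : f ζ d = 0 := by simp [hζ, pr, hd, hed]
  have hζe : f ζ e = 0 := by simp [hζ, pr, he, hde]
  have hdζ : f d ζ = 0 := by rw [hf.symm, hζd]
  have heζ : f e ζ = 0 := by rw [hf.symm, hζe]
  have hcζ : ∀ x : ι, f ζ x = c x := fun x => by
    rw [hζ]
    simp only [LinearMap.smul_apply, LinearMap.comp_apply, LinearMap.flip_apply, smul_eq_mul]
    rw [show pr (x : Ud F k) = x by simp [pr, x.2.1, x.2.2],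
      eY', map_smul, smul_eq_mul]
    field_simp
  have hdec : ∀ b, Y₀ b = Tm i ζ (M b) + Tm i d (O.C e (Y₀ b)) := fun b => O.V_ext fun x => by
    have hx : f d (pr x) = 0 ∧ f e (pr x) = 0 := by constructor <;> simp [pr, hd, he, hde, hed]
    have h := eY' ⟨pr x, hx⟩ b
    rw [← hcζ] at h
    have hprx : f ζ (pr x) = f ζ x := by simp [pr, hζd, hζe]
    simp only [hprx] at h
    rw [map_add, show O.C x (Tm i ζ (M b)) = f x ζ • M b from O.C_T x (M b) ζ,
      show O.C x (Tm i d (O.C e (Y₀ b))) = f x d • O.C e (Y₀ b) from O.C_T x _ d, hf.symm ζ x, hf.symm d x, ← h]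
    conv_lhs => rw [show x = pr x + f e x • d + f d x • e by simp [pr]; abel]
    simp only [map_add, map_smul, LinearMap.add_apply, LinearMap.smul_apply, hY₀.1, smul_zero, add_zero]
  choose R hR using fun b => (⟨_, hdec b⟩ : ∃ r, Y₀ b = Tm i ζ (M b) + Tm i d r)
  have hζ0 : ζ ≠ 0 := fun h0 => hx₁ (by rw [← hcζ, h0]; simp)
  -- a partner for every factor
  have hB : ∀ l, ∃ (u : OQ (qU f)) (N : Module.End F (Ud F k)) (ν : F) (v : Ud F k), cj u (Ms l) = ν • N ∧
      v ≠ 0 ∧ ν ≠ 0 ∧ (N (Ms l v) = 0 ∧ Ms l (N v) ≠ 0 ∨ Ms l = 1 ∧ N = 1) := by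
    intro l
    rcases exists_blk hf hk3 (hMs l).1 with h1 | ⟨⟨B⟩⟩
    · exact ⟨1, 1, 1, d, by rw [h1, cj_one, one_smul], hd0, one_ne_zero, Or.inr ⟨h1, rfl⟩⟩
    · refine ⟨B.u, B.N, B.nu, B.P.d, B.cjM, B.P.d_ne, B.nu_ne, Or.inl ⟨by rw [B.Md, map_zero], fun h => ?_⟩⟩
      refine B.P.d_ne ?_
      have h1 := B.Qd
      have h2 : (B.N * Ms l) B.P.d = 0 := by rw [Module.End.mul_apply, B.Md, map_zero]
      have h3 : (Ms l * B.N * (B.N * Ms l)) B.P.d = 0 := by rw [Module.End.mul_apply, h2, map_zero]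
      simp only [LinearMap.sub_apply, LinearMap.add_apply, LinearMap.smul_apply, h2, h3,
        show (Ms l * B.N) B.P.d = 0 from h, smul_zero, add_zero, sub_zero] at h1
      exact h1.symm
  choose us Ns νs vs hus hvs hνs hcase using hB
  obtain ⟨g, hgs, hgl, hg⟩ := exists_slots hf us
  obtain ⟨u₀, zc, dzc, ezc, zzc, hu₀d, hu₀⟩ : ∃ (u₀ : OQ (qU f)) (zc : Ud F k), f d zc = 0 ∧ f e zc = 0 ∧
      f zc zc ≠ 0 ∧ (u₀ : Ud F k ≃ₗ[F] Ud F k) d = d ∧ ∀ (cc : OQ (qU f)) (ε : F), ε * ε = 1 →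
        (∀ y, f d y = 0 → f e y = 0 → f zc y = 0 → (cc : Ud F k ≃ₗ[F] Ud F k) y = y) →
        (cc : Ud F k ≃ₗ[F] Ud F k) zc = ε • zc →
        f ζ ((cc : Ud F k ≃ₗ[F] Ud F k) ((u₀ : Ud F k ≃ₗ[F] Ud F k) ζ)) ≠ 0 := by
    by_cases hζζ : f ζ ζ = 0
    swap
    · refine ⟨1, ζ, hdζ, heζ, hζζ, rfl, fun cc ε hε _ hcc => ?_⟩
      rw [show ((1 : OQ (qU f)) : Ud F k ≃ₗ[F] Ud F k) ζ = ζ from rfl, hcc, map_smul]
      exact mul_ne_zero (fun h => by simp [h] at hε) hζζ
    obtain ⟨y, hyy, hζy⟩ := OrthTensor.exists_iso_partner hf hζζ hζ0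
    set y₁ := y - f e y • d - f d y • e
    have g1 : f d y₁ = 0 := by simp [y₁, hd, hde]
    have g2 : f e y₁ = 0 := by simp [y₁, he, hed]
    have g3 : f ζ y₁ = 1 := by simp [y₁, hζy, hζd, hζe]
    set η := y₁ - (f y₁ y₁ / 2) • ζ
    have n1 : f d η = 0 := by simp [η, g1, hdζ]
    have n2 : f e η = 0 := by simp [η, g2, heζ]
    have n3 : f ζ η = 1 := by simp [η, g3, hζζ]
    have n4 : f η η = 0 := by
      simp only [η, map_sub, map_smul, LinearMap.sub_apply, LinearMap.smul_apply, smul_eq_mul, hζζ, g3,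
        hf.symm ζ y₁]
      field_simp
      ring
    let P' : Fr f := ⟨ζ, η, hζζ, n4, n3⟩
    have n1' : f η d = 0 := by rw [hf.symm, n1]
    have n2' : f η e = 0 := by rw [hf.symm, n2]
    have n3' : f η ζ = 1 := by rw [hf.symm, n3]
    have h4 : 4 ≤ k := by
      let L : Ud F k →ₗ[F] (Fin 4 → F) := LinearMap.pi ![f d, f e, f ζ, f η]
      have hL : Function.Surjective L := fun a =>
        ⟨a 0 • e + a 1 • d + a 2 • η + a 3 • ζ, funext fun j => by
          fin_cases j <;> simp [L, hd, he, hde, hed, hζζ, n4, n3, n3', n1, n2, n1', n2', hdζ, heζ, hζd, hζe]⟩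
      simpa using LinearMap.finrank_le_finrank_of_injective (f := L.dualMap)
        (LinearMap.dualMap_injective_of_surjective hL)
    have h5 : 5 ≤ k := by
      by_contra h5
      obtain ⟨r, hr⟩ := Submodule.mem_span_singleton.1 (C.thin (by omega) d ζ hd hd0 hdζ hζζ)
      rw [← hr, map_smul, smul_eq_mul, hed, mul_one] at heζ
      exact hζ0 (by rw [← hr, heζ, zero_smul])
    set S₁ := Submodule.span F ({d, e} : Set (Ud F k))
    set S₂ := Submodule.span F ({ζ, η} : Set (Ud F k))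
    have hs₁ : finrank F S₁ ≤ 2 := OrthTensor.span_pair_le d e
    have hs₂ : finrank F S₂ ≤ 2 := OrthTensor.span_pair_le ζ η
    have hsum := Submodule.finrank_sup_add_finrank_inf_eq S₁ S₂
    obtain ⟨zc, hzc, hzS⟩ := OrthTensor.exists_aniso_perp hf (S₁ ⊔ S₂) (fun x hx hxP => by
      obtain ⟨p, hp, q, hq, rfl⟩ := Submodule.mem_sup.1 hx
      obtain ⟨a₁, b₁, rfl⟩ := Submodule.mem_span_pair.1 hp
      obtain ⟨a₂, b₂, rfl⟩ := Submodule.mem_span_pair.1 hq
      have e1 := hxP d (Submodule.mem_sup_left (Submodule.subset_span (Set.mem_insert _ _)))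
      have e2 := hxP e (Submodule.mem_sup_left (Submodule.subset_span (Set.mem_insert_of_mem _ rfl)))
      have e3 := hxP ζ (Submodule.mem_sup_right (Submodule.subset_span (Set.mem_insert _ _)))
      have e4 := hxP η (Submodule.mem_sup_right (Submodule.subset_span (Set.mem_insert_of_mem _ rfl)))
      simp [hd, he, hde, hed, hζζ, n4, n3, n3', n1, n2, n1', n2', hdζ, heζ, hζd, hζe] at e1 e2 e3 e4
      rw [e1, e2, e3, e4]
      simp) (by rw [finrank_fin_fun]; omega)
    have z1 := hzS d (Submodule.mem_sup_left (Submodule.subset_span (Set.mem_insert _ _)))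
    have z2 := hzS e (Submodule.mem_sup_left (Submodule.subset_span (Set.mem_insert_of_mem _ rfl)))
    have z4 := hzS η (Submodule.mem_sup_right (Submodule.subset_span (Set.mem_insert_of_mem _ rfl)))
    refine ⟨P'.sw hf one_ne_zero, zc, z1, z2, hzc, P'.sw_perp hf _ hζd n1', fun cc ε _ hfix _ => ?_⟩
    rw [show (P'.sw hf one_ne_zero : Ud F k ≃ₗ[F] Ud F k) ζ = (1 : F) • η from P'.sw_d hf _, one_smul,
      hfix η n1 n2 (by rw [hf.symm]; exact z4), n3]
    exact one_ne_zero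
  obtain ⟨cc, m, ε, hm, hε, c1, -, c3, c4, hcmem⟩ :=
    C.comp i P dzc ezc zzc (slot hf i u₀ * wl hf i g) (mul_mem (slot_mem_slots hf _ _) (wl_mem_slots hf i hgl))
  have hmem : slot hf i cc * (slot hf i u₀ * wl hf i g) ∈ X :=
    C.base _ hcmem ((isStd_slot hf i cc).mul ((isStd_slot hf i u₀).mul (isStd_wl hf hgs)))
  set G := slot hf i cc * (slot hf i u₀ * wl hf i g)
  set uc := cc * u₀
  have emG : ∀ a v, (G : Vt F k (t + 1) ≃ₗ[F] Vt F k (t + 1)) ((Tm i).flip a v) =
      (Tm i).flip (lm g a) (lm uc v) := fun a v => by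
    simp [G, uc, lm, slot_Tm_self, wl_Tm]
  have hucd : lm uc d = m • d := by
    show (cc : Ud F k ≃ₗ[F] Ud F k) ((u₀ : Ud F k ≃ₗ[F] Ud F k) d) = _
    rw [hu₀d]; exact c1
  have hY' := O.rad_conj hY₀ hmem (A := lm g) (A' := lm g⁻¹) (B := lm uc) (ε := m)
    (fun a b => map_frm hf g a b) (fun a => LinearMap.congr_fun (lm_inv_mul g) a) hm hucd emG
  set ζ' := lm uc ζ
  set M' := cj g M
  have hdec' : ∀ b, (m • (((G : Vt F k (t + 1) ≃ₗ[F] Vt F k (t + 1)) : Vt F k (t + 1) →ₗ[F] Vt F k (t + 1)) ∘ₗ Y₀ ∘ₗ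
      lm g⁻¹)) b = m • (Tm i ζ' (M' b) + m • Tm i d (lm g (R (lm g⁻¹ b)))) := fun b => by
    rw [LinearMap.smul_apply, LinearMap.comp_apply, LinearMap.comp_apply, hR, LinearEquiv.coe_coe, map_add,
      show (G : Vt F k (t + 1) ≃ₗ[F] Vt F k (t + 1)) (Tm i ζ (M (lm g⁻¹ b))) = Tm i ζ' (lm g (M (lm g⁻¹ b)))
        from emG _ ζ,
      show (G : Vt F k (t + 1) ≃ₗ[F] Vt F k (t + 1)) (Tm i d (R (lm g⁻¹ b))) =
        Tm i (lm uc d) (lm g (R (lm g⁻¹ b))) from emG _ d, hucd, map_smul, LinearMap.smul_apply]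
    rfl
  have hdζ' : f d ζ' = 0 := by
    have h := map_f hf uc d ζ
    rw [show (uc : Ud F k ≃ₗ[F] Ud F k) d = m • d from hucd, map_smul, LinearMap.smul_apply, smul_eq_mul, hdζ,
      mul_eq_zero] at h
    exact h.resolve_left hm
  have hζζ' : f ζ ζ' ≠ 0 := hu₀ cc ε hε c3 c4
  -- the components commute
  have hcomm : M' * M = M * M' := LinearMap.ext fun b => O.fext fun a => by
    have h := congrArg (frm f t a) (O.rad_comm hd0 hd hY₀ hY' b)
    rw [O.f_adjV, O.f_adjV, hdec', hdec', hR, hR] at h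
    simp only [polar_qT hf, map_add, map_smul, LinearMap.add_apply, LinearMap.smul_apply, frm_Tm hf, hd, hdζ', hf.symm d ζ', hdζ, hζd, smul_eq_mul, mul_zero, zero_mul, add_zero,
      zero_add, hf.symm ζ ζ'] at h
    have hM' : frm f t (M' a) (M b) = frm f t a (M' (M b)) := by
      have hsym : ∀ p q, frm f t (M' p) q = frm f t p (M' q) := fun p q => by
        have hgi : ∀ r, lm g (lm g⁻¹ r) = r := fun r => LinearMap.congr_fun (lm_mul_inv g) r
        show frm f t (lm g (M (lm g⁻¹ p))) q = frm f t p (lm g (M (lm g⁻¹ q)))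
        conv_lhs => rw [← hgi q]
        conv_rhs => rw [← hgi p]
        show frm f t ((g : Vt F k t ≃ₗ[F] Vt F k t) _) ((g : Vt F k t ≃ₗ[F] Vt F k t) _) =
          frm f t ((g : Vt F k t ≃ₗ[F] Vt F k t) _) ((g : Vt F k t ≃ₗ[F] Vt F k t) _)
        rw [map_frm hf, map_frm hf, hMsa]
      exact hsym _ _
    rw [hM', ← hMsa] at h
    rw [Module.End.mul_apply, Module.End.mul_apply]
    refine mul_left_cancel₀ (mul_ne_zero hm hζζ') ?_
    linear_combination -h
  have hM' : M' = (∏ l, νs l) • pmap Ns := by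
    show cj g M = _
    rw [hg, show (fun l => cj (us l) (Ms l)) = fun l => νs l • Ns l from funext hus, pmap_smul_all]
  rw [hM', smul_mul_assoc, mul_smul_comm] at hcomm
  have h := LinearMap.congr_fun
    (smul_right_injective (Module.End F (Vt F k t)) (Finset.prod_ne_zero_iff.2 fun l _ => hνs l) hcomm) (pvec vs)
  rw [pmap_mul', pmap_mul', pmap_pvec, pmap_pvec] at h
  have hz' : pvec (fun l => (Ns l * Ms l) (vs l)) = 0 := pvec_eq_zero_iff.2 ⟨l₁, by
    rcases hcase l₁ with ⟨h1, -⟩ | ⟨h1, -⟩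
    · exact h1
    · exact absurd h1 hl₁⟩
  refine pvec_ne_zero (fun l => ?_) (h.symm.trans hz')
  rcases hcase l with ⟨-, h2⟩ | ⟨h1, h2⟩
  · exact h2
  · rw [h1, h2]; exact hvs l

/-- **Scalars from shifts.** -/
theorem scalar_of_shift (i : Fin (t + 1)) {κ : Module.End F (Vt F k t)}
    (h : ∀ A A', (C.lite i).UEl A A' → ∃ ν : F, ∀ a, A (κ (A' a)) = κ a + ν • a) :
    ∃ μ : F, κ = μ • LinearMap.id := by
  obtain ⟨s, rfl⟩ : ∃ s, t = s + 1 := ⟨t - 1, by have := C.t1; omega⟩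
  refine scalar_of_shift_sv hf C.hk C.hq κ fun l d z hd hz => ?_
  obtain ⟨ν, hν⟩ := h (lm (slot hf l (sU hf hd hz))) (lm (slot hf l (sU hf hd hz))⁻¹)
    ⟨fun a => LinearMap.congr_fun (lm_inv_mul (slot hf l (sU hf hd hz))) a,
      fun a => LinearMap.congr_fun (lm_mul_inv (slot hf l (sU hf hd hz))) a,
      fun a b => map_frm hf _ a b, slot hf (i.succAbove l) (sU hf hd hz),
      C.base _ (slot_sU_mem hf C.five _ hd hz) (isStd_slot hf _ _), fun a y => by
        simp [lm, slot_Tm_succAbove]⟩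
  exact ⟨ν, LinearMap.ext fun a => hν a⟩

end Core

end CfsgLib.Geo.OrthWreath
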