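/-
An element of the overgroup mapping an isotropic line of pure tensors to such a line is standard.
-/
import Cfsg.Agent.Lib.Geo.OrthWreath.Rad
import Cfsg.Agent.Lib.Geo.OrthWreath.LineLite

set_option autoImplicit false
set_option linter.unusedSectionVars false

namespace CfsgLib.Geo.OrthWreath

open CfsgLib.Classical CfsgLib.Classical.Quad Module
open CfsgLib.Known.OmegaCriterion
open CfsgLib.Geo.MixTensor (SymForm)
open CfsgLib.Geo.OrthTensor (Tens sv sv_apply)
open CfsgLib.Geo.TensorWreath (pvec)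
open QuadraticMap (polar polarBilin)
open LinearMap (BilinForm)

variable {F : Type*} [Field F] {k t : ℕ} {f : BilinForm F (Ud F k)}

/-- The vectors orthogonal to a pair form a line in dimension three. -/
theorem perp_line (hf : SymForm f) (hk : k = 3) (P : Fr f) {z : Ud F k} (dz : f P.d z = 0) (ez : f P.e z = 0)
    (zz : f z z ≠ 0) {y : Ud F k} (dy : f P.d y = 0) (ey : f P.e y = 0) : y = (f z y / f z z) • z := by
  subst hk
  have hli : LinearIndependent F ![P.d, P.e, z] := by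
    rw [Fintype.linearIndependent_iff]
    intro a ha
    simp only [Fin.sum_univ_three, Matrix.cons_val_zero, Matrix.cons_val_one, Matrix.cons_val] at ha
    have e1 := congrArg (f P.e) ha
    have e2 := congrArg (f P.d) ha
    have e3 := congrArg (f z) ha
    have hzd : f z P.d = 0 := by rw [hf.symm, dz]
    have hze : f z P.e = 0 := by rw [hf.symm, ez]
    simp [P.dd, P.ee, P.de, P.ed hf, dz, ez] at e1 e2
    simp [hzd, hze, zz] at e3
    intro j
    fin_cases j <;> assumption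
  set w := y - (f z y / f z z) • z
  have hw : w ∈ f.orthogonal ⊤ := by
    rw [← hli.span_eq_top_of_card_eq_finrank' (by simp)]
    intro x hx
    induction hx using Submodule.span_induction with
    | mem x hx =>
      obtain ⟨j, rfl⟩ := hx
      fin_cases j
      · show f P.d w = 0; simp [w, dy, dz]
      · show f P.e w = 0; simp [w, ey, ez]
      · show f z w = 0; simp [w]; field_simp; ring
    | zero => simp [LinearMap.BilinForm.IsOrtho]
    | add a b _ _ ha hb =>
      show f (a + b) w = 0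
      rw [map_add, LinearMap.add_apply, show f a w = 0 from ha, show f b w = 0 from hb, add_zero]
    | smul r a _ ha =>
      show f (r • a) w = 0
      rw [map_smul, LinearMap.smul_apply, show f a w = 0 from ha, smul_zero]
  rw [LinearMap.BilinForm.orthogonal_top_eq_bot hf.nd, Submodule.mem_bot, sub_eq_zero] at hw
  exact hw

/-- The coordinates along a pair. -/
theorem Fr.split (hf : SymForm f) (hk : k = 3) (P : Fr f) {z : Ud F k} (dz : f P.d z = 0) (ez : f P.e z = 0)
    (zz : f z z ≠ 0) (y : Ud F k) : y = f P.e y • P.d + f P.d y • P.e + (f z y / f z z) • z := by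
  obtain ⟨g1, g2⟩ := P.decomp hf y
  have h := perp_line hf hk P dz ez zz g1 g2
  have hzd : f z P.d = 0 := by rw [hf.symm, dz]
  have hze : f z P.e = 0 := by rw [hf.symm, ez]
  simp only [map_sub, map_smul, smul_eq_mul, hzd, hze, mul_zero, sub_zero] at h
  linear_combination (norm := module) h

variable [Finite F]

namespace Core

variable {hf : SymForm f} {X : Subgroup (OQ (qT f (t + 1)))} (C : Core hf X)
include C

theorem liteS (i : Fin (t + 1)) : LiteS (qT f (t + 1)) (frm f t) f (Tm i).flip X where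
  toLite := C.lite i
  comp_scalar := fun hw0 hw _ hY _ hz => C.comp_scalar i hw0 hw hY hz
  scalar_of_shift := fun h => C.scalar_of_shift i h

theorem k1 : 1 ≤ k := by have := C.k3; omega

theorem k2 : 2 ≤ k := by have := C.k3; omega

theorem nontrivW : Nontrivial (Vt F k t) := (C.lite 0).nontrivU

/-- **An element fixing an isotropic line of pure tensors is an element of the factor.** -/
theorem fix_iso {x : OQ (qT f (t + 1))} (hx : x ∈ X) {i : Fin (t + 1)} {d : Ud F k} (hd0 : d ≠ 0)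
    (hd : f d d = 0) (h : ∀ a, (x : Vt F k (t + 1) ≃ₗ[F] Vt F k (t + 1)) (Tm i d a) = Tm i d a) :
    ∃ v : OQ (qU f), x = slot hf i v ∧ (v : Ud F k ≃ₗ[F] Ud F k) d = d := by
  obtain ⟨A, B, e⟩ := (C.liteS i).tens_fixed_line hx hd0 hd (ε := 1) (one_mul 1) fun a => by
    rw [one_smul]; exact h a
  exact fix_line hf C.k2 (C.tens_std hx ⟨B, A, fun u a => e a u⟩) hd0 h

/-- A line of pure tensors goes into the isotropic vectors. -/
theorem line_iso {x : OQ (qT f (t + 1))} {i : Fin (t + 1)} {d d' : Ud F k} (hd0 : d ≠ 0) (hd : f d d = 0)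
    {A : Module.End F (Vt F k t)}
    (h : ∀ a, (x : Vt F k (t + 1) ≃ₗ[F] Vt F k (t + 1)) (Tm i d a) = Tm i d' (A a)) :
    d' ≠ 0 ∧ f d' d' = 0 ∧ Function.Surjective A := by
  have := C.nontrivW
  obtain ⟨a₀, ha₀⟩ := exists_ne (0 : Vt F k t)
  have hA : Function.Injective A := fun p q e => (tensor hf i).T_injective' hd0
    ((x : Vt F k (t + 1) ≃ₗ[F] Vt F k (t + 1)).injective (by rw [h, h, e]))
  have hAs := LinearMap.injective_iff_surjective.1 hA
  refine ⟨fun h0 => ha₀ ((tensor hf i).T_eq_zero' hd0 ((x : Vt F k (t + 1) ≃ₗ[F] Vt F k (t + 1)).injective (by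
    rw [h, h0]; simp))), ?_, hAs⟩
  obtain ⟨b, hb⟩ := (symForm_frm hf (t := t)).exists_aniso
  obtain ⟨a, rfl⟩ := hAs b
  have h1 := map_frm hf x (Tm i d a) (Tm i d a)
  rw [h, frm_Tm hf, frm_Tm hf, hd, zero_mul, mul_eq_zero] at h1
  exact h1.resolve_right hb

/-- The eigenvectors of an element of one factor. -/
theorem mem_eigen {i : Fin (t + 1)} {v : OQ (qU f)} {l : F} {c : Ud F k}
    (hc : ∀ y, (v : Ud F k ≃ₗ[F] Ud F k) y = l • y → ∃ s : F, y = s • c) (hc0 : c ≠ 0) {p : Vt F k (t + 1)}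
    (hp : (slot hf i v : Vt F k (t + 1) ≃ₗ[F] Vt F k (t + 1)) p = l • p) :
    ∃ b, p = Tm i c b := by
  set D := tensor hf i
  obtain ⟨w, hw⟩ : ∃ w, f w c = 1 := by
    obtain ⟨w, hw⟩ : ∃ w, f w c ≠ 0 := by
      by_contra! h
      exact hc0 (hf.nd.2 c h)
    exact ⟨(f w c)⁻¹ • w, by simp [hw]⟩
  refine ⟨D.flip.C w p, D.V_ext fun r => ?_⟩
  have hC : D.C r ((slot hf i v : Vt F k (t + 1) ≃ₗ[F] Vt F k (t + 1)) p) =
      (v : Ud F k ≃ₗ[F] Ud F k) (D.C r p) :=
    LinearMap.congr_fun (D.hom_ext (L := D.C r ∘ₗ lm (slot hf i v)) (L' := lm v ∘ₗ D.C r) fun b q => by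
      simp [lm, slot_Tm_self, D.C_T]) p
  obtain ⟨s, hs⟩ := hc (D.C r p) (by rw [← hC, hp, map_smul])
  have e : frm f t r (D.flip.C w p) = s := by
    calc frm f t r (D.flip.C w p) = polar (qT f (t + 1)) (Tm i w r) p := D.flip.f_C r w p
      _ = f w (D.C r p) := (D.f_C w r p).symm
      _ = s := by rw [hs, map_smul, smul_eq_mul, hw, mul_one]
  rw [D.C_T, e, hs]

/-- An eigenline of a factor goes to an eigenline. -/
theorem eigen_line {x : OQ (qT f (t + 1))} {i : Fin (t + 1)} {u v : OQ (qU f)}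
    (hxu : x * slot hf i u * x⁻¹ = slot hf i v) {l : F} {c : Ud F k} (hc0 : c ≠ 0)
    (hc : (u : Ud F k ≃ₗ[F] Ud F k) c = l • c)
    (hcu : ∀ y, (u : Ud F k ≃ₗ[F] Ud F k) y = l • y → ∃ s : F, y = s • c) :
    ∃ (c' : Ud F k) (G : Module.End F (Vt F k t)), c' ≠ 0 ∧ (v : Ud F k ≃ₗ[F] Ud F k) c' = l • c' ∧
      (∀ a, (x : Vt F k (t + 1) ≃ₗ[F] Vt F k (t + 1)) (Tm i c a) = Tm i c' (G a)) := by
  have := C.nontrivW
  set D := tensor hf i
  obtain ⟨a₀, ha₀⟩ := exists_ne (0 : Vt F k t)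
  have hxv : ∀ q, (slot hf i v : Vt F k (t + 1) ≃ₗ[F] Vt F k (t + 1))
      ((x : Vt F k (t + 1) ≃ₗ[F] Vt F k (t + 1)) q) =
      (x : Vt F k (t + 1) ≃ₗ[F] Vt F k (t + 1)) ((slot hf i u : Vt F k (t + 1) ≃ₗ[F] Vt F k (t + 1)) q) := fun q => by
    rw [← LinearEquiv.mul_apply, ← LinearEquiv.mul_apply, ← Subgroup.coe_mul, ← Subgroup.coe_mul, ← hxu,
      inv_mul_cancel_right]
  set E : Submodule F (Ud F k) := LinearMap.ker (lm v - l • LinearMap.id)
  have hE : ∀ y, y ∈ E ↔ (v : Ud F k ≃ₗ[F] Ud F k) y = l • y := fun y => by simp [E, lm, sub_eq_zero]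
  -- the eigenspace of the image
  have hone : ∀ y₁ ∈ E, ∀ y₂ ∈ E, y₁ ≠ 0 → ∃ s : F, y₂ = s • y₁ := by
    intro y₁ h1 y₂ h2 h10
    by_contra hno
    push Not at hno
    let L : Vt F k t × Vt F k t →ₗ[F] Vt F k (t + 1) :=
      ((x : Vt F k (t + 1) ≃ₗ[F] Vt F k (t + 1)).symm : Vt F k (t + 1) →ₗ[F] Vt F k (t + 1)) ∘ₗ
        LinearMap.coprod (Tm i y₁) (Tm i y₂)
    have hL : ∀ q, ∃ b, L q = Tm i c b := by
      intro q
      refine C.mem_eigen (v := u) hcu hc0 ((x : Vt F k (t + 1) ≃ₗ[F] Vt F k (t + 1)).injective ?_)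
      rw [← hxv, map_smul]
      simp [L, slot_Tm_self, (hE y₁).1 h1, (hE y₂).1 h2]
    have hinj : Function.Injective L := (injective_iff_map_eq_zero L).2 fun ⟨p, q⟩ h0 => by
      have h3 : Tm i y₁ p + Tm i y₂ q = 0 := (x : Vt F k (t + 1) ≃ₗ[F] Vt F k (t + 1)).symm.injective (by
        rw [map_zero, map_add]; simpa [L] using h0)
      have h4 : ∀ r, frm f t r p • y₁ + frm f t r q • y₂ = 0 := fun r => by
        have h5 := congrArg (D.C r) h3
        rwa [map_add, D.C_T, D.C_T, map_zero] at h5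
      have hq : q = 0 := (frm_nondeg hf).2 _ fun r => by
        by_contra hr
        refine hno (-(frm f t r p / frm f t r q)) ?_
        have := h4 r
        rw [neg_smul, eq_neg_iff_add_eq_zero, div_eq_inv_mul, mul_smul]
        calc y₂ + (frm f t r q)⁻¹ • frm f t r p • y₁
            = (frm f t r q)⁻¹ • (frm f t r p • y₁ + frm f t r q • y₂) := by
              rw [smul_add, inv_smul_smul₀ hr, add_comm]
          _ = 0 := by rw [this, smul_zero]
      have hp : p = 0 := (frm_nondeg hf).2 _ fun r => by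
        have := h4 r
        rw [hq, map_zero, zero_smul, add_zero, smul_eq_zero] at this
        exact this.resolve_right h10
      simp [hp, hq]
    have h5 : finrank F (LinearMap.range L) ≤ finrank F (LinearMap.range (Tm i c : Vt F k t →ₗ[F] Vt F k (t + 1))) :=
      Submodule.finrank_mono (by rintro _ ⟨q, rfl⟩; obtain ⟨b, hb⟩ := hL q; exact ⟨b, hb.symm⟩)
    rw [LinearMap.finrank_range_of_inj hinj, Module.finrank_prod] at h5
    have h6 := h5.trans (LinearMap.finrank_range_le _)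
    have : 0 < finrank F (Vt F k t) := Module.finrank_pos
    omega
  -- contractions of the image
  set Z : Vt F k t →ₗ[F] Vt F k (t + 1) := lm x ∘ₗ Tm i c
  have hZ : ∀ a r, D.C r (Z a) ∈ E := fun a r => by
    have hC : D.C r ((slot hf i v : Vt F k (t + 1) ≃ₗ[F] Vt F k (t + 1)) (Z a)) =
        (v : Ud F k ≃ₗ[F] Ud F k) (D.C r (Z a)) :=
      LinearMap.congr_fun (D.hom_ext (L := D.C r ∘ₗ lm (slot hf i v)) (L' := lm v ∘ₗ D.C r) fun b q => by
        simp [lm, slot_Tm_self, D.C_T]) (Z a)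
    rw [hE, ← hC, show Z a = (x : Vt F k (t + 1) ≃ₗ[F] Vt F k (t + 1)) (Tm i c a) from rfl, hxv, slot_Tm_self, hc,
      map_smul (Tm i) l c, LinearMap.smul_apply, map_smul, map_smul]
  obtain ⟨c', hc', hc'0⟩ : ∃ c' ∈ E, c' ≠ 0 := by
    by_contra! h
    refine ha₀ (D.T_eq_zero' hc0 ((x : Vt F k (t + 1) ≃ₗ[F] Vt F k (t + 1)).injective ?_))
    rw [map_zero]
    exact D.V_ext fun r => by rw [map_zero]; exact h _ (hZ a₀ r)
  obtain ⟨w, hw⟩ : ∃ w, f w c' = 1 := by
    obtain ⟨w, hw⟩ : ∃ w, f w c' ≠ 0 := by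
      by_contra! h
      exact hc'0 (hf.nd.2 c' h)
    exact ⟨(f w c')⁻¹ • w, by simp [hw]⟩
  refine ⟨c', D.flip.C w ∘ₗ Z, hc'0, (hE c').1 hc', fun a => D.V_ext fun r => ?_⟩
  obtain ⟨s, hs⟩ := hone c' hc' (D.C r (Z a)) (hZ a r) hc'0
  have e : frm f t r (D.flip.C w (Z a)) = s := by
    calc frm f t r (D.flip.C w (Z a)) = polar (qT f (t + 1)) (Tm i w r) (Z a) := D.flip.f_C r w (Z a)
      _ = f w (D.C r (Z a)) := (D.f_C w r (Z a)).symm
      _ = s := by rw [hs, map_smul, smul_eq_mul, hw, mul_one]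
  rw [LinearMap.comp_apply, D.C_T, e, ← hs]
  rfl

/-- The map of a line is proportional to the map of an anisotropic line orthogonal to it. -/
theorem line_prop {x : OQ (qT f (t + 1))} (hx : x ∈ X) {i : Fin (t + 1)} {d d' z z' : Ud F k} (hd0 : d ≠ 0)
    (hd : f d d = 0) (hdz : f d z = 0) (hz : f z z ≠ 0) {A G : Module.End F (Vt F k t)}
    (hA : ∀ a, (x : Vt F k (t + 1) ≃ₗ[F] Vt F k (t + 1)) (Tm i d a) = Tm i d' (A a))
    (hG : ∀ a, (x : Vt F k (t + 1) ≃ₗ[F] Vt F k (t + 1)) (Tm i z a) = Tm i z' (G a)) :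
    f z' z' ≠ 0 ∧ (∀ a b, f z' z' * frm f t (G a) (G b) = f z z * frm f t a b) ∧ f d' z' = 0 ∧
      ∃ r : F, r ≠ 0 ∧ A = r • G := by
  have := C.nontrivW
  obtain ⟨hd'0, hd', hAs⟩ := C.line_iso hd0 hd hA
  have hGG : ∀ a b, f z' z' * frm f t (G a) (G b) = f z z * frm f t a b := fun a b => by
    rw [← frm_Tm hf i, ← hG, ← hG, map_frm hf, frm_Tm hf]
  have hz' : f z' z' ≠ 0 := fun h0 => by
    obtain ⟨b, hb⟩ := (symForm_frm hf (t := t)).exists_aniso
    have := hGG b b
    rw [h0, zero_mul] at this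
    exact mul_ne_zero hz hb this.symm
  have hGs : Function.Surjective G := LinearMap.injective_iff_surjective.1 fun p q e => by
    refine sub_eq_zero.1 ((frm_nondeg hf).1 _ fun b => ?_)
    have h1 := hGG (p - q) b
    rw [map_sub G, e, sub_self, map_zero, LinearMap.zero_apply, mul_zero, zero_eq_mul] at h1
    exact h1.resolve_left hz
  have hd'z' : f d' z' = 0 := by
    obtain ⟨b, hb⟩ := (symForm_frm hf (t := t)).exists_aniso
    obtain ⟨p, rfl⟩ := hAs b
    obtain ⟨q, hq⟩ := hGs (A p)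
    have h := map_frm hf x (Tm i d p) (Tm i z q)
    rw [hA, hG, hq, frm_Tm hf, frm_Tm hf, hdz, zero_mul, mul_eq_zero] at h
    exact h.resolve_right hb
  refine ⟨hz', hGG, hd'z', ?_⟩
  set L := C.liteS i
  obtain ⟨μ, hμ⟩ := L.map_scalar hx hd0 hd hd'0 hd' (A := A) hA hdz hd'z'
  set As := (frm f t).leftAdjointOfNondegenerate L.hf.nd A
  have hAdj : ∀ a b, frm f t (As a) b = frm f t a (A b) := fun a b =>
    LinearMap.BilinForm.isAdjointPairLeftAdjointOfNondegenerate (frm f t) L.hf.nd A a b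
  have h1 : ∀ b, f z' z' • G (As b) = μ • b := fun b => by
    have h := hμ b
    rw [show (x : Vt F k (t + 1) ≃ₗ[F] Vt F k (t + 1)) ((Tm i).flip (As b) z) = (Tm i).flip (G (As b)) z' from hG _,
      L.C_T] at h
    exact h
  have h3 : ∀ a b, f z z * frm f t a (A b) = μ * frm f t a (G b) := by
    intro a b
    rw [← hAdj, ← hGG]
    rw [← smul_eq_mul (f z' z') (frm f t (G (As a)) (G b)), ← LinearMap.smul_apply, ← map_smul, h1, map_smul,
      LinearMap.smul_apply, smul_eq_mul]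
  refine ⟨μ / f z z, fun h0 => ?_, LinearMap.ext fun b => sub_eq_zero.1 ((frm_nondeg hf).2 _ fun a => ?_)⟩
  · obtain ⟨b, hb⟩ := (symForm_frm hf (t := t)).exists_aniso
    obtain ⟨p, rfl⟩ := hAs b
    have h := h3 (A p) p
    rw [div_eq_zero_iff] at h0
    rw [h0.resolve_right hz, zero_mul, mul_eq_zero] at h
    exact hb (h.resolve_left hz)
  · simp only [map_sub, LinearMap.smul_apply, map_smul, smul_eq_mul]
    field_simp
    linear_combination h3 a b

theorem line_five (hk : 5 ≤ k) {x : OQ (qT f (t + 1))} (hx : x ∈ X) {i : Fin (t + 1)} {d d' : Ud F k}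
    (hd0 : d ≠ 0) (hd : f d d = 0) {A : Module.End F (Vt F k t)}
    (h : ∀ a, (x : Vt F k (t + 1) ≃ₗ[F] Vt F k (t + 1)) (Tm i d a) = Tm i d' (A a)) : IsStd x := by
  classical
  have := C.nontrivW
  set L := C.liteS i
  set D := tensor hf i
  have step : ∀ (d : Ud F k), d ≠ 0 → f d d = 0 → ∀ (d' : Ud F k) (A : Module.End F (Vt F k t)),
      (∀ a, (x : Vt F k (t + 1) ≃ₗ[F] Vt F k (t + 1)) (Tm i d a) = Tm i d' (A a)) →
      ∀ (a : Ud F k), a ≠ 0 → f a a = 0 → f d a = 0 → (∃ z, f a z = 0 ∧ f d z = 0 ∧ f z z ≠ 0) →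
      ∃ (a' : Ud F k) (A' : Module.End F (Vt F k t)), a' ≠ 0 ∧ Function.Surjective A' ∧
        ∀ b, (x : Vt F k (t + 1) ≃ₗ[F] Vt F k (t + 1)) (Tm i a b) = Tm i a' (A' b) := by
    intro d hd0 hd d' A h a ha0 ha hda ⟨z, haz, hdz, hz⟩
    obtain ⟨hd'0, hd', hAs⟩ := C.line_iso hd0 hd h
    set σ := slot hf i (sU hf ha haz)
    have hσ : σ ∈ X := C.base _ (slot_sU_mem hf C.five _ ha haz) (isStd_slot hf _ _)
    obtain ⟨v, hv, -⟩ := C.fix_iso (x := x * σ * x⁻¹) (X.mul_mem (X.mul_mem hx hσ) (X.inv_mem hx)) hd'0 hd'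
      (fun b => by
        obtain ⟨p, rfl⟩ := hAs b
        show (x : Vt F k (t + 1) ≃ₗ[F] Vt F k (t + 1)) ((σ : Vt F k (t + 1) ≃ₗ[F] Vt F k (t + 1))
          ((x : Vt F k (t + 1) ≃ₗ[F] Vt F k (t + 1)).symm (Tm i d' (A p)))) = _
        rw [← h, LinearEquiv.symm_apply_apply, slot_Tm_self,
          sU_fix hf ha haz (by rw [hf.symm]; exact hda) (by rw [hf.symm]; exact hdz)])
    obtain ⟨A', a', ha', hmap⟩ := L.line_of_siegel (x := x) (σ := σ) ha0 ha haz hz
      (fun p y => by rw [LinearMap.flip_apply, LinearMap.flip_apply, slot_Tm_self, sU, mkU_apply])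
      (B := lm v) (fun p y => by rw [hv, LinearMap.flip_apply, LinearMap.flip_apply, slot_Tm_self]; rfl)
    obtain ⟨h1, -, h3⟩ := C.line_iso ha0 ha (d' := a') (A := A') (fun b => hmap b)
    exact ⟨a', A', h1, h3, fun b => hmap b⟩
  obtain ⟨e, he, hde⟩ := OrthTensor.exists_iso_partner hf hd hd0
  let P : Fr f := ⟨d, e, hd, he, hde⟩
  have hed : f e d = 1 := P.ed hf
  obtain ⟨Q, q1, q2, -, -⟩ := P.exists_second hf hk
  obtain ⟨hd'0, hd', hAs⟩ := C.line_iso hd0 hd h
  -- vectors orthogonal to two orthogonal isotropic vectors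
  have exz : ∀ p q : Ud F k, f p p = 0 → f q q = 0 → f p q = 0 → ∃ z, f p z = 0 ∧ f q z = 0 ∧ f z z ≠ 0 := by
    intro p q hp hq hpq
    set K := f.orthogonal (Submodule.span F ({p, q} : Set (Ud F k)))
    obtain ⟨z, hz, hzz⟩ := hf.exists_aniso_mem K (by
      rw [LinearMap.BilinForm.finrank_orthogonal hf.nd, finrank_fin_fun]
      have := OrthTensor.span_pair_le (F := F) p q
      omega)
    exact ⟨z, hz _ (Submodule.subset_span (Set.mem_insert _ _)),
      hz _ (Submodule.subset_span (Set.mem_insert_of_mem _ rfl)), hzz⟩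
  have prop : ∀ (d : Ud F k), d ≠ 0 → f d d = 0 → ∀ (d' : Ud F k) (A : Module.End F (Vt F k t)),
      (∀ a, (x : Vt F k (t + 1) ≃ₗ[F] Vt F k (t + 1)) (Tm i d a) = Tm i d' (A a)) →
      ∀ a, f a a = 0 → f d a = 0 → (∀ c : F, a ≠ c • d) →
      ∃ a', ∀ b, (x : Vt F k (t + 1) ≃ₗ[F] Vt F k (t + 1)) (Tm i a b) = Tm i a' (A b) := by
    intro d hd0 hd d' A h a ha hda hind
    have ha0 : a ≠ 0 := fun h0 => hind 0 (by rw [h0, zero_smul])
    obtain ⟨hd'0, hd', hAs⟩ := C.line_iso hd0 hd h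
    obtain ⟨a', A', ha'0, hA's, e'⟩ := step d hd0 hd d' A h a ha0 ha hda (exz a d ha hd (by rw [hf.symm, hda]))
    have hs0 : d + a ≠ 0 := fun h0 => hind (-1) (by rw [neg_one_smul]; exact eq_neg_of_add_eq_zero_right h0)
    have hss : f (d + a) (d + a) = 0 := by simp [hd, ha, hda, hf.symm d a]
    obtain ⟨c', B, -, -, e''⟩ := step d hd0 hd d' A h (d + a) hs0 hss (by simp [hd, hda]) (by
      obtain ⟨z, g1, g2, g3⟩ := exz a d ha hd (by rw [hf.symm, hda])
      exact ⟨z, by simp [g1, g2], g2, g3⟩)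
    have hsum : ∀ b, Tm i d' (A b) + Tm i a' (A' b) = Tm i c' (B b) := fun b => by
      rw [← h, ← e', ← e'', ← map_add, ← LinearMap.add_apply, ← map_add]
    -- independence of the images
    have hnot : ∀ c : F, a' ≠ c • d' := by
      intro c hc
      obtain ⟨p, hp⟩ := exists_ne (0 : Vt F k t)
      obtain ⟨q, hq⟩ := hAs (c • A' p)
      have h1 : Tm i d q = Tm i a p := (x : Vt F k (t + 1) ≃ₗ[F] Vt F k (t + 1)).injective (by
        rw [h, e', hq, hc, map_smul, map_smul, LinearMap.smul_apply])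
      obtain ⟨r, hr⟩ := D.exists_partner hp
      have h2 := congrArg (D.C r) h1
      rw [D.C_T, D.C_T, hr, one_smul] at h2
      exact hind _ h2.symm
    have hnot' : d' ∉ Submodule.span F ({a'} : Set (Ud F k)) := fun hm => by
      obtain ⟨s, hs⟩ := Submodule.mem_span_singleton.1 hm
      by_cases h0 : s = 0
      · rw [h0, zero_smul] at hs; exact hd'0 hs.symm
      · exact hnot s⁻¹ (by rw [← hs, inv_smul_smul₀ h0])
    have hnot'' : a' ∉ Submodule.span F ({d'} : Set (Ud F k)) := fun hm => by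
      obtain ⟨s, hs⟩ := Submodule.mem_span_singleton.1 hm
      exact hnot s hs.symm
    obtain ⟨v₁, g1, g2⟩ := Bilin.exists_sep hf.nd hnot'
    obtain ⟨v₂, g3, g4⟩ := Bilin.exists_sep hf.nd hnot''
    rw [hf.symm] at g1 g3
    have g2' : f v₁ a' = 0 := by rw [hf.symm]; exact g2 _ (Submodule.mem_span_singleton_self a')
    have g4' : f v₂ d' = 0 := by rw [hf.symm]; exact g4 _ (Submodule.mem_span_singleton_self d')
    have k1 : ∀ b, f v₁ c' • B b = A b := fun b => by
      have h := congrArg (D.flip.C v₁) (hsum b)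
      simp only [map_add, show ∀ u w, D.flip.C v₁ (Tm i u w) = f v₁ u • w from fun u w => D.flip.C_T v₁ w u,
        g1, g2', one_smul, zero_smul, add_zero] at h
      exact h.symm
    have k2 : ∀ b, f v₂ c' • B b = A' b := fun b => by
      have h := congrArg (D.flip.C v₂) (hsum b)
      simp only [map_add, show ∀ u w, D.flip.C v₂ (Tm i u w) = f v₂ u • w from fun u w => D.flip.C_T v₂ w u,
        g3, g4', one_smul, zero_smul, zero_add] at h
      exact h.symm
    refine ⟨(f v₂ c' / f v₁ c') • a', fun b => ?_⟩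
    have hv1 : f v₁ c' ≠ 0 := fun h0 => by
      obtain ⟨p, hp⟩ := exists_ne (0 : Vt F k t)
      obtain ⟨q, hq⟩ := hAs p
      have := k1 q
      rw [h0, zero_smul, hq] at this
      exact hp this.symm
    rw [e', ← k2, ← k1]
    simp [smul_smul, div_mul_cancel₀ _ hv1, map_smul]
    field_simp
  have q1' : f Q.d d = 0 := by rw [hf.symm]; exact q1
  have q2' : f Q.d e = 0 := by rw [hf.symm]; exact q2
  have hind : ∀ c : F, Q.d ≠ c • d := fun c hc => by
    have h' := congrArg (f e) hc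
    rw [map_smul, smul_eq_mul, hed, mul_one, show f e Q.d = 0 from q2] at h'
    rw [← h', zero_smul] at hc
    exact Q.d_ne hc
  obtain ⟨a', ea⟩ := prop d hd0 hd d' A h Q.d Q.dd q1 hind
  obtain ⟨e', ee⟩ := prop Q.d Q.d_ne Q.dd a' A ea e he q2' (fun c hc => by
    have h' := congrArg (f d) hc
    rw [hde, map_smul, smul_eq_mul, show f d Q.d = 0 from q1, mul_zero] at h'
    exact one_ne_zero h')
  obtain ⟨-, he', -⟩ := C.line_iso P.e_ne he ee
  obtain ⟨A₀, B₀, e₀⟩ := L.tens_two_lines hx hd he hde hd' he' (fun b => h b) (fun b => ee b)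
  exact C.tens_std hx ⟨B₀, A₀, fun u b => e₀ b u⟩

end Core

end CfsgLib.Geo.OrthWreath
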