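/-
An element mapping an isotropic line of pure tensors to such a line is standard: dimension three.
-/
import Cfsg.Agent.Lib.Geo.OrthWreath.Line

set_option autoImplicit false
set_option linter.unusedSectionVars false

namespace CfsgLib.Geo.OrthWreath

open CfsgLib.Classical CfsgLib.Classical.Quad Module
open CfsgLib.Known.OmegaCriterion
open CfsgLib.Geo.MixTensor (SymForm)
open CfsgLib.Geo.OrthTensor (Tens sv sv_apply)
open CfsgLib.Geo.TensorWreath (pvec)
open QuadraticMap (polar polarBilin)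
open LinearMap (BilinForm)

variable {F : Type*} [Field F] {k t : ℕ} {f : BilinForm F (Ud F k)}

/-- A pair containing an isotropic vector and orthogonal to an orthogonal anisotropic one. -/
theorem exists_frame_perp (hf : SymForm f) {d z : Ud F k} (hd0 : d ≠ 0) (hd : f d d = 0) (hdz : f d z = 0)
    (hz : f z z ≠ 0) : ∃ P : Fr f, P.d = d ∧ f P.e z = 0 := by
  have h2 := hf.two
  obtain ⟨e₀, he, hde⟩ := OrthTensor.exists_iso_partner hf hd hd0
  set r := f e₀ z / f z z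
  refine ⟨⟨d, e₀ - r • z + (-(r * r * f z z) / 2 + r * f e₀ z) • d, hd, ?_, ?_⟩, rfl, ?_⟩
  · simp only [map_add, map_sub, map_smul, LinearMap.add_apply, LinearMap.sub_apply, LinearMap.smul_apply,
      smul_eq_mul, he, hd, hde, hdz, hf.symm d e₀, hf.symm d z, hf.symm e₀ z]
    field_simp
    ring
  · simp [hd, hdz, hde]
  · simp [hdz, r, hz]

/-- An isometry is determined by a pair and a vector orthogonal to it. -/
theorem eq_one_of_frame (hf : SymForm f) (hk : k = 3) (P : Fr f) {z : Ud F k} (dz : f P.d z = 0)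
    (ez : f P.e z = 0) (zz : f z z ≠ 0) {v : OQ (qU f)} (hd : (v : Ud F k ≃ₗ[F] Ud F k) P.d = P.d)
    (hz : (v : Ud F k ≃ₗ[F] Ud F k) z = z) : v = 1 := by
  have h2 := hf.two
  set y := (v : Ud F k ≃ₗ[F] Ud F k) P.e
  have h1 : f P.d y = 1 := by
    have := map_f hf v P.d P.e
    rwa [hd, P.de] at this
  have h3 : f z y = 0 := by
    have := map_f hf v z P.e
    rwa [hz, hf.symm P.e z, ez] at this
  have h4 : y = f P.e y • P.d + P.e := by
    conv_lhs => rw [P.split hf hk dz ez zz y, h1, h3]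
    simp
  have h5 : f P.e y = 0 := by
    have h := map_f hf v P.e P.e
    rw [P.ee, show (v : Ud F k ≃ₗ[F] Ud F k) P.e = y from rfl, h4] at h
    simp [P.dd, P.ee, P.de, P.ed hf] at h
    exact mul_left_cancel₀ h2 (by linear_combination h)
  rw [h5, zero_smul, zero_add] at h4
  refine qU_ext hf fun a => ?_
  rw [P.split hf hk dz ez zz a]
  simp [hd, hz, show (v : Ud F k ≃ₗ[F] Ud F k) P.e = P.e from h4]

/-- An isometry between two pairs with orthogonal vectors. -/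
theorem exists_map_frame (hf : SymForm f) (hk : k = 3) (P P' : Fr f) {z z' : Ud F k} (dz : f P.d z = 0)
    (ez : f P.e z = 0) (zz : f z z ≠ 0) (dz' : f P'.d z' = 0) (ez' : f P'.e z' = 0) (hzz : f z' z' = f z z) :
    ∃ u : OQ (qU f), (u : Ud F k ≃ₗ[F] Ud F k) P.d = P'.d ∧ (u : Ud F k ≃ₗ[F] Ud F k) z = z' := by
  set A : Module.End F (Ud F k) := (f P.e).smulRight P'.d + (f P.d).smulRight P'.e +
    ((f z z)⁻¹ • f z).smulRight z'
  have hA : ∀ y, A y = f P.e y • P'.d + f P.d y • P'.e + ((f z z)⁻¹ * f z y) • z' := fun y => by simp [A]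
  refine ⟨mkU hf (A := A) fun a b => ?_, ?_, ?_⟩
  · conv_rhs => rw [P.split hf hk dz ez zz a, P.split hf hk dz ez zz b]
    simp only [hA, map_add, map_smul, LinearMap.add_apply, LinearMap.smul_apply, smul_eq_mul, P.dd, P.ee, P.de,
      P.ed hf, P'.dd, P'.ee, P'.de, P'.ed hf, dz, ez, dz', ez', hf.symm P.d z, hf.symm P.e z, hf.symm P'.d z',
      hf.symm P'.e z', hzz]
    field_simp
  · rw [mkU_apply, hA, P.dd, P.ed hf, hf.symm P.d z, dz]; simp
  · rw [mkU_apply, hA, dz, ez]; simp [zz]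

/-- A map vanishing on the tensors of the vectors of an adapted basis is zero. -/
theorem ext_letters (hf : SymForm f) (hk : k = 3) (P : Fr f) {z : Ud F k} (dz : f P.d z = 0) (ez : f P.e z = 0)
    (zz : f z z ≠ 0) {M : Type*} [AddCommGroup M] [Module F M] {L : Vt F k t →ₗ[F] M}
    (h : ∀ c : Fin t → Fin 3, L (pvec fun l => ![P.d, P.e, z] (c l)) = 0) : L = 0 := by
  classical
  refine pvec_ext fun ξ => ?_
  rw [LinearMap.zero_apply]
  suffices H : ∀ (s : Finset (Fin t)) (ξ : Fin t → Ud F k), (∀ l, l ∉ s → ∃ j, ξ l = ![P.d, P.e, z] j) →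
      L (pvec ξ) = 0 from H Finset.univ ξ fun l hl => absurd (Finset.mem_univ l) hl
  intro s
  induction s using Finset.induction with
  | empty =>
    intro ξ hξ
    choose c hc using fun l => hξ l (Finset.notMem_empty l)
    rw [show ξ = fun l => ![P.d, P.e, z] (c l) from funext hc]
    exact h c
  | @insert a s has ih =>
    intro ξ hξ
    have hj : ∀ j, L (pvec (Function.update ξ a (![P.d, P.e, z] j))) = 0 := fun j => ih _ fun l hl => by
      by_cases hla : l = a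
      · subst hla; exact ⟨j, Function.update_self ..⟩
      · rw [Function.update_of_ne hla]
        exact hξ l (by simp [hla, hl])
    rw [← Function.update_eq_self a ξ, P.split hf hk dz ez zz (ξ a), pvec_update_add, pvec_update_add,
      pvec_update_smul, pvec_update_smul, pvec_update_smul]
    simp only [map_add, map_smul]
    have h0 : L (pvec (Function.update ξ a P.d)) = 0 := hj 0
    have h1 : L (pvec (Function.update ξ a P.e)) = 0 := hj 1
    have h2 : L (pvec (Function.update ξ a z)) = 0 := hj 2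
    rw [h0, h1, h2]
    simp

variable [Finite F]

/-- An element acting on two lines of pure tensors as given. -/
structure Nrm (i : Fin (t + 1)) (d z : Ud F k) (x : OQ (qT f (t + 1))) (g : OQ (qT f t)) (r s : F) : Prop where
  r0 : r ≠ 0
  s0 : s ≠ 0
  hd : ∀ a, (x : Vt F k (t + 1) ≃ₗ[F] Vt F k (t + 1)) (Tm i d a) =
    Tm i d (r • (g : Vt F k t ≃ₗ[F] Vt F k t) a)
  hz : ∀ a, (x : Vt F k (t + 1) ≃ₗ[F] Vt F k (t + 1)) (Tm i z a) =
    Tm i z (s • (g : Vt F k t ≃ₗ[F] Vt F k t) a)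

namespace Nrm

variable {i : Fin (t + 1)} {d z : Ud F k}

theorem one : Nrm (f := f) i d z 1 1 1 1 :=
  ⟨one_ne_zero, one_ne_zero, fun a => by simp, fun a => by simp⟩

theorem mul {x y : OQ (qT f (t + 1))} {g h : OQ (qT f t)} {r s r' s' : F} (hx : Nrm i d z x g r s)
    (hy : Nrm i d z y h r' s') : Nrm i d z (x * y) (g * h) (r * r') (s * s') where
  r0 := mul_ne_zero hx.r0 hy.r0
  s0 := mul_ne_zero hx.s0 hy.s0
  hd a := by
    simp only [Subgroup.coe_mul, LinearEquiv.mul_apply, hy.hd, hx.hd, map_smul, smul_smul, mul_comm r r']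
  hz a := by
    simp only [Subgroup.coe_mul, LinearEquiv.mul_apply, hy.hz, hx.hz, map_smul, smul_smul, mul_comm s s']

theorem inv {x : OQ (qT f (t + 1))} {g : OQ (qT f t)} {r s : F} (hx : Nrm i d z x g r s) :
    Nrm i d z x⁻¹ g⁻¹ r⁻¹ s⁻¹ where
  r0 := inv_ne_zero hx.r0
  s0 := inv_ne_zero hx.s0
  hd a := by
    refine (x : Vt F k (t + 1) ≃ₗ[F] Vt F k (t + 1)).injective ?_
    rw [hx.hd]
    simp [hx.r0, Subgroup.coe_inv, smul_smul]
  hz a := by
    refine (x : Vt F k (t + 1) ≃ₗ[F] Vt F k (t + 1)).injective ?_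
    rw [hx.hz]
    simp [hx.s0, Subgroup.coe_inv, smul_smul]

end Nrm

namespace Ctx

variable {hf : SymForm f} {X : Subgroup (OQ (qT f (t + 1)))} (C : Ctx hf X)
include C

/-- The image of the third line. -/
theorem nrm_shape (hk : k = 3) {i : Fin (t + 1)} (P : Fr f) {z : Ud F k} (dz : f P.d z = 0) (ez : f P.e z = 0)
    (zz : f z z ≠ 0) {x : OQ (qT f (t + 1))} {g : OQ (qT f t)} {r s : F} (h : Nrm i P.d z x g r s) :
    ∃ φ : Module.End F (Vt F k t), (∀ a, (x : Vt F k (t + 1) ≃ₗ[F] Vt F k (t + 1)) (Tm i P.e a) =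
      Tm i P.e (r⁻¹ • (g : Vt F k t ≃ₗ[F] Vt F k t) a) + Tm i P.d (φ a)) ∧
      ∀ a, frm f t ((g : Vt F k t ≃ₗ[F] Vt F k t) a) (φ a) = 0 := by
  set D := tensor hf i
  refine ⟨D.flip.C P.e ∘ₗ lm x ∘ₗ Tm i P.e, ?_⟩
  set φ := D.flip.C P.e ∘ₗ lm x ∘ₗ Tm i P.e
  have key : ∀ a, (x : Vt F k (t + 1) ≃ₗ[F] Vt F k (t + 1)) (Tm i P.e a) =
      Tm i P.e (r⁻¹ • (g : Vt F k t ≃ₗ[F] Vt F k t) a) + Tm i P.d (φ a) := by
    intro a
    rw [← sub_eq_iff_eq_add']
    set v := (x : Vt F k (t + 1) ≃ₗ[F] Vt F k (t + 1)) (Tm i P.e a) -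
      Tm i P.e (r⁻¹ • (g : Vt F k t ≃ₗ[F] Vt F k t) a) with hv
    have hφ : φ a = D.flip.C P.e v := by
      rw [hv, map_sub, show D.flip.C P.e (Tm i P.e (r⁻¹ • (g : Vt F k t ≃ₗ[F] Vt F k t) a)) = _ from
        D.flip.C_T P.e _ P.e, P.ee, zero_smul, sub_zero]
      rfl
    have h1 : ∀ b, frm f (t + 1) (Tm i P.d b) v = 0 := fun b => by
      obtain ⟨c, rfl⟩ : ∃ c, r • (g : Vt F k t ≃ₗ[F] Vt F k t) c = b :=
        ⟨(g : Vt F k t ≃ₗ[F] Vt F k t).symm (r⁻¹ • b), by simp [h.r0]⟩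
      rw [hv, map_sub]
      nth_rw 1 [← h.hd]
      rw [map_frm hf, frm_Tm hf, frm_Tm hf]
      simp only [map_smul, LinearMap.smul_apply, smul_eq_mul, map_frm hf, P.de]
      field_simp [h.r0]
      ring
    have h2 : ∀ b, frm f (t + 1) (Tm i z b) v = 0 := fun b => by
      obtain ⟨c, rfl⟩ : ∃ c, s • (g : Vt F k t ≃ₗ[F] Vt F k t) c = b :=
        ⟨(g : Vt F k t ≃ₗ[F] Vt F k t).symm (s⁻¹ • b), by simp [h.s0]⟩
      rw [hv, map_sub]
      nth_rw 1 [← h.hz]
      rw [map_frm hf, frm_Tm hf, frm_Tm hf, hf.symm P.e z, ez, zero_mul, zero_mul, sub_zero]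
    refine D.V_ext fun w => ?_
    set y := D.C w v with hy
    have e1 : f P.d y = 0 := by rw [hy, D.f_C, polar_qT hf, h1]
    have e2 : f z y = 0 := by rw [hy, D.f_C, polar_qT hf, h2]
    have e3 : frm f t w (φ a) = f P.e y := by
      rw [hφ, hy]
      calc frm f t w (D.flip.C P.e v) = polar (qT f (t + 1)) (Tm i P.e w) v := D.flip.f_C w P.e v
        _ = f P.e (D.C w v) := (D.f_C P.e w v).symm
    rw [D.C_T, e3]
    have e4 := P.split hf hk dz ez zz y
    rw [e1, e2] at e4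
    simpa using e4
  refine ⟨key, fun a => ?_⟩
  have h2 := map_frm hf x (Tm i P.e a) (Tm i P.e a)
  rw [key] at h2
  simp only [map_add, map_smul, LinearMap.add_apply, LinearMap.smul_apply, smul_eq_mul, frm_Tm hf, P.ee, P.dd,
    P.de, P.ed hf] at h2
  rw [frm_symm hf ((g : Vt F k t ≃ₗ[F] Vt F k t) a) (φ a)] at h2
  have h3 : (2 * r⁻¹) * frm f t ((g : Vt F k t ≃ₗ[F] Vt F k t) a) (φ a) = 0 := by linear_combination h2
  exact (mul_eq_zero.1 h3).resolve_left (mul_ne_zero hf.two (inv_ne_zero h.r0))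

/-- A product at the factor from vanishing off-diagonal part. -/
theorem tens_of_nrm (hk : k = 3) {i : Fin (t + 1)} (P : Fr f) {z : Ud F k} (dz : f P.d z = 0) (ez : f P.e z = 0)
    (zz : f z z ≠ 0) {x : OQ (qT f (t + 1))} {g : OQ (qT f t)} {r s : F} (h : Nrm i P.d z x g r s) {μ : F}
    (he : ∀ a, (x : Vt F k (t + 1) ≃ₗ[F] Vt F k (t + 1)) (Tm i P.e a) =
      Tm i P.e (r⁻¹ • (g : Vt F k t ≃ₗ[F] Vt F k t) a) + Tm i P.d (μ • (g : Vt F k t ≃ₗ[F] Vt F k t) a)) :
    ∃ v : OQ (qU f), x = slot hf i v * wl hf i g := by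
  set A : Module.End F (Ud F k) := (f P.e).smulRight (r • P.d) + (f P.d).smulRight (r⁻¹ • P.e + μ • P.d) +
    ((f z z)⁻¹ • f z).smulRight (s • z)
  have hA : ∀ y, A y = f P.e y • r • P.d + f P.d y • (r⁻¹ • P.e + μ • P.d) + ((f z z)⁻¹ * f z y) • s • z :=
    fun y => by simp [A]
  have key : ∀ u w, (x : Vt F k (t + 1) ≃ₗ[F] Vt F k (t + 1)) (Tm i u w) =
      Tm i (A u) ((g : Vt F k t ≃ₗ[F] Vt F k t) w) := fun u w => by
    conv_lhs => rw [P.split hf hk dz ez zz u]
    simp only [map_add, map_smul, LinearMap.add_apply, LinearMap.smul_apply, h.hd, h.hz, he, hA]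
    match_scalars <;> field_simp
  have hiso : ∀ a b, f (A a) (A b) = f a b := fun a b => by
    haveI : Nontrivial (Vt F k t) := C.nontrivW
    obtain ⟨w, hw⟩ := (symForm_frm hf (t := t)).exists_aniso
    have h1 := map_frm hf x (Tm i a w) (Tm i b w)
    rw [key, key, frm_Tm hf, frm_Tm hf, map_frm hf] at h1
    exact mul_right_cancel₀ hw h1
  exact ⟨mkU hf hiso, el_ext_Tm i fun u w => by
    rw [key, Subgroup.coe_mul, LinearEquiv.mul_apply, wl_Tm, slot_Tm_self, mkU_apply]⟩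

/-- The case of a trivial action on the other factors. -/
theorem nrm_one (hk : k = 3) {i : Fin (t + 1)} (P : Fr f) {z : Ud F k} (dz : f P.d z = 0) (ez : f P.e z = 0)
    (zz : f z z ≠ 0) {x : OQ (qT f (t + 1))} (hx : x ∈ X) {r s : F} (h : Nrm i P.d z x 1 r s) : IsStd x := by
  haveI : Nontrivial (Vt F k t) := C.nontrivW
  obtain ⟨a₀, ha₀⟩ := exists_ne (0 : Vt F k t)
  obtain ⟨φ, he, -⟩ := C.nrm_shape hk P dz ez zz h
  simp only [OneMemClass.coe_one, LinearEquiv.coe_one, id_eq] at he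
  obtain ⟨μ, hμ⟩ := scalar_of_comm_sv hf C.k3 φ fun l d' z' hd hz => by
    set σ := slot hf l (sU hf hd hz)
    set S := wl hf i σ
    have hS : S ∈ X := by
      rw [show S = slot hf (i.succAbove l) (sU hf hd hz) from wl_slot hf i l _]
      exact C.base _ (slot_sU_mem hf C.five _ hd hz) (isStd_slot hf _ _)
    set kk := x * S * x⁻¹ * S⁻¹
    have hk' : kk ∈ X := X.mul_mem (X.mul_mem (X.mul_mem hx hS) (X.inv_mem hx)) (X.inv_mem hS)
    have hfix : ∀ (y : Ud F k) (c : F), c ≠ 0 →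
        (∀ a, (x : Vt F k (t + 1) ≃ₗ[F] Vt F k (t + 1)) (Tm i y a) = c • Tm i y a) →
        ∀ a, (kk : Vt F k (t + 1) ≃ₗ[F] Vt F k (t + 1)) (Tm i y a) = Tm i y a := by
      intro y c hc hy a
      have hSinv : (S⁻¹ : OQ (qT f (t + 1))) = wl hf i σ⁻¹ := (map_inv _ _).symm
      show (x : Vt F k (t + 1) ≃ₗ[F] Vt F k (t + 1)) ((S : Vt F k (t + 1) ≃ₗ[F] Vt F k (t + 1))
        ((x⁻¹ : OQ (qT f (t + 1))).1 ((S⁻¹ : OQ (qT f (t + 1))).1 (Tm i y a)))) = _
      have hxi : ∀ b, (x⁻¹ : OQ (qT f (t + 1))).1 (Tm i y b) = c⁻¹ • Tm i y b := fun b => by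
        refine (x : Vt F k (t + 1) ≃ₗ[F] Vt F k (t + 1)).injective ?_
        rw [map_smul, hy, inv_smul_smul₀ hc, Subgroup.coe_inv]
        simp
      rw [hSinv, wl_Tm, hxi, map_smul, wl_Tm, map_smul, hy, inv_smul_smul₀ hc]
      simp [Subgroup.coe_inv]
    have h1 := hfix P.d r h.r0 fun a => by rw [h.hd]; simp
    have h2 := hfix z s h.s0 fun a => by rw [h.hz]; simp
    obtain ⟨v, hv, hvd⟩ := C.fix_iso hk' P.d_ne P.dd h1
    have hvz : (v : Ud F k ≃ₗ[F] Ud F k) z = z := (tensor hf i).T_injective ha₀ (by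
      rw [← slot_Tm_self hf, ← hv, h2])
    have hk1 : kk = 1 := by rw [hv, eq_one_of_frame hf hk P dz ez zz hvd hvz, map_one]
    have hcomm : x * S = S * x := mul_inv_eq_iff_eq_mul.1 (mul_inv_eq_one.1 hk1)
    refine LinearMap.ext fun b => ?_
    have e : ∀ a, lm σ (φ a) = φ (lm σ a) := fun a => by
      have h3 := congrArg (fun w : OQ (qT f (t + 1)) => (w : Vt F k (t + 1) ≃ₗ[F] Vt F k (t + 1)) (Tm i P.e a))
        hcomm
      simp only [Subgroup.coe_mul, LinearEquiv.mul_apply, S, wl_Tm, he, map_add, map_smul] at h3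
      exact ((tensor hf i).T_injective' P.d_ne (add_left_cancel h3)).symm
    show lm σ (φ (lm σ⁻¹ b)) = φ b
    rw [e, ← Module.End.mul_apply (lm σ), lm_mul_inv, Module.End.one_apply]
  obtain ⟨v, hv⟩ := C.tens_of_nrm hk P dz ez zz h (μ := μ) fun a => by
    rw [he, hμ]
    simp
  rw [hv, map_one, mul_one]
  exact isStd_slot hf i v

end Ctx

end CfsgLib.Geo.OrthWreath
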