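/-
An element mapping an isotropic line of pure tensors to such a line, or conjugating a Siegel element of one factor
to an element of one factor, is standard.
-/
import Cfsg.Agent.Lib.Geo.OrthWreath.LineThree

set_option autoImplicit false
set_option linter.unusedSectionVars false

namespace CfsgLib.Geo.OrthWreath

open CfsgLib.Classical CfsgLib.Classical.Quad Module
open CfsgLib.Known.OmegaCriterion
open CfsgLib.Geo.MixTensor (SymForm)
open CfsgLib.Geo.OrthTensor (Tens sv sv_apply)
open CfsgLib.Geo.TensorWreath (pvec)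
open QuadraticMap (polar polarBilin)
open LinearMap (BilinForm)

variable {F : Type*} [Field F] {k t : ℕ} {f : BilinForm F (Ud F k)}

/-- The torus of a hyperbolic plane of a tensor power. -/
theorem exists_torW (hf : SymForm f) {D E : Vt F k t} (hD : frm f t D D = 0) (hE : frm f t E E = 0)
    (hDE : frm f t D E = 1) {m : F} (hm : m ≠ 0) :
    ∃ h : OQ (qT f t), ∀ v, (h : Vt F k t ≃ₗ[F] Vt F k t) v =
      v + ((m - 1) * frm f t E v) • D + ((m⁻¹ - 1) * frm f t D v) • E := by
  set L : Vt F k t →ₗ[F] Vt F k t :=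
    LinearMap.id + ((m - 1) • frm f t E).smulRight D + ((m⁻¹ - 1) • frm f t D).smulRight E
  have hL : ∀ v, L v = v + ((m - 1) * frm f t E v) • D + ((m⁻¹ - 1) * frm f t D v) • E := fun v => by simp [L]
  refine ⟨ofPreserves (qT_nd hf) L (preserves_qT hf fun ξ η => ?_), fun v => by rw [ofPreserves_apply, hL]⟩
  have hED : frm f t E D = 1 := by rw [frm_symm hf, hDE]
  rw [hL, hL]
  simp only [map_add, map_smul, LinearMap.add_apply, LinearMap.smul_apply, smul_eq_mul, hD, hE, hDE, hED,
    frm_symm hf D (pvec ξ), frm_symm hf E (pvec ξ)]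
  field_simp
  ring

variable [Finite F]

namespace Ctx

variable {hf : SymForm f} {X : Subgroup (OQ (qT f (t + 1)))} (C : Ctx hf X)
include C

/-- The case of a standard action on the other factors. -/
theorem nrm_std (hk : k = 3) {i : Fin (t + 1)} (P : Fr f) {z : Ud F k} (dz : f P.d z = 0) (ez : f P.e z = 0)
    (zz : f z z ≠ 0) {x : OQ (qT f (t + 1))} (hx : x ∈ X) {g : OQ (qT f t)} {r s : F}
    (h : Nrm i P.d z x g r s) (hg : IsStd g) : IsStd x := by
  have hgi : IsStd g⁻¹ := by
    haveI := finite_el hf (t := t)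
    exact IsStd.inv hf hg
  obtain ⟨c, m, ε, hm, hε, hcd, -, -, hcz, hc⟩ := exists_comp hf C.kodd C.five i P dz ez zz (wl hf i g⁻¹)
  set y := slot hf i c * wl hf i g⁻¹
  have hys : IsStd y := (isStd_slot hf i c).mul (isStd_wl hf hgi)
  have hε0 : ε ≠ 0 := fun e => by simp [e] at hε
  have hy : Nrm i P.d z y g⁻¹ m ε := by
    refine ⟨hm, hε0, fun a => ?_, fun a => ?_⟩
    · rw [Subgroup.coe_mul, LinearEquiv.mul_apply, wl_Tm, slot_Tm_self, hcd]; simp
    · rw [Subgroup.coe_mul, LinearEquiv.mul_apply, wl_Tm, slot_Tm_self, hcz]; simp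
  have h' : Nrm i P.d z (y * x) 1 (m * r) (ε * s) := by
    have := hy.mul h
    rwa [inv_mul_cancel] at this
  have h1 := C.nrm_one hk P dz ez zz (X.mul_mem (C.base _ hc hys) hx) h'
  have h2 := (C.isStd_inv hys).mul h1
  rwa [inv_mul_cancel_left] at h2

/-- **No action on the other factors is new.** -/
theorem nrm_all (hk : k = 3) {m : F} (hm : m * m = -1) {i : Fin (t + 1)} (P : Fr f) {z : Ud F k}
    (dz : f P.d z = 0) (ez : f P.e z = 0) (zz : f z z ≠ 0) {x : OQ (qT f (t + 1))} (hx : x ∈ X)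
    {g : OQ (qT f t)} {r s : F} (h : Nrm i P.d z x g r s) : IsStd x := by
  classical
  rcases Nat.lt_or_ge t 2 with ht | ht
  · obtain rfl : t = 1 := by have := C.t1; omega
    exact C.nrm_std hk P dz ez zz hx h (isStd_level_one g)
  have hm0 : m ≠ 0 := fun e => by simp [e] at hm
  have hminv : m⁻¹ = -m := inv_eq_of_mul_eq_one_right (by rw [mul_neg, hm, neg_neg])
  by_contra hns
  let Y : Subgroup (OQ (qT f t)) :=
    { carrier := {g | g ∈ commutator (OQ (qT f t)) ∧ ∃ x ∈ X, ∃ r s : F, Nrm i P.d z x g r s}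
      one_mem' := ⟨one_mem _, 1, X.one_mem, 1, 1, Nrm.one⟩
      mul_mem' := by
        rintro a b ⟨ha, xa, hxa, ra, sa, na⟩ ⟨hb, xb, hxb, rb, sb, nb⟩
        exact ⟨mul_mem ha hb, xa * xb, X.mul_mem hxa hxb, ra * rb, sa * sb, na.mul nb⟩
      inv_mem' := by
        rintro a ⟨ha, xa, hxa, ra, sa, na⟩
        exact ⟨inv_mem ha, xa⁻¹, X.inv_mem hxa, ra⁻¹, sa⁻¹, na.inv⟩ }
  -- standard elements lift
  have hbase : ∀ y ∈ commutator (OQ (qT f t)), IsStd y → y ∈ Y := fun y hy hs => by
    obtain ⟨c, m', ε, hm', hε, hcd, -, -, hcz, hc⟩ := exists_comp hf C.kodd C.five i P dz ez zz (wl hf i y)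
    refine ⟨hy, _, C.base _ hc ((isStd_slot hf i c).mul (isStd_wl hf hs)), m', ε, hm', fun e => by simp [e] at hε,
      fun a => ?_, fun a => ?_⟩
    · simp [wl_Tm, slot_Tm_self, hcd]
    · simp [wl_Tm, slot_Tm_self, hcz]
  let j₀ : Fin t := ⟨0, by omega⟩
  rcases C.ih Y (fun y hy => hy.1) hbase with hall | hall
  swap
  · obtain ⟨u, hu⟩ := C.exists_class_W ht j₀ g
    obtain ⟨c, m', ε, hm', hε, hcd, -, -, hcz, hc⟩ :=
      exists_comp hf C.kodd C.five i P dz ez zz (wl hf i (slot hf j₀ u))
    set y := slot hf i c * wl hf i (slot hf j₀ u)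
    have hys : IsStd y := (isStd_slot hf i c).mul (isStd_wl hf (isStd_slot hf _ _))
    have hy : Nrm i P.d z y (slot hf j₀ u) m' ε := by
      refine ⟨hm', fun e => by simp [e] at hε, fun a => ?_, fun a => ?_⟩
      · simp [y, wl_Tm, slot_Tm_self, hcd]
      · simp [y, wl_Tm, slot_Tm_self, hcz]
    have h1 := C.nrm_std hk P dz ez zz (X.mul_mem (C.base _ hc hys) hx) (hy.mul h)
      (hall _ ⟨hu, _, X.mul_mem (C.base _ hc hys) hx, _, _, hy.mul h⟩)
    have h2 := (C.isStd_inv hys).mul h1
    rw [inv_mul_cancel_left] at h2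
    exact hns h2
  -- an element fixing the mixed tensors
  set D : Vt F k t := pvec fun _ => P.d
  set E : Vt F k t := pvec fun _ => P.e
  have h0 : ∀ {u v : Ud F k}, f u v = 0 → frm f t (pvec fun _ => u) (pvec fun _ => v) = 0 := fun e => by
    rw [frm_pvec]; exact Finset.prod_eq_zero (Finset.mem_univ j₀) e
  have hDE : frm f t D E = 1 := by simp [D, E, frm_pvec, P.de]
  have hDD : frm f t D D = 0 := h0 P.dd
  have hEE : frm f t E E = 0 := h0 P.ee
  have hED : frm f t E D = 1 := by rw [frm_symm hf, hDE]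
  obtain ⟨τ, hτ⟩ := exists_torW hf hDD hEE hDE hm0
  set g₀ := τ * τ
  have hg₀ : ∀ v, (g₀ : Vt F k t ≃ₗ[F] Vt F k t) v = v - (2 * frm f t E v) • D - (2 * frm f t D v) • E := fun v => by
    rw [Subgroup.coe_mul, LinearEquiv.mul_apply, hτ, hτ]
    simp only [map_add, map_smul, smul_eq_mul, hDD, hEE, hDE, hED, hminv]
    match_scalars <;> first | ring1 | linear_combination (frm f t E v) * hm | linear_combination (frm f t D v) * hm | linear_combination -(frm f t D v) * hm
  obtain ⟨-, x₀, hx₀, r₀, s₀, h₀⟩ := hall (mul_self_mem hf (C.five_W ht) τ)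
  obtain ⟨φ, he, hskew⟩ := C.nrm_shape hk P dz ez zz h₀
  -- the torus elements
  have hrel : ∀ j : Fin t, ∀ w, φ ((slot hf j (P.tor hf hm0) : Vt F k t ≃ₗ[F] Vt F k t) w) =
      -(slot hf j (P.tor hf hm0) : Vt F k t ≃ₗ[F] Vt F k t) (φ w) := by
    intro j
    set a := slot hf j (P.tor hf hm0)
    set η := slot hf i (P.tor hf hm0) * wl hf i a
    have hη : η ∈ X := by
      rw [show η = slot hf i (P.tor hf hm0) * slot hf (i.succAbove j) (P.tor hf hm0) by
        simp only [η, a, wl_slot]]
      exact C.slot_pair_mem _ _ _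
    have hηn : Nrm i P.d z η a m 1 :=
      ⟨hm0, one_ne_zero, fun b => by simp [η, wl_Tm, slot_Tm_self, P.tor_d hf hm0],
        fun b => by simp [η, wl_Tm, slot_Tm_self, P.tor_perp hf hm0 dz ez]⟩
    have haD : (a : Vt F k t ≃ₗ[F] Vt F k t) D = m • D := by
      rw [slot_pvec, P.tor_d, pvec_update_smul, Function.update_eq_self]
    have haE : (a : Vt F k t ≃ₗ[F] Vt F k t) E = m⁻¹ • E := by
      rw [slot_pvec, P.tor_e, pvec_update_smul, Function.update_eq_self]
    have hcomm : a * g₀ = g₀ * a := el_ext fun ξ => by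
      have e1 : frm f t D ((a : Vt F k t ≃ₗ[F] Vt F k t) (pvec ξ)) = m⁻¹ * frm f t D (pvec ξ) := by
        have := map_frm hf a D (pvec ξ)
        rw [haD, map_smul, LinearMap.smul_apply, smul_eq_mul] at this
        rw [← this, inv_mul_cancel_left₀ hm0]
      have e2 : frm f t E ((a : Vt F k t ≃ₗ[F] Vt F k t) (pvec ξ)) = m * frm f t E (pvec ξ) := by
        have := map_frm hf a E (pvec ξ)
        rw [haE, map_smul, LinearMap.smul_apply, smul_eq_mul] at this
        rw [← this, mul_inv_cancel_left₀ hm0]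
      simp only [Subgroup.coe_mul, LinearEquiv.mul_apply]
      rw [show ∀ v, ((g₀ : Vt F k t ≃ₗ[F] Vt F k t) v) = v - (2 * frm f t E v) • D - (2 * frm f t D v) • E from hg₀]
      rw [show ∀ v, ((g₀ : Vt F k t ≃ₗ[F] Vt F k t) v) = v - (2 * frm f t E v) • D - (2 * frm f t D v) • E from hg₀]
      simp only [map_sub, map_smul, haD, haE, e1, e2, smul_smul]
      module
    set kk := η * x₀ * η⁻¹ * x₀⁻¹
    have hkn : Nrm i P.d z kk 1 1 1 := by
      have := ((hηn.mul h₀).mul hηn.inv).mul h₀.inv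
      rw [show a * g₀ * a⁻¹ * g₀⁻¹ = 1 by rw [hcomm]; group] at this
      convert this using 1 <;> field_simp [h₀.r0, h₀.s0, hm0]
    obtain ⟨v, hv, hvd⟩ := C.fix_iso (X.mul_mem (X.mul_mem (X.mul_mem hη hx₀) (X.inv_mem hη)) (X.inv_mem hx₀))
      P.d_ne P.dd (i := i) (fun b => by rw [hkn.hd]; simp)
    have hk1 : kk = 1 := by
      haveI : Nontrivial (Vt F k t) := C.nontrivW
      obtain ⟨a₀, ha₀⟩ := exists_ne (0 : Vt F k t)
      have hvz : (v : Ud F k ≃ₗ[F] Ud F k) z = z := (tensor hf i).T_injective ha₀ (by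
        rw [← slot_Tm_self hf, ← hv, hkn.hz]; simp)
      rw [show kk = slot hf i v from hv, eq_one_of_frame hf hk P dz ez zz hvd hvz, map_one]
    have hc : η * x₀ = x₀ * η := mul_inv_eq_iff_eq_mul.1 (mul_inv_eq_one.1 hk1)
    intro w
    have h3 := congrArg (fun y : OQ (qT f (t + 1)) => (tensor hf i).flip.C P.e
      ((y : Vt F k (t + 1) ≃ₗ[F] Vt F k (t + 1)) (Tm i P.e w))) hc
    simp only [η, Subgroup.coe_mul, LinearEquiv.mul_apply, wl_Tm, he, map_add, map_smul, slot_Tm_self, P.tor_e hf hm0,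
      P.tor_d hf hm0, LinearMap.smul_apply,
      show ∀ u b, (tensor hf i).flip.C P.e (Tm i u b) = f P.e u • b from fun u b => (tensor hf i).flip.C_T P.e b u,
      P.ee, P.ed hf, zero_smul, smul_zero, zero_add, one_smul] at h3
    calc φ ((a : Vt F k t ≃ₗ[F] Vt F k t) w) = (m * m⁻¹) • φ ((a : Vt F k t ≃ₗ[F] Vt F k t) w) := by
          rw [mul_inv_cancel₀ hm0, one_smul]
      _ = m • m⁻¹ • φ ((a : Vt F k t ≃ₗ[F] Vt F k t) w) := mul_smul _ _ _
      _ = m • m • (a : Vt F k t ≃ₗ[F] Vt F k t) (φ w) := by rw [h3]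
      _ = _ := by rw [smul_smul, hm, neg_one_smul]
  -- the off-diagonal part vanishes
  set v : Fin 3 → Ud F k := ![P.d, P.e, z] with hvdef
  set μ : Fin 3 → F := ![m, m⁻¹, 1] with hμdef
  have hv : ∀ c : Fin t → Fin 3, ∀ j, (slot hf j (P.tor hf hm0) : Vt F k t ≃ₗ[F] Vt F k t)
      (pvec fun l => v (c l)) = μ (c j) • pvec fun l => v (c l) := by
    intro c j
    rw [slot_pvec]
    have : ∀ n, (P.tor hf hm0 : Ud F k ≃ₗ[F] Ud F k) (v n) = μ n • v n := fun n => by
      fin_cases n <;> simp [v, μ, P.tor_d hf hm0, P.tor_e hf hm0, P.tor_perp hf hm0 dz ez]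
    rw [this, pvec_update_smul, Function.update_eq_self]
  have hφ : φ = 0 := ext_letters hf hk P dz ez zz fun c => by
    refine (frm_nondeg hf).1 _ fun b => ?_
    refine LinearMap.congr_fun (ext_letters hf hk P dz ez zz (L := frm f t (φ (pvec fun l => v (c l))))
      fun c' => ?_) b
    show frm f t (φ (pvec fun l => v (c l))) (pvec fun l => v (c' l)) = 0
    by_contra hne
    have hrel' : ∀ j, μ (c j) * μ (c' j) = -1 := fun j => by
      have h1 := map_frm hf (slot hf j (P.tor hf hm0)) (φ (pvec fun l => v (c l))) (pvec fun l => v (c' l))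
      rw [← neg_neg ((slot hf j (P.tor hf hm0) : Vt F k t ≃ₗ[F] Vt F k t) (φ (pvec fun l => v (c l)))), ← hrel,
        hv, hv, map_smul, map_neg, map_smul] at h1
      simp only [map_smul, map_neg, LinearMap.neg_apply, LinearMap.smul_apply, smul_eq_mul] at h1
      exact mul_right_cancel₀ hne (by linear_combination -h1)
    have hcases : ∀ j, c' j = c j ∧ c j ≠ 2 := fun j => by
      have h1 := hrel' j
      have h2 := hf.two
      generalize c j = p, c' j = q at h1 ⊢
      fin_cases p <;> fin_cases q <;> simp [μ, hminv] at h1 ⊢ <;>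
        first
          | exact h2 (by subst h1; linear_combination hm)
          | exact h2 (by linear_combination hm - h1)
          | exact h2 (by linear_combination h1 - hm)
          | exact h2 (by linear_combination hm - (m + 1) * h1)
          | exact h2 (by linear_combination hm + (m - 1) * h1)
          | exact h2 (by linear_combination h1)
          | exact h2 (by rw [mul_inv_cancel₀ hm0] at h1; linear_combination h1)
          | exact h2 (by rw [inv_mul_cancel₀ hm0] at h1; linear_combination h1)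
          | exact h2 (by rw [← h1] at hm; linear_combination hm + (h1 - 1) * h1)
          | exact h2 (by rw [hminv] at h1; linear_combination (m - 1) * h1 - hm)
          | exact h2 (by linear_combination (1 - m) * h1 + hm)
    obtain rfl : c' = c := funext fun j => (hcases j).1
    obtain ⟨ε, hε, heig⟩ : ∃ ε : F, ε ≠ 0 ∧ (g₀ : Vt F k t ≃ₗ[F] Vt F k t) (pvec fun l => v (c' l)) =
        ε • pvec fun l => v (c' l) := by
      by_cases hcd : ∀ l, c' l = 0
      · refine ⟨-1, neg_ne_zero.2 one_ne_zero, ?_⟩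
        rw [show (fun l => v (c' l)) = fun _ => P.d from funext fun l => by rw [hcd l]; rfl, hg₀]
        rw [show frm f t E (pvec fun _ => P.d) = 1 by rw [frm_symm hf]; exact hDE,
          show frm f t D (pvec fun _ => P.d) = 0 from h0 P.dd]
        simp only [D]; module
      by_cases hce : ∀ l, c' l = 1
      · refine ⟨-1, neg_ne_zero.2 one_ne_zero, ?_⟩
        rw [show (fun l => v (c' l)) = fun _ => P.e from funext fun l => by rw [hce l]; rfl, hg₀]
        rw [show frm f t E (pvec fun _ => P.e) = 0 from h0 P.ee, show frm f t D (pvec fun _ => P.e) = 1 from hDE]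
        simp only [E]; module
      push Not at hcd hce
      obtain ⟨l₁, hl₁⟩ := hcd
      obtain ⟨l₂, hl₂⟩ := hce
      have k₁ : v (c' l₁) = P.e := by
        have := (hcases l₁).2
        generalize c' l₁ = n at *
        fin_cases n <;> simp_all [v]
      have k₂ : v (c' l₂) = P.d := by
        have := (hcases l₂).2
        generalize c' l₂ = n at *
        fin_cases n <;> simp_all [v]
      refine ⟨1, one_ne_zero, ?_⟩
      rw [one_smul, hg₀,
        show frm f t E (pvec fun l => v (c' l)) = 0 by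
          rw [frm_pvec]; exact Finset.prod_eq_zero (Finset.mem_univ l₁) (by rw [k₁, P.ee]),
        show frm f t D (pvec fun l => v (c' l)) = 0 by
          rw [frm_pvec]; exact Finset.prod_eq_zero (Finset.mem_univ l₂) (by rw [k₂, P.dd])]
      simp
    have h3 := hskew (pvec fun l => v (c' l))
    rw [heig, map_smul, LinearMap.smul_apply, smul_eq_mul] at h3
    exact hne (by rw [frm_symm hf]; exact (mul_eq_zero.1 h3).resolve_left hε)
  obtain ⟨u, hu⟩ := C.tens_of_nrm hk P dz ez zz h₀ (μ := 0) fun a => by rw [he, hφ]; simp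
  have hs₀ : IsStd x₀ := C.tens_std hx₀ ⟨lm u, lm g₀, fun b w => by
    rw [hu, Subgroup.coe_mul, LinearEquiv.mul_apply, wl_Tm, slot_Tm_self]
    rfl⟩
  have hw : IsStd (wl hf i g₀) := by
    have := (isStd_slot hf i u⁻¹).mul hs₀
    rwa [hu, map_inv, inv_mul_cancel_left] at this
  -- but it is not standard
  have hfixl : ∀ j, ∃ v' : OQ (qU f), wl hf i g₀ = slot hf (i.succAbove j) v' ∧
      (v' : Ud F k ≃ₗ[F] Ud F k) z = z := fun j =>
    fix_line hf C.k2 hw (fun e => zz (by simp [e])) fun w => LinearMap.congr_fun (pvec_ext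
      (L := lm (wl hf i g₀) ∘ₗ Tm (i.succAbove j) z) (L' := Tm (i.succAbove j) z) fun η => by
        set ξ := (i.succAbove j).insertNth (α := fun _ => Ud F k) z η with hξ
        have hj : ξ (i.succAbove j) = z := Fin.insertNth_apply_same ..
        rw [LinearMap.comp_apply, Tm_pvec, ← hξ, pvec_eq_Tm i ξ, lm, LinearEquiv.coe_coe, wl_Tm, hg₀,
          show frm f t E (pvec fun l => ξ (i.succAbove l)) = 0 by
            rw [frm_pvec]; exact Finset.prod_eq_zero (Finset.mem_univ j) (by rw [hj, ez]),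
          show frm f t D (pvec fun l => ξ (i.succAbove l)) = 0 by
            rw [frm_pvec]; exact Finset.prod_eq_zero (Finset.mem_univ j) (by rw [hj, dz])]
        simp) w
  obtain ⟨v₁, e₁, hv₁⟩ := hfixl j₀
  obtain ⟨v₂, e₂, -⟩ := hfixl ⟨1, by omega⟩
  obtain ⟨c, hc⟩ := slot_eq_slot hf C.k1 (fun e => by
    have := congrArg Fin.val (Fin.succAbove_right_injective e); simp [j₀] at this) (e₁.symm.trans e₂)
  have hc1 : c = 1 := by
    have := congrArg (f z) (hv₁.symm.trans (hc z))
    rw [map_smul, smul_eq_mul] at this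
    exact mul_right_cancel₀ zz (by rw [one_mul, ← this])
  have hg1 : g₀ = 1 := wl_injective hf C.k1 i (by
    rw [e₁, qU_ext hf (u := v₁) (v := 1) fun a => by rw [hc, hc1]; simp, map_one, map_one])
  have h4 := hg₀ D
  rw [hg1, (h0 P.dd : frm f t D D = 0), show frm f t E D = 1 by rw [frm_symm hf, hDE]] at h4
  have h5 : (2 : F) • D = 0 := by
    simp only [OneMemClass.coe_one, LinearEquiv.coe_one, id_eq, mul_one, mul_zero, zero_smul, sub_zero] at h4
    linear_combination (norm := module) h4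
  exact pvec_ne_zero (fun _ => P.d_ne) ((smul_eq_zero.1 h5).resolve_left hf.two)

end Ctx

end CfsgLib.Geo.OrthWreath
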