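/-
An element conjugating a Siegel element of one factor to an element of one factor is standard.
-/
import Cfsg.Agent.Lib.Geo.OrthWreath.LineStd

set_option autoImplicit false
set_option linter.unusedSectionVars false

namespace CfsgLib.Geo.OrthWreath

open CfsgLib.Classical CfsgLib.Classical.Quad Module
open CfsgLib.Geo.MixTensor (SymForm)
open CfsgLib.Geo.OrthTensor (Tens sv sv_apply)
open LinearMap (BilinForm)

variable {F : Type*} [Field F] [Finite F] {k t : ℕ} {f : BilinForm F (Ud F k)}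

namespace Ctx

variable {hf : SymForm f} {X : Subgroup (OQ (qT f (t + 1)))} (C : Ctx hf X)
include C

theorem line_three (hk : k = 3) {x : OQ (qT f (t + 1))} (hx : x ∈ X) {i : Fin (t + 1)} {d d' : Ud F k}
    (hd0 : d ≠ 0) (hd : f d d = 0) {A : Module.End F (Vt F k t)}
    (h : ∀ a, (x : Vt F k (t + 1) ≃ₗ[F] Vt F k (t + 1)) (Tm i d a) = Tm i d' (A a)) : IsStd x := by
  obtain ⟨hd'0, hd', hAs⟩ := C.line_iso hd0 hd h
  obtain ⟨e, he, hde⟩ := OrthTensor.exists_iso_partner hf hd hd0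
  obtain ⟨z, dz, ez, zz⟩ := Fr.exists_z hf ⟨d, e, hd, he, hde⟩ C.k3
  obtain ⟨e₀, he₀, hde₀⟩ := OrthTensor.exists_iso_partner hf hd' hd'0
  let P : Fr f := ⟨d, e, hd, he, hde⟩
  let P₀ : Fr f := ⟨d', e₀, hd', he₀, hde₀⟩
  have h2 := hf.two
  obtain ⟨m, hm, hmsp⟩ : ∃ m : F, m ≠ 0 ∧ ((m * m) * (m * m) ≠ 1 ∨ m * m = -1) := by
    by_contra! hc
    obtain ⟨s, hs, hs1⟩ := exists_sq_ne_one hf (card_five hf fun e3 => by have := C.q3 e3; omega)
    obtain ⟨h4, hm1⟩ := hc s hs
    exact hm1 (by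
      rcases mul_eq_zero.1 (show (s * s - 1) * (s * s + 1) = 0 by linear_combination h4) with h | h
      · exact absurd (sub_eq_zero.1 h) hs1
      · exact eq_neg_of_add_eq_zero_left h)
  set μ := m * m with hμdef
  have hμ : μ ≠ 0 := mul_ne_zero hm hm
  have hμ1 : μ - 1 ≠ 0 := fun e1 => by
    rcases hmsp with h | h
    · exact h (by rw [sub_eq_zero.1 e1, mul_one])
    · exact h2 (by linear_combination h - e1)
  have htorX : ∀ Q : Fr f, slot hf i (Q.tor hf hμ) ∈ X := fun Q => C.base _ (by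
    rw [show Q.tor hf hμ = Q.tor hf hm * Q.tor hf hm from (Q.tor_mul hf hm hm).symm, map_mul]
    exact mul_self_mem hf C.five _) (isStd_slot hf i _)
  have hxT : ∀ b, ((x⁻¹ : OQ (qT f (t + 1))) : Vt F k (t + 1) ≃ₗ[F] Vt F k (t + 1)) (Tm i d' (A b)) = Tm i d b :=
    fun b => by
      rw [← h]
      exact (x : Vt F k (t + 1) ≃ₗ[F] Vt F k (t + 1)).symm_apply_apply _
  obtain ⟨v, hv, -⟩ := C.fix_iso (i := i)
    (x := (slot hf i (P₀.tor hf hμ))⁻¹ * (x * slot hf i (P.tor hf hμ) * x⁻¹))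
    (X.mul_mem (X.inv_mem (htorX P₀)) (X.mul_mem (X.mul_mem hx (htorX P)) (X.inv_mem hx))) hd'0 hd' fun b => by
      obtain ⟨p, rfl⟩ := hAs b
      simp only [Subgroup.coe_mul, LinearEquiv.mul_apply]
      rw [hxT, slot_Tm_self, P.tor_d hf hμ, map_smul, LinearMap.smul_apply, map_smul, h]
      refine (LinearEquiv.symm_apply_eq _).2 ?_
      rw [slot_Tm_self, P₀.tor_d hf hμ, map_smul]
      rfl
  have hxu : x * slot hf i (P.tor hf hμ) * x⁻¹ = slot hf i (P₀.tor hf hμ * v) := by
    rw [map_mul, ← hv, mul_inv_cancel_left]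
  obtain ⟨z', G, -, -, hG⟩ := C.eigen_line hxu (l := 1) (c := z) (fun e => zz (by simp [e]))
    (by rw [P.tor_perp hf hμ dz ez, one_smul]) fun y hy => by
      refine ⟨f z y / f z z, ?_⟩
      rw [one_smul, P.tor_apply hf hμ] at hy
      have h1 := congrArg (f P.e) hy
      have h3 := congrArg (f P.d) hy
      simp only [map_add, map_smul, smul_eq_mul, P.ee, P.dd, P.de, P.ed hf] at h1 h3
      have e1 : f P.e y = 0 := (mul_eq_zero.1 (show (μ - 1) * f P.e y = 0 by linear_combination h1)).resolve_left hμ1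
      have e2 : f P.d y = 0 := (mul_eq_zero.1
        (show (μ⁻¹ - 1) * f P.d y = 0 by linear_combination h3)).resolve_left fun e0 => hμ1 (by
          rw [sub_eq_zero] at e0 ⊢; rwa [inv_eq_one] at e0)
      exact perp_line hf hk P dz ez zz e2 e1
  obtain ⟨hz', hGG, hd'z', r, hr, hA⟩ := C.line_prop hx hd0 hd dz zz h hG
  rcases hmsp with h4 | h4
  · -- a third line
    have hμμ : μ - μ⁻¹ ≠ 0 := fun e0 => h4 (by
      rw [sub_eq_zero] at e0
      calc μ * μ = μ * μ⁻¹ := by rw [← e0]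
        _ = 1 := mul_inv_cancel₀ hμ)
    obtain ⟨e'', A', -, -, hE⟩ := C.eigen_line hxu (l := μ⁻¹) (c := e) P.e_ne (P.tor_e hf hμ) fun y hy => by
      refine ⟨f P.d y, ?_⟩
      rw [P.tor_apply hf hμ] at hy
      have h1 := congrArg (f P.e) hy
      have h3 := congrArg (f z) hy
      have hzd : f z P.d = 0 := by rw [hf.symm, dz]
      have hze : f z P.e = 0 := by rw [hf.symm, ez]
      simp only [map_add, map_smul, smul_eq_mul, P.ee, P.ed hf, hzd, hze] at h1 h3
      have e1 : f P.e y = 0 := (mul_eq_zero.1 (show (μ - μ⁻¹) * f P.e y = 0 by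
        linear_combination h1)).resolve_left hμμ
      have e2 : f z y = 0 := (mul_eq_zero.1 (show (1 - μ⁻¹) * f z y = 0 by
        linear_combination h3)).resolve_left fun e0 => hμ1 (by
          rw [sub_eq_zero] at e0 ⊢; exact inv_eq_one.1 e0.symm)
      calc y = f P.e y • P.d + f P.d y • P.e + (f z y / f z z) • z := P.split hf hk dz ez zz y
        _ = f P.d y • P.e := by simp [e1, e2]
    obtain ⟨-, -, -, r', hr', hA'⟩ := C.line_prop hx P.e_ne he ez zz hE hG
    have hE' : ∀ a, (x : Vt F k (t + 1) ≃ₗ[F] Vt F k (t + 1)) (Tm i e a) = Tm i ((r' / r) • e'') (A a) := fun a => by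
      rw [hE, hA', hA]
      simp [smul_smul, mul_div_cancel₀ _ hr]
    obtain ⟨-, he'', -⟩ := C.line_iso P.e_ne he hE'
    obtain ⟨A₀, B₀, e₁⟩ := (C.liteS i).tens_two_lines hx hd he hde hd' he'' (fun b => h b) (fun b => hE' b)
    exact C.tens_std hx ⟨B₀, A₀, fun u b => e₁ b u⟩
  · -- the torus of order four
    haveI : Nontrivial (Vt F k t) := C.nontrivW
    set l := f z z / f z' z' with hl
    have hsim : ∀ a b, frm f t (G a) (G b) = l * frm f t a b := fun a b => by
      rw [hl, div_mul_eq_mul_div, eq_div_iff hz', mul_comm]; exact hGG a b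
    obtain ⟨s, hs⟩ := OrthTensor.isSquare_of_sim (frm_nondeg hf) (div_ne_zero zz hz') hsim
      (by rw [finrank_Vt]; exact C.kodd.pow)
    have hs0 : s ≠ 0 := fun e0 => div_ne_zero zz hz' (by rw [hs, e0, mul_zero])
    obtain ⟨g, hg⟩ : ∃ g : OQ (qT f t), ∀ a, (g : Vt F k t ≃ₗ[F] Vt F k t) a = s⁻¹ • G a :=
      ⟨ofPreserves (qT_nd hf) (s⁻¹ • G) (preserves_qT hf fun ξ η => by
        simp only [LinearMap.smul_apply, map_smul, smul_eq_mul, hsim, hl]
        rw [show f z z / f z' z' = s * s from hs]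
        field_simp), fun a => by rw [ofPreserves_apply]; rfl⟩
    obtain ⟨P', hP'd, hP'z⟩ := exists_frame_perp hf hd'0 hd' hd'z' hz'
    obtain ⟨u, hud, huz⟩ := exists_map_frame hf hk P P' (z' := s • z') dz ez zz
      (by simp [hP'd, hd'z']) (by simp [hP'z]) (by
        simp only [map_smul, LinearMap.smul_apply, smul_eq_mul]
        rw [← mul_assoc, ← hs, div_mul_cancel₀ _ hz'])
    obtain ⟨c, m', ε, hm', hε, hcd, -, -, hcz, hc⟩ := exists_comp hf C.kodd C.five i P dz ez zz (slot hf i u⁻¹)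
    set y := slot hf i c * slot hf i u⁻¹
    have hys : IsStd y := (isStd_slot hf i c).mul (isStd_slot hf i _)
    have hu1 : ((u⁻¹ : OQ (qU f)) : Ud F k ≃ₗ[F] Ud F k) d' = d :=
      (u : Ud F k ≃ₗ[F] Ud F k).symm_apply_eq.2 (by rw [show d = P.d from rfl, hud, hP'd])
    have hu2 : ((u⁻¹ : OQ (qU f)) : Ud F k ≃ₗ[F] Ud F k) (s • z') = z :=
      (u : Ud F k ≃ₗ[F] Ud F k).symm_apply_eq.2 huz.symm
    have hn : Nrm i P.d z (y * x) g (m' * (r * s)) ε := by
      refine ⟨mul_ne_zero hm' (mul_ne_zero hr hs0), fun e0 => by simp [e0] at hε, fun a => ?_, fun a => ?_⟩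
      · simp only [Subgroup.coe_mul, LinearEquiv.mul_apply, y]
        rw [show Tm i P.d a = Tm i d a from rfl, h, slot_Tm_self, slot_Tm_self, hu1, show d = P.d from rfl, hcd, hA, hg]
        simp [smul_smul, hs0, mul_assoc, mul_comm r]
      · simp only [Subgroup.coe_mul, LinearEquiv.mul_apply, y]
        rw [hG, show Tm i z' (G a) = Tm i (s • z') ((g : Vt F k t ≃ₗ[F] Vt F k t) a) by simp [hg, smul_smul, hs0],
          slot_Tm_self, slot_Tm_self, hu2, hcz]
        simp
    have h1 := C.nrm_all hk (m := m) h4 P dz ez zz (X.mul_mem (C.base _ hc hys) hx) hn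
    have h3 := (C.isStd_inv hys).mul h1
    rwa [inv_mul_cancel_left] at h3

/-- **An element mapping an isotropic line of pure tensors to such a line is standard.** -/
theorem line_std {x : OQ (qT f (t + 1))} (hx : x ∈ X) {i : Fin (t + 1)} {d d' : Ud F k} (hd0 : d ≠ 0)
    (hd : f d d = 0) {A : Module.End F (Vt F k t)}
    (h : ∀ a, (x : Vt F k (t + 1) ≃ₗ[F] Vt F k (t + 1)) (Tm i d a) = Tm i d' (A a)) : IsStd x := by
  rcases C.hk5 with hk | hk
  · exact C.line_three hk hx hd0 hd h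
  · exact C.line_five hk hx hd0 hd h

/-- **An element conjugating a Siegel element of one factor to an element of one factor is standard.** -/
theorem conj_std {x : OQ (qT f (t + 1))} (hx : x ∈ X) {i j : Fin (t + 1)} {d z : Ud F k} (hd0 : d ≠ 0)
    (hd : f d d = 0) (hdz : f d z = 0) (hz : f z z ≠ 0) {v : OQ (qU f)}
    (e : x * slot hf i (sU hf hd hdz) * x⁻¹ = slot hf j v) : IsStd x := by
  classical
  have key : ∀ (y : OQ (qT f (t + 1))) (w : OQ (qU f)), y ∈ X →
      y * slot hf i (sU hf hd hdz) * y⁻¹ = slot hf i w → IsStd y := by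
    intro y w hy ey
    obtain ⟨A, d', -, hmap⟩ := (C.liteS i).line_of_siegel (x := y) (σ := slot hf i (sU hf hd hdz)) hd0 hd hdz hz
      (fun p q => by rw [LinearMap.flip_apply, LinearMap.flip_apply, slot_Tm_self, sU, mkU_apply])
      (B := lm w) (fun p q => by rw [ey, LinearMap.flip_apply, LinearMap.flip_apply, slot_Tm_self]; rfl)
    exact C.line_std hy hd0 hd (d' := d') (A := A) fun a => hmap a
  by_cases hij : j = i
  · subst hij; exact key x v hx e
  set p := pel hf (Equiv.swap j i)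
  obtain ⟨u, hu⟩ := exists_class hf C.k3 C.kodd C.five i p
  have hys : IsStd (slot hf i u * p) := (isStd_slot hf i u).mul (isStd_pel hf _)
  have hy := C.base _ hu hys
  have hp : p * slot hf j v = slot hf i v * p := by
    rw [pel_slot, Equiv.swap_apply_left]
  have h1 := key (slot hf i u * p * x) (u * v * u⁻¹) (X.mul_mem hy hx) (by
    rw [map_mul, map_mul, map_inv]
    calc slot hf i u * p * x * slot hf i (sU hf hd hdz) * (slot hf i u * p * x)⁻¹
        = slot hf i u * (p * (x * slot hf i (sU hf hd hdz) * x⁻¹)) * p⁻¹ * (slot hf i u)⁻¹ := by group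
      _ = slot hf i u * slot hf i v * (slot hf i u)⁻¹ := by rw [e, hp]; group)
  have h2 := (C.isStd_inv hys).mul h1
  rwa [inv_mul_cancel_left] at h2

/-- **The centraliser of a Siegel element of one factor.** -/
theorem centr_sigma {x : OQ (qT f (t + 1))} (hx : x ∈ X) {i : Fin (t + 1)} {d z : Ud F k} (hd0 : d ≠ 0)
    (hd : f d d = 0) (hdz : f d z = 0) (hz : f z z ≠ 0) (h : Commute x (slot hf i (sU hf hd hdz))) : IsStd x :=
  C.conj_std hx hd0 hd hdz hz (j := i) (v := sU hf hd hdz) (mul_inv_eq_of_eq_mul h.eq)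

end Ctx

end CfsgLib.Geo.OrthWreath
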