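/-
The difference of the dimensions of the two eigenspaces of an involution, on monomial bases.
-/
import Cfsg.Agent.Lib.Geo.OrthWreath.Mono

set_option autoImplicit false
set_option linter.unusedSectionVars false

namespace CfsgLib.Geo.OrthWreath

open CfsgLib.Classical CfsgLib.Classical.Quad Module
open CfsgLib.Geo.MixTensor (SymForm)
open CfsgLib.Geo.TensorWreath (pvec)
open LinearMap (BilinForm)

variable {F : Type*} [Field F] {V : Type*} [AddCommGroup V] [Module F V] [FiniteDimensional F V]

/-- The fixed space of a map. -/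
def fixS (L : Module.End F V) : Submodule F V := LinearMap.ker (L - 1)

theorem mem_fixS {L : Module.End F V} {v : V} : v ∈ fixS L ↔ L v = v := by
  simp [fixS, sub_eq_zero]

/-- The difference of the dimensions of the fixed and the inverted vectors. -/
noncomputable def dd (L : Module.End F V) : ℤ := (finrank F (fixS L) : ℤ) - finrank F (fixS (-L))

theorem fixS_add (h2 : (2 : F) ≠ 0) {L : Module.End F V} (hL : L * L = 1) :
    finrank F (fixS L) + finrank F (fixS (-L)) = finrank F V := by
  have e : fixS L ⊔ fixS (-L) = ⊤ := eq_top_iff.2 fun v _ => by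
    have hLL : L (L v) = v := by rw [← Module.End.mul_apply, hL, Module.End.one_apply]
    refine Submodule.mem_sup.2 ⟨(2 : F)⁻¹ • (v + L v), ?_, (2 : F)⁻¹ • (v - L v), ?_, ?_⟩
    · rw [mem_fixS, map_smul, map_add, hLL, add_comm]
    · rw [mem_fixS, LinearMap.neg_apply, map_smul, map_sub, hLL, ← smul_neg, neg_sub]
    · match_scalars <;> field_simp <;> ring
  have d : fixS L ⊓ fixS (-L) = ⊥ := eq_bot_iff.2 fun v ⟨h, h'⟩ => by
    rw [SetLike.mem_coe, mem_fixS] at h h'
    rw [LinearMap.neg_apply, h, neg_eq_iff_add_eq_zero, ← two_smul F] at h'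
    exact (smul_eq_zero.1 h').resolve_left h2
  rw [← Submodule.finrank_sup_add_finrank_inf_eq, e, d, finrank_top, finrank_bot, add_zero]

theorem finrank_fixS_le {ι : Type*} [Fintype ι] [DecidableEq ι] [DecidableEq F] (h2 : (2 : F) ≠ 0) (b : Basis ι F V) {σ : ι → ι}
    {ε : ι → F} (hε : ∀ a, ε a = 1 ∨ ε a = -1) {L : Module.End F V} (hL : L * L = 1)
    (hb : ∀ a, L (b a) = ε a • b (σ a)) (M : Finset ι) (hM : ∀ a, σ a ≠ a → a ∈ M ∨ σ a ∈ M) :
    finrank F (fixS L) ≤ (Finset.univ.filter fun a => σ a = a ∧ ε a = 1).card + M.card := by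
  classical
  set S : Finset ι := (Finset.univ.filter fun a => σ a = a ∧ ε a = 1) ∪ M
  set N : Module.End F V := 1 + L
  have hN : ∀ a, N (b a) ∈ Submodule.span F (↑(S.image fun a => N (b a)) : Set V) := by
    intro a
    by_cases ha : σ a = a
    · rcases hε a with he | he
      · exact Submodule.subset_span (Finset.mem_image_of_mem _ (Finset.mem_union_left _ (by simp [ha, he])))
      · rw [show N (b a) = 0 by simp [N, hb, ha, he]]
        exact zero_mem _
    · rcases hM a ha with h | h
      · exact Submodule.subset_span (Finset.mem_image_of_mem _ (Finset.mem_union_right _ h))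
      · have h0 : ε a ≠ 0 := by rcases hε a with he | he <;> simp [he]
        have e1 : b (σ a) = (ε a)⁻¹ • L (b a) := by rw [hb, inv_smul_smul₀ h0]
        have e2 : N (b a) = ε a • N (b (σ a)) := by
          have e3 : L (L (b a)) = b a := by rw [← Module.End.mul_apply, hL, Module.End.one_apply]
          simp only [N, LinearMap.add_apply, Module.End.one_apply, e1, map_smul, e3]
          match_scalars <;> field_simp
        rw [e2]
        exact Submodule.smul_mem _ _ (Submodule.subset_span (Finset.mem_image_of_mem _ (Finset.mem_union_right _ h)))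
  have hle : fixS L ≤ Submodule.span F (↑(S.image fun a => N (b a)) : Set V) := by
    intro v hv
    rw [mem_fixS] at hv
    have e1 : N v = (2 : F) • v := by simp [N, hv, two_smul]
    have e2 : N v ∈ Submodule.span F (↑(S.image fun a => N (b a)) : Set V) := by
      rw [← b.sum_repr v, map_sum]
      exact Submodule.sum_mem _ fun a _ => by rw [map_smul]; exact Submodule.smul_mem _ _ (hN a)
    rw [e1] at e2
    exact (Submodule.smul_mem_iff _ h2).1 e2
  exact (Submodule.finrank_mono hle).trans ((finrank_span_finset_le_card _).trans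
    (Finset.card_image_le.trans (Finset.card_union_le _ _)))

/-- **The difference of dimensions on a monomial basis.** -/
theorem dd_monomial {ι : Type*} [Fintype ι] [DecidableEq ι] (h2 : (2 : F) ≠ 0) (b : Basis ι F V) {σ : ι → ι}
    {ε : ι → ℤ} (hε : ∀ a, ε a = 1 ∨ ε a = -1) (hσ : ∀ a, σ (σ a) = a) {L : Module.End F V} (hL : L * L = 1)
    (hb : ∀ a, L (b a) = (ε a : F) • b (σ a)) :
    dd L = ∑ a ∈ Finset.univ.filter fun a => σ a = a, ε a := by
  classical
  let e := Fintype.equivFin ι
  set M : Finset ι := Finset.univ.filter fun a => e a < e (σ a)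
  have hM : ∀ a, σ a ≠ a → a ∈ M ∨ σ a ∈ M := fun a ha => by
    rcases lt_trichotomy (e a) (e (σ a)) with h | h | h
    · exact Or.inl (by simp [M, h])
    · exact absurd (e.injective h).symm ha
    · exact Or.inr (by simp [M, hσ, h])
  set P := Finset.univ.filter fun a => σ a = a ∧ ε a = 1
  set N := Finset.univ.filter fun a => σ a = a ∧ ε a = -1
  have hεF : ∀ a, (ε a : F) = 1 ∨ (ε a : F) = -1 := fun a => by rcases hε a with h | h <;> simp [h]
  have hne : (1 : F) ≠ -1 := fun h => h2 (by linear_combination h)
  have h1 : finrank F (fixS L) ≤ P.card + M.card := by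
    refine (finrank_fixS_le h2 b hεF hL hb M hM).trans (le_of_eq (congrArg (fun S : Finset ι => S.card + M.card) ?_))
    ext a
    rcases hε a with h | h <;> simp [P, h, Ne.symm hne]
  have h3 : finrank F (fixS (-L)) ≤ N.card + M.card := by
    refine (finrank_fixS_le h2 b (σ := σ) (ε := fun a => -(ε a : F))
      (fun a => by rcases hεF a with h | h <;> simp [h]) (by rw [neg_mul_neg, hL])
      (fun a => by rw [LinearMap.neg_apply, hb, neg_smul]) M hM).trans (le_of_eq (congrArg (fun S : Finset ι => S.card + M.card) ?_))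
    ext a
    rcases hε a with h | h <;> simp [N, h, Ne.symm hne]
  have hcard : P.card + N.card + (M.card + M.card) = Fintype.card ι := by
    set M' : Finset ι := Finset.univ.filter fun a => e (σ a) < e a
    have e2 : M'.card = M.card := by
      refine Finset.card_bij' (fun a _ => σ a) (fun a _ => σ a) ?_ ?_ (fun a _ => hσ a) fun a _ => hσ a <;>
        intro a ha <;> simpa [M, M', hσ] using ha
    have hP : (Finset.univ.filter fun a => σ a = a).card = P.card + N.card := by
      rw [← Finset.card_union_of_disjoint]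
      · congr 1
        ext a
        rcases hε a with h | h <;> simp [P, N, h]
      · exact Finset.disjoint_filter.2 fun a _ ha hb' => by
          have := ha.2.symm.trans hb'.2
          omega
    have hQ : (Finset.univ.filter fun a => ¬ σ a = a).card = M.card + M'.card := by
      rw [← Finset.card_union_of_disjoint]
      · congr 1
        ext a
        simp only [M, M', Finset.mem_filter, Finset.mem_univ, true_and, Finset.mem_union]
        constructor
        · intro ha
          exact lt_or_gt_of_ne fun h => ha (e.injective h).symm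
        · rintro (h | h) he <;> rw [he] at h <;> exact lt_irrefl _ h
      · exact Finset.disjoint_filter.2 fun a _ ha hb' => lt_asymm ha hb'
    have := Finset.card_filter_add_card_filter_not (s := (Finset.univ : Finset ι)) fun a => σ a = a
    rw [hP, hQ, e2, Finset.card_univ] at this
    omega
  have hsum := fixS_add h2 hL
  rw [finrank_eq_card_basis b] at hsum
  have hPN : ∑ a ∈ Finset.univ.filter (fun a => σ a = a), ε a = (P.card : ℤ) - N.card := by
    rw [← Finset.sum_filter_add_sum_filter_not (Finset.univ.filter fun a => σ a = a) fun a => ε a = 1]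
    rw [Finset.filter_filter, Finset.filter_filter]
    have hN' : (Finset.univ.filter fun a => σ a = a ∧ ¬ ε a = 1) = N := by
      ext a
      rcases hε a with h | h <;> simp [N, h]
    rw [hN', Finset.sum_congr rfl (g := fun _ => (1 : ℤ)) fun a ha => (Finset.mem_filter.1 ha).2.2,
      Finset.sum_congr (s₁ := N) rfl (g := fun _ => (-1 : ℤ)) fun a ha => (Finset.mem_filter.1 ha).2.2]
    simp [P]
    ring
  rw [hPN, dd]
  omega

theorem dd_conj {Q : QuadraticForm F V} (g x : OQ Q) : dd (lm (g * x * g⁻¹)) = dd (lm x) := by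
  have key : ∀ (L L' : Module.End F V), (∀ v, L' ((g : V ≃ₗ[F] V) v) = (g : V ≃ₗ[F] V) (L v)) →
      finrank F (fixS L') = finrank F (fixS L) := by
    intro L L' h
    have e : fixS L' = (fixS L).map ((g : V ≃ₗ[F] V) : V →ₗ[F] V) := by
      ext v
      obtain ⟨u, rfl⟩ := (g : V ≃ₗ[F] V).surjective v
      rw [mem_fixS, h, (g : V ≃ₗ[F] V).injective.eq_iff]
      exact ⟨fun hu => ⟨u, mem_fixS.2 hu, rfl⟩, fun ⟨u', hu', e'⟩ => by
        rw [← (g : V ≃ₗ[F] V).injective e']; exact mem_fixS.1 hu'⟩
    rw [e, LinearEquiv.finrank_map_eq]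
  have hx : ∀ v, lm (g * x * g⁻¹) ((g : V ≃ₗ[F] V) v) = (g : V ≃ₗ[F] V) (lm x v) := fun v => by
    rw [lm_mul, lm_mul, Module.End.mul_apply, Module.End.mul_apply]
    exact congrArg (fun z => lm g (lm x z)) (LinearMap.congr_fun (lm_inv_mul g) v)
  rw [dd, dd, key _ _ hx, key (-lm x) (-lm (g * x * g⁻¹)) fun v => by
    rw [LinearMap.neg_apply, hx, LinearMap.neg_apply, map_neg]]

/-! ### Bases of pure tensors -/

variable {k t : ℕ}

/-- Bases of the factors give a basis of pure tensors. -/
theorem exists_pbasis (B : Fin t → Basis (Fin k) F (Ud F k)) :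
    ∃ b : Basis (Fin t → Fin k) F (Vt F k t), ∀ c, b c = pvec fun l => B l (c l) := by
  classical
  set v : (Fin t → Fin k) → Vt F k t := fun c => pvec fun l => B l (c l)
  have hspan : ⊤ ≤ Submodule.span F (Set.range v) := by
    rw [← span_pvec, Submodule.span_le]
    rintro _ ⟨ξ, rfl⟩
    suffices H : ∀ (s : Finset (Fin t)) (ξ : Fin t → Ud F k), (∀ l, l ∉ s → ∃ j, ξ l = B l j) →
        pvec ξ ∈ Submodule.span F (Set.range v) from H Finset.univ ξ fun l hl => absurd (Finset.mem_univ l) hl
    intro s
    induction s using Finset.induction with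
    | empty =>
      intro ξ hξ
      choose c hc using fun l => hξ l (Finset.notMem_empty l)
      exact Submodule.subset_span ⟨c, congrArg pvec (funext fun l => (hc l).symm)⟩
    | @insert a s has ih =>
      intro ξ hξ
      let L : Ud F k →ₗ[F] Vt F k t :=
        { toFun := fun u => pvec (Function.update ξ a u)
          map_add' := fun u u' => pvec_update_add ξ a u u'
          map_smul' := fun c u => pvec_update_smul ξ a c u }
      have e : pvec ξ = L (ξ a) := congrArg pvec (Function.update_eq_self a ξ).symm
      rw [e, ← (B a).sum_repr (ξ a), map_sum]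
      refine Submodule.sum_mem _ fun j _ => ?_
      rw [map_smul]
      refine Submodule.smul_mem _ _ (ih _ fun l hl => ?_)
      by_cases hla : l = a
      · subst hla; exact ⟨j, Function.update_self ..⟩
      · rw [Function.update_of_ne hla]
        exact hξ l (by simp [hla, hl])
  refine ⟨basisOfTopLeSpanOfCardEqFinrank v hspan (by simp [finrank_Vt]), fun c => ?_⟩
  rw [coe_basisOfTopLeSpanOfCardEqFinrank]

/-- An involutive map has a basis of fixed and inverted vectors. -/
theorem exists_sign_basis (h2 : (2 : F) ≠ 0) {L : Module.End F (Ud F k)} (hL : L * L = 1) :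
    ∃ (b : Basis (Fin k) F (Ud F k)) (ε : Fin k → ℤ), (∀ j, ε j = 1 ∨ ε j = -1) ∧
      (∀ j, L (b j) = (ε j : F) • b j) := by
  classical
  set p := fixS L
  set q := fixS (-L)
  have hsum := fixS_add h2 hL
  rw [finrank_fin_fun] at hsum
  let bp := finBasis F p
  let bq := finBasis F q
  let e : Fin (finrank F p) ⊕ Fin (finrank F q) ≃ Fin k := finSumFinEquiv.trans (finCongr hsum)
  let v : Fin k → Ud F k := fun j => Sum.elim (fun a => ((bp a : p) : Ud F k)) (fun a => ((bq a : q) : Ud F k)) (e.symm j)
  have hspan : ⊤ ≤ Submodule.span F (Set.range v) := by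
    intro u _
    have hLL : L (L u) = u := by rw [← Module.End.mul_apply, hL, Module.End.one_apply]
    have h1 : u + L u ∈ p := mem_fixS.2 (by rw [map_add, hLL, add_comm])
    have h3 : u - L u ∈ q := mem_fixS.2 (by rw [LinearMap.neg_apply, map_sub, hLL, neg_sub])
    have hv1 : ∀ a, ((bp a : p) : Ud F k) ∈ Submodule.span F (Set.range v) := fun a =>
      Submodule.subset_span ⟨e (Sum.inl a), by simp [v]⟩
    have hv2 : ∀ a, ((bq a : q) : Ud F k) ∈ Submodule.span F (Set.range v) := fun a =>
      Submodule.subset_span ⟨e (Sum.inr a), by simp [v]⟩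
    have m1 : u + L u ∈ Submodule.span F (Set.range v) := by
      rw [show u + L u = ((⟨_, h1⟩ : p) : Ud F k) from rfl, ← bp.sum_repr ⟨_, h1⟩, Submodule.coe_sum]
      exact Submodule.sum_mem _ fun a _ => Submodule.smul_mem _ _ (hv1 a)
    have m2 : u - L u ∈ Submodule.span F (Set.range v) := by
      rw [show u - L u = ((⟨_, h3⟩ : q) : Ud F k) from rfl, ← bq.sum_repr ⟨_, h3⟩, Submodule.coe_sum]
      exact Submodule.sum_mem _ fun a _ => Submodule.smul_mem _ _ (hv2 a)
    have m3 := Submodule.smul_mem _ (2 : F)⁻¹ (Submodule.add_mem _ m1 m2)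
    convert m3 using 1
    match_scalars <;> field_simp <;> ring
  refine ⟨basisOfTopLeSpanOfCardEqFinrank v hspan (by simp), fun j => Sum.elim (fun _ => 1) (fun _ => -1) (e.symm j),
    fun j => ?_, fun j => ?_⟩
  · dsimp only
    generalize e.symm j = x
    rcases x with a | a <;> simp
  · rw [coe_basisOfTopLeSpanOfCardEqFinrank]
    simp only [v]
    generalize e.symm j = x
    rcases x with a | a
    · simpa using mem_fixS.1 (bp a).2
    · have h := mem_fixS.1 (bq a).2
      rw [LinearMap.neg_apply, neg_eq_iff_eq_neg] at h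
      simpa using h

variable {f : BilinForm F (Ud F k)}

/-- The difference of dimensions of a product of factor elements. -/
theorem dd_slots (hf : SymForm f) {g : OQ (qT f t)} {us : Fin t → OQ (qU f)}
    (hg : ∀ ξ, (g : Vt F k t ≃ₗ[F] Vt F k t) (pvec ξ) = pvec fun l => (us l : Ud F k ≃ₗ[F] Ud F k) (ξ l))
    (h : ∀ l, us l * us l = 1) : dd (lm g) = ∏ l, dd (lm (us l)) := by
  classical
  choose B ε hε hB using fun l => exists_sign_basis hf.two (L := lm (us l)) (by rw [← lm_mul, h, lm_one])
  obtain ⟨b, hb⟩ := exists_pbasis B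
  have hgg : g * g = 1 := el_ext fun ξ => by
    rw [Subgroup.coe_mul, LinearEquiv.mul_apply, hg, hg]
    simp only [← LinearEquiv.mul_apply, ← Subgroup.coe_mul, h]
    rfl
  rw [dd_monomial hf.two b (σ := id) (ε := fun c => ∏ l, ε l (c l))
    (fun c => by
      refine Finset.prod_induction (p := fun x : ℤ => x = 1 ∨ x = -1) _ ?_ (Or.inl rfl) fun l _ => hε l (c l)
      rintro x y (rfl | rfl) (rfl | rfl) <;> simp)
    (fun _ => rfl) (by rw [← lm_mul, hgg, lm_one]) fun c => by
      rw [id, hb, lm, LinearEquiv.coe_coe, hg]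
      simp only [show ∀ l, (us l : Ud F k ≃ₗ[F] Ud F k) (B l (c l)) = (ε l (c l) : F) • B l (c l) from
        fun l => hB l (c l), pvec_smul_all]
      push_cast
      rfl]
  have e : ∀ l, dd (lm (us l)) = ∑ j, ε l j := fun l => by
    rw [dd_monomial hf.two (B l) (σ := id) (hε l) (fun _ => rfl) (by rw [← lm_mul, h, lm_one]) (hB l)]
    simp
  simp only [e, Fintype.prod_sum, id, Finset.filter_true]

end CfsgLib.Geo.OrthWreath
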