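/-
The negative reflections of one factor, and the vectors for which they lie in the commutator group.
-/
import Cfsg.Agent.Lib.Geo.OrthWreath.ConjStd
import Cfsg.Agent.Lib.Geo.OrthWreath.Sign

set_option autoImplicit false
set_option linter.unusedSectionVars false

namespace CfsgLib.Geo.OrthWreath

open CfsgLib.Classical CfsgLib.Classical.Quad Module
open CfsgLib.Known.OmegaCriterion
open CfsgLib.Geo.MixTensor (SymForm refl refl_apply)
open CfsgLib.Geo.TensorWreath (pvec)
open LinearMap (BilinForm)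

variable {F : Type*} [Field F] {k t : ℕ} {f : BilinForm F (Ud F k)}

section Defs

variable (hf : SymForm f)

/-- The negative reflection in a vector. -/
noncomputable def nr (c : Ud F k) : OQ (qU f) := by
  classical
  exact if h : f c c = 0 then 1 else
    mkU hf (A := (2 * (f c c)⁻¹) • (f c).smulRight c - LinearMap.id) fun a b => by
      simp only [LinearMap.sub_apply, LinearMap.smul_apply, LinearMap.smulRight_apply, LinearMap.id_apply,
        map_sub, map_smul, smul_eq_mul, hf.symm c a, hf.symm c b]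
      field_simp
      ring

variable {hf}

theorem nr_apply {c : Ud F k} (hc : f c c ≠ 0) (y : Ud F k) :
    (nr hf c : Ud F k ≃ₗ[F] Ud F k) y = (2 * (f c c)⁻¹ * f c y) • c - y := by
  rw [nr, dif_neg hc, mkU_apply]
  simp [smul_smul]

theorem nr_self {c : Ud F k} (hc : f c c ≠ 0) : (nr hf c : Ud F k ≃ₗ[F] Ud F k) c = c := by
  rw [nr_apply hc, mul_assoc, inv_mul_cancel₀ hc]; module

theorem nr_perp {c y : Ud F k} (hc : f c c ≠ 0) (h : f c y = 0) :
    (nr hf c : Ud F k ≃ₗ[F] Ud F k) y = -y := by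
  rw [nr_apply hc, h]; simp

theorem nr_fix {c y : Ud F k} (hc : f c c ≠ 0) (h : (nr hf c : Ud F k ≃ₗ[F] Ud F k) y = y) :
    y = ((f c c)⁻¹ * f c y) • c := by
  rw [nr_apply hc, sub_eq_iff_eq_add, ← two_smul F y, mul_assoc, mul_smul] at h
  exact (smul_right_injective _ hf.two h).symm

theorem nr_sq (c : Ud F k) : nr hf c * nr hf c = 1 := by
  by_cases hc : f c c = 0
  · rw [nr, dif_pos hc, one_mul]
  refine qU_ext hf fun y => ?_
  rw [Subgroup.coe_mul, LinearEquiv.mul_apply, nr_apply hc, nr_apply hc]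
  simp only [map_sub, map_smul, smul_eq_mul, OneMemClass.coe_one, LinearEquiv.coe_one, id_eq]
  match_scalars <;> field_simp <;> ring

theorem nr_smul (c : Ud F k) {s : F} (hs : s ≠ 0) : nr hf (s • c) = nr hf c := by
  by_cases hc : f c c = 0
  · rw [nr, nr, dif_pos hc, dif_pos (by simp [hc])]
  refine qU_ext hf fun y => ?_
  rw [nr_apply hc, nr_apply (by simp [hc, hs])]
  simp only [map_smul, LinearMap.smul_apply, smul_eq_mul, smul_smul]
  match_scalars <;> field_simp

theorem conj_nr (u : OQ (qU f)) (c : Ud F k) :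
    u * nr hf c * u⁻¹ = nr hf ((u : Ud F k ≃ₗ[F] Ud F k) c) := by
  by_cases hc : f c c = 0
  · rw [nr, nr, dif_pos hc, dif_pos (by rw [map_f hf]; exact hc), mul_one, mul_inv_cancel]
  rw [mul_inv_eq_iff_eq_mul]
  refine qU_ext hf fun y => ?_
  simp only [Subgroup.coe_mul, LinearEquiv.mul_apply]
  rw [nr_apply hc, nr_apply (by rw [map_f hf]; exact hc), map_f hf, map_f hf, map_sub, map_smul]

theorem nr_inj {a b : Ud F k} (ha : f a a ≠ 0) (hb : f b b ≠ 0) (h : nr hf a = nr hf b) :
    ∃ s : F, s ≠ 0 ∧ b = s • a := by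
  have h1 : (nr hf a : Ud F k ≃ₗ[F] Ud F k) b = b := by rw [h]; exact nr_self hb
  refine ⟨_, fun e => ?_, nr_fix ha h1⟩
  have := nr_fix ha h1
  rw [e, zero_smul] at this
  exact hb (by simp [this])

theorem nr_commute {a b : Ud F k} (ha : f a a ≠ 0) (hb : f b b ≠ 0) (hab : f a b = 0) :
    Commute (nr hf a) (nr hf b) := by
  refine mul_inv_eq_iff_eq_mul.1 ?_
  rw [conj_nr, nr_perp ha hab, ← neg_one_smul F b, nr_smul b (neg_ne_zero.2 one_ne_zero)]

theorem nr_mul_nr {a b : Ud F k} (ha : f a a ≠ 0) (hb : f b b ≠ 0) :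
    nr hf a * nr hf b = rfU hf ha * rfU hf hb := by
  refine qU_ext hf fun y => ?_
  simp only [Subgroup.coe_mul, LinearEquiv.mul_apply, nr_apply ha, nr_apply hb, rfU_apply, MixTensor.refl_apply,
    map_sub, map_smul, smul_eq_mul]
  match_scalars <;> field_simp <;> ring

theorem rr_self {a b : Ud F k} (ha : f a a ≠ 0) (hb : f b b ≠ 0) (hab : f a b = 0) :
    ((nr hf a * nr hf b : OQ (qU f)) : Ud F k ≃ₗ[F] Ud F k) a = -a := by
  rw [Subgroup.coe_mul, LinearEquiv.mul_apply, nr_perp hb (by rw [hf.symm]; exact hab), map_neg, nr_self ha]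

theorem rr_perp {a b y : Ud F k} (ha : f a a ≠ 0) (hb : f b b ≠ 0) (h1 : f a y = 0) (h2 : f b y = 0) :
    ((nr hf a * nr hf b : OQ (qU f)) : Ud F k ≃ₗ[F] Ud F k) y = y := by
  rw [Subgroup.coe_mul, LinearEquiv.mul_apply, nr_perp hb h2, map_neg, nr_perp ha h1, neg_neg]

/-- A conjugate is a scalar multiple only for the scalar one. -/
theorem scalar_eq_one (hko : Odd k) {u w : OQ (qU f)} {l : F} (hl : l * l = 1)
    (h : ∀ y, ((u * w * u⁻¹ : OQ (qU f)) : Ud F k ≃ₗ[F] Ud F k) y = l • (w : Ud F k ≃ₗ[F] Ud F k) y) : l = 1 := by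
  have e : lm (u * w * u⁻¹) = l • lm w := LinearMap.ext fun y => h y
  have hdet := congrArg LinearMap.det e
  rw [lm_mul, lm_mul, map_mul, map_mul, LinearMap.det_smul, finrank_fin_fun, mul_right_comm, ← map_mul,
    lm_mul_inv, map_one, one_mul] at hdet
  have hw : LinearMap.det (lm w) ≠ 0 := fun h0 => by
    have := congrArg LinearMap.det (lm_mul_inv w)
    rw [map_mul, h0, zero_mul, map_one] at this
    exact zero_ne_one this
  have h1 : l ^ k = 1 := mul_right_cancel₀ hw (by rw [one_mul, ← hdet])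
  obtain ⟨n, rfl⟩ := hko
  rwa [pow_succ, pow_mul, sq, hl, one_pow, one_mul] at h1

end Defs

/-- A vector whose negative reflection lies in the commutator group. -/
def Good (hf : SymForm f) (t : ℕ) (c : Ud F k) : Prop :=
  f c c ≠ 0 ∧ slot hf (0 : Fin (t + 1)) (nr hf c) ∈ commutator (OQ (qT f (t + 1)))

variable [Finite F]

/-- The product of two reflections of vectors of the same norm. -/
theorem slot_rr_comm {hf : SymForm f} (hko : Odd k) (h5 : 5 ≤ finrank F (Vt F k (t + 1))) (i : Fin (t + 1))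
    {a b : Ud F k} (ha : f a a ≠ 0) (hab : f b b = f a a) :
    slot hf i (nr hf a * nr hf b) ∈ commutator (OQ (qT f (t + 1))) := by
  have hb : f b b ≠ 0 := hab ▸ ha
  obtain ⟨K₀, h⟩ := refl_class hf hko h5 i
  have hQ := qT_nd hf (t := t + 1)
  have hR := reflTop hf h5
  obtain ⟨pa, sa⟩ := h a ha
  obtain ⟨pb, sb⟩ := h b hb
  rw [nr_mul_nr ha hb, map_mul, mem_commutator_iff hQ hR, par_mul hQ hR, spinor_mul hQ hR, pa, pb, sa, sb, hab,
    mul_mul_mul_comm, sqClass_mul_self, sqClass_mul_self, one_mul]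
  exact ⟨by decide, rfl⟩

theorem Good.of_norm {hf : SymForm f} (hko : Odd k) (h5 : 5 ≤ finrank F (Vt F k (t + 1))) {c c' : Ud F k}
    (hc : Good hf t c) (e : f c' c' = f c c) : Good hf t c' := by
  refine ⟨e ▸ hc.1, ?_⟩
  have h := slot_rr_comm (hf := hf) hko h5 0 hc.1 e
  rw [map_mul] at h
  exact (Subgroup.mul_mem_cancel_left _ hc.2).1 h

/-- There are good vectors. -/
theorem exists_good (hf : SymForm f) (hk : 2 ≤ k) (hko : Odd k) (h5 : 5 ≤ finrank F (Vt F k (t + 1))) :
    ∃ c, Good hf t c := by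
  obtain ⟨K₀, h⟩ := refl_class hf hko h5 (0 : Fin (t + 1))
  have hQ := qT_nd hf (t := t + 1)
  have hR := reflTop hf h5
  set g : OQ (qT f (t + 1)) := slot hf 0 (mkU hf (A := -LinearMap.id) fun a b => by simp)
  have hg : ∀ v, (g : Vt F k (t + 1) ≃ₗ[F] Vt F k (t + 1)) v = -v := fun v =>
    LinearMap.congr_fun (Tm_ext (0 : Fin (t + 1)) (L := lm g) (L' := -LinearMap.id) fun u w => by
      simp [g, lm, slot_Tm_self, mkU_apply]) v
  have hpar : par g = 1 := by
    have : mov g = ⊤ := eq_top_iff.2 fun v _ => ⟨(2 : F)⁻¹ • v, by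
      rw [movMap_apply, hg]
      match_scalars
      field_simp [hf.two]
      ring⟩
    rw [par, this, finrank_top, finrank_Vt]
    obtain ⟨n, hn⟩ := hko.pow (n := t + 1)
    rw [hn]
    push_cast
    rw [show (2 : ZMod 2) = 0 from rfl, zero_mul, zero_add]
  obtain ⟨x, hx, hxs⟩ := exists_sqc hf (K₀ * spinor g)
  obtain ⟨c, hc⟩ := exists_norm hf hk hx
  have hc' : f c c ≠ 0 := hc ▸ hx
  refine ⟨c, hc', ?_⟩
  have e : slot hf 0 (nr hf c) = g * slot hf 0 (rfU hf hc') := el_ext_Tm 0 fun u w => by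
    rw [Subgroup.coe_mul, LinearEquiv.mul_apply, slot_Tm_self, slot_Tm_self, hg, nr_apply hc', rfU_apply,
      MixTensor.refl_apply]
    simp only [map_sub, map_smul, LinearMap.sub_apply, LinearMap.smul_apply]
    match_scalars <;> field_simp
  obtain ⟨pc, sc⟩ := h c hc'
  rw [e, mem_commutator_iff hQ hR, par_mul hQ hR, spinor_mul hQ hR, hpar, pc, sc, hc, hxs, mul_comm K₀ (K₀ * _),
    mul_assoc K₀ (spinor g), mul_comm (spinor g) K₀, ← mul_assoc K₀, sqClass_mul_self, one_mul, sqClass_mul_self]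
  exact ⟨by decide, rfl⟩

namespace Core

variable {hf : SymForm f} {X : Subgroup (OQ (qT f (t + 1)))} (C : Core hf X)
include C

/-- The group of standard elements. -/
def stdIn : Subgroup (OQ (qT f (t + 1))) where
  carrier := {x | x ∈ X ∧ IsStd x}
  one_mem' := ⟨X.one_mem, isStd_one⟩
  mul_mem' := fun ha hb => ⟨X.mul_mem ha.1 hb.1, ha.2.mul hb.2⟩
  inv_mem' := fun ha => ⟨X.inv_mem ha.1, C.isStd_inv ha.2⟩

end Core

namespace Ctx

variable {hf : SymForm f} {X : Subgroup (OQ (qT f (t + 1)))} (C : Ctx hf X)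
include C

theorem nr_mem {c : Ud F k} (hc : Good hf t c) (i : Fin (t + 1)) : slot hf i (nr hf c) ∈ X :=
  C.base _ (slot_mem_of hf C.five hc.2 i) (isStd_slot hf i _)

theorem rr_mem (i : Fin (t + 1)) {a b : Ud F k} (ha : f a a ≠ 0) (hab : f b b = f a a) :
    slot hf i (nr hf a * nr hf b) ∈ X :=
  C.base _ (slot_rr_comm C.kodd C.five i ha hab) (isStd_slot hf i _)

/-- A good vector orthogonal to one or two good ones. -/
theorem exists_good_perp {a : Ud F k} (ha : Good hf t a) :
    ∃ b, Good hf t b ∧ f a b = 0 ∧ f b b = f a a := by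
  obtain ⟨b, hb, hab⟩ := hf.exists_norm_perp (Submodule.span F ({a} : Set (Ud F k))) (fun y hy hP => by
    obtain ⟨s, rfl⟩ := Submodule.mem_span_singleton.1 hy
    have h := hP a (Submodule.mem_span_singleton_self a)
    rw [map_smul, smul_eq_mul, mul_eq_zero] at h
    rw [h.resolve_right ha.1, zero_smul]) (by
      rw [finrank_span_singleton (fun h => ha.1 (by simp [h])), finrank_fin_fun]
      have := C.k3
      omega) ha.1
  exact ⟨b, ha.of_norm C.kodd C.five hb, hab a (Submodule.mem_span_singleton_self a), hb⟩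

end Ctx

end CfsgLib.Geo.OrthWreath
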