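/-
Group theory for the involutions of an overgroup: central involutions of pairs, coprime generation, isolation.
-/
import Cfsg.Agent.Lib.Classical.SwapPair
import Cfsg.Agent.Lib.PGroups.Basic
import Cfsg.Agent.Lib.LocalEven.Generation
import Cfsg.Agent.Lib.Signalizer.Involutions

set_option autoImplicit false
set_option linter.unusedSectionVars false

namespace CfsgLib.Geo.OrthWreath

open Subgroup

variable {G : Type*} [Group G] [Finite G]

/-- A normalised group in which a `p`-element centralises no element of order `p` has order prime to `p`. -/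
theorem not_dvd_of_centraliser {p : ℕ} [hp : Fact p.Prime] (K : Subgroup G) {s : G}
    (hs : IsPGroup p (zpowers s)) (hsK : s ∈ normalizer (K : Set G))
    (h : ∀ x ∈ K, x ^ p = 1 → Commute x s → x = 1) : ¬ p ∣ Nat.card K := by
  intro hdvd
  obtain ⟨x₀, hx₀⟩ := exists_prime_orderOf_dvd_card' p hdvd
  set M : Subgroup G := K ⊔ zpowers s
  have hsM : s ∈ M := (le_sup_right : zpowers s ≤ M) (mem_zpowers s)
  have hKM : K ≤ M := le_sup_left
  set K' : Subgroup M := K.subgroupOf M
  haveI hK'n : K'.Normal := normal_subgroupOf_of_le_normalizer (sup_le le_normalizer (zpowers_le.2 hsK))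
  set s' : M := ⟨s, hsM⟩
  have hs' : IsPGroup p (zpowers s') := by
    refine hs.of_injective (M.subtype.comp (zpowers s').subtype |>.codRestrict (zpowers s) fun a => ?_) ?_
    · obtain ⟨⟨a, ha⟩, n, hn⟩ := a
      refine ⟨n, ?_⟩
      simpa [s'] using congrArg Subtype.val hn
    · intro a b e
      exact Subtype.ext (Subtype.ext (by simpa using congrArg Subtype.val e))
  obtain ⟨S, hS⟩ := hs'.exists_le_sylow
  have hbot : K'.subgroupOf (S : Subgroup M) = ⊥ := by
    by_contra hne
    obtain ⟨c, hc, hc1⟩ := (ne_bot_iff_exists_ne_one.1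
      (PGroups.inf_center_ne_bot (p := p) S.isPGroup' hne) : ∃ a : (K'.subgroupOf (S : Subgroup M) ⊓ center _ :
        Subgroup (S : Subgroup M)), a ≠ 1) |>.elim fun a ha =>
          (⟨a, a.2, fun e => ha (Subtype.ext e)⟩ : ∃ c, c ∈ K'.subgroupOf (S : Subgroup M) ⊓ center _ ∧ c ≠ 1)
    obtain ⟨n, hn⟩ := S.isPGroup' c
    classical
    have hex : ∃ n, c ^ p ^ n = 1 := ⟨n, hn⟩
    have hn0 : Nat.find hex ≠ 0 := fun e => hc1 (by
      have := Nat.find_spec hex
      rwa [e, pow_zero, pow_one] at this)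
    obtain ⟨m, hm⟩ := Nat.exists_eq_succ_of_ne_zero hn0
    set d := c ^ p ^ m
    have hd1 : d ≠ 1 := Nat.find_min hex (by rw [hm]; exact Nat.lt_succ_self m)
    have hdp : d ^ p = 1 := by
      rw [← pow_mul, ← pow_succ, ← Nat.succ_eq_add_one, ← hm]; exact Nat.find_spec hex
    have hd := pow_mem hc (p ^ m)
    refine hd1 (Subtype.ext (Subtype.ext (h _ (by simpa [K', mem_subgroupOf, d] using hd.1)
      (by simpa using congrArg (fun y : (S : Subgroup M) => ((y : M) : G)) hdp) ?_)))
    have := mem_center_iff.1 hd.2 ⟨s', hS (mem_zpowers s')⟩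
    exact (congrArg (fun y : (S : Subgroup M) => ((y : M) : G)) this).symm
  have hx₀M : (x₀ : G) ∈ M := hKM x₀.2
  have hx : orderOf (⟨x₀, hx₀M⟩ : M) = p := by
    rw [← hx₀, ← orderOf_injective M.subtype M.subtype_injective, ← orderOf_injective K.subtype K.subtype_injective]
    rfl
  obtain ⟨S', hS'⟩ := (IsPGroup.of_card (n := 1) (by rw [Nat.card_zpowers, hx, pow_one]) :
    IsPGroup p (zpowers (⟨x₀, hx₀M⟩ : M))).exists_le_sylow
  obtain ⟨g, rfl⟩ := MulAction.exists_smul_eq M S S'
  have h1 := hS' (mem_zpowers _)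
  rw [Sylow.coe_subgroup_smul, Subgroup.mem_pointwise_smul_iff_inv_smul_mem] at h1
  set y := (MulAut.conj g)⁻¹ • (⟨x₀, hx₀M⟩ : M)
  have hyK : y ∈ K' := by
    have := hK'n.conj_mem (⟨x₀, hx₀M⟩ : M) (by simp [K', mem_subgroupOf]) g⁻¹
    simpa [y, MulAut.smul_def, MulAut.conj] using this
  have hy1 : (⟨y, h1⟩ : (S : Subgroup M)) ∈ K'.subgroupOf (S : Subgroup M) := mem_subgroupOf.2 hyK
  rw [hbot, mem_bot] at hy1
  have hy : y = 1 := congrArg Subtype.val hy1
  have : (⟨x₀, hx₀M⟩ : M) = 1 := by
    have := congrArg (fun z => MulAut.conj g • z) hy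
    simpa [y, MulAut.smul_def, mul_assoc] using this
  rw [this, orderOf_one] at hx
  exact hp.out.one_lt.ne hx

/-- Two involutions not conjugate in the group they generate centralise a third one. -/
theorem exists_central {x y : G} (hx : orderOf x = 2) (hy : orderOf y = 2)
    (h : ∀ d ∈ closure ({x, y} : Set G), d * x * d⁻¹ ≠ y) :
    ∃ z : G, z ∈ closure ({x, y} : Set G) ∧ orderOf z = 2 ∧ Commute z x ∧ Commute z y ∧
      ∃ d ∈ closure ({x, y} : Set G), x * z = d * x * d⁻¹ ∨ x * z = d * y * d⁻¹ := by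
  rcases Nat.even_or_odd (orderOf (x * y)) with he | ho
  · obtain ⟨h1, h2, h3⟩ := Signalizer.central_involution hx hy he
    set n := orderOf (x * y) / 2
    refine ⟨_, (Signalizer.mem_closure_pair_iff hx hy).2 ⟨n, Or.inl (zpow_natCast _ _).symm⟩, h1, h2, h3, ?_⟩
    have e : x * (x * y) ^ n = (x * y) ^ (-(n : ℤ)) * x := by
      rw [← zpow_natCast, Signalizer.mul_pair_zpow hx hy]
    rcases Nat.even_or_odd n with ⟨j, hj⟩ | ⟨j, hj⟩
    · obtain ⟨d, hd, hd'⟩ := Signalizer.exists_conj_pair_zpow hx hy (-(j : ℤ))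
      refine ⟨d, hd, Or.inl ?_⟩
      rw [e, hd']
      congr 2
      omega
    · refine ⟨(x * y) ^ (-(j : ℤ)), (Signalizer.mem_closure_pair_iff hx hy).2 ⟨_, Or.inl rfl⟩, Or.inr ?_⟩
      have hy' := Signalizer.right_eq hx hy
      have hp := Signalizer.mul_pair_zpow hx hy (j : ℤ)
      rw [e]
      generalize x * y = c at hy' hp ⊢
      rw [hy', ← zpow_neg, neg_neg, mul_assoc, mul_assoc (c ^ (-1 : ℤ)) x, hp,
        ← mul_assoc (c ^ (-1 : ℤ)), ← mul_assoc, ← zpow_add, ← zpow_add]
      congr 2
      omega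
  · obtain ⟨d, hd, hd'⟩ := Signalizer.exists_conj_of_odd hx hy ho
    exact absurd hd' (h d hd)

/-- A group of odd order is generated by the centralisers of a four group normalising it. -/
theorem le_of_four {O Y : Subgroup G} (hO : Odd (Nat.card O)) {a b : G} (ha : orderOf a = 2) (hb : orderOf b = 2)
    (hab : Commute a b) (hne : a ≠ b) (haO : a ∈ normalizer (O : Set G)) (hbO : b ∈ normalizer (O : Set G))
    (h : ∀ x ∈ O, Commute x a ∨ Commute x b ∨ Commute x (a * b) → x ∈ Y) : O ≤ Y := by
  classical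
  haveI : Fact (Nat.Prime 2) := ⟨Nat.prime_two⟩
  have ha2 := Signalizer.involution_sq ha
  have hb2 := Signalizer.involution_sq hb
  let A : Subgroup G :=
    { carrier := {1, a, b, a * b}
      one_mem' := Or.inl rfl
      mul_mem' := by
        have e1 : a * (a * b) = b := by rw [← mul_assoc, ha2, one_mul]
        have e2 : b * a = a * b := hab.eq.symm
        have e3 : b * (a * b) = a := by rw [hab.eq, ← mul_assoc, hb2, one_mul]
        have e4 : a * b * a = b := by rw [mul_assoc, e2, e1]
        have e5 : a * b * b = a := by rw [mul_assoc, hb2, mul_one]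
        have e6 : a * b * (a * b) = 1 := by rw [← mul_assoc, e4, hb2]
        intro p q hp hq
        simp only [Set.mem_insert_iff, Set.mem_singleton_iff] at hp hq ⊢
        rcases hp with hp | hp | hp | hp <;> rcases hq with hq | hq | hq | hq <;>
          simp [hp, hq, ha2, hb2, e1, e2, e3, e4, e5, e6]
      inv_mem' := by
        have ha' := Signalizer.involution_inv ha
        have hb' := Signalizer.involution_inv hb
        intro p hp
        simp only [Set.mem_insert_iff, Set.mem_singleton_iff] at hp ⊢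
        rcases hp with hp | hp | hp | hp <;> simp [hp, ha', hb', hab.eq] }
  have hmem : ∀ p, p ∈ A ↔ p = 1 ∨ p = a ∨ p = b ∨ p = a * b := fun p => Iff.rfl
  have hsq : ∀ p ∈ A, p ^ 2 = 1 := by
    intro p hp
    rcases (hmem p).1 hp with hp | hp | hp | hp <;> rw [hp]
    · exact one_pow 2
    · rw [sq, ha2]
    · rw [sq, hb2]
    · rw [hab.mul_pow, sq, sq, ha2, hb2, mul_one]
  haveI : IsMulCommutative A := ⟨⟨fun p q => Subtype.ext (by
    have hc : ∀ p ∈ A, ∀ q ∈ A, p * q = q * p := fun p hp q hq => by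
      have h1 := hsq _ (A.mul_mem hp hq)
      have i1 : p⁻¹ = p := inv_eq_of_mul_eq_one_right (by rw [← sq, hsq p hp])
      have i2 : q⁻¹ = q := inv_eq_of_mul_eq_one_right (by rw [← sq, hsq q hq])
      rw [sq] at h1
      calc p * q = (p * q)⁻¹ := eq_inv_of_mul_eq_one_left h1
        _ = _ := by rw [_root_.mul_inv_rev, i1, i2]
    exact hc p p.2 q q.2)⟩⟩
  refine LocalEven.le_of_centralizers_le (p := 2) (A := A) hsq ?_ ?_ ?_ fun c hc hc1 => ?_
  · have h4 : ({1, a, b, a * b} : Finset G).card = 4 := by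
      have h1 := Signalizer.involution_ne_one ha
      have h2 := Signalizer.involution_ne_one hb
      have h3 : a * b ≠ 1 := fun e => hne (by
        rw [← mul_inv_eq_one, Signalizer.involution_inv hb]; exact e)
      have h4 : a * b ≠ a := fun e => h2 (mul_eq_left.1 e)
      have h5 : a * b ≠ b := fun e => h1 (mul_eq_right.1 e)
      simp [h1.symm, h2.symm, h3.symm, hne, h4.symm, h5.symm]
    have e : ((A : Set G)) = (↑({1, a, b, a * b} : Finset G) : Set G) := by
      ext p
      simp [hmem]
    rw [← SetLike.coe_sort_coe, e, Nat.card_coe_set_eq, Set.ncard_coe_finset, h4]; norm_num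
  · intro p hp
    rcases (hmem p).1 hp with hp | hp | hp | hp <;> rw [hp]
    · exact one_mem _
    · exact haO
    · exact hbO
    · exact mul_mem haO hbO
  · exact fun h2 => (Nat.not_even_iff_odd.2 hO) (even_iff_two_dvd.2 h2)
  · rintro x ⟨hxO, hxc⟩
    have hx' : Commute x c := mem_centralizer_singleton_iff.1 hxc
    refine h x hxO ?_
    rcases (hmem c).1 hc with e | e | e | e
    · exact absurd e hc1
    · exact Or.inl (e ▸ hx')
    · exact Or.inr (Or.inl (e ▸ hx'))
    · exact Or.inr (Or.inr (e ▸ hx'))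

/-- An isolated involution: the group is generated by its centraliser and the odd core. -/
theorem le_of_isolated {u : G} (hu : Cfsg.IsIsolatedInvolution u) {Y : Subgroup G}
    (hc : ∀ x, Commute x u → x ∈ Y) (hO : Cfsg.oddCore G ≤ Y) (g : G) : g ∈ Y := by
  have h := Classical.SwapPair.sup_oddCore_eq_top_of_isolated hu
  have hle : centralizer ({u} : Set G) ≤ Y := fun x hx => hc x (mem_centralizer_singleton_iff.1 hx)
  exact sup_le hle hO (h.ge (mem_top g))

end CfsgLib.Geo.OrthWreath
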