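/-
Vectors orthogonal to a family of orthogonal anisotropic vectors.
-/
import Cfsg.Agent.Lib.Geo.OrthWreath.Frame

set_option autoImplicit false
set_option linter.unusedSectionVars false

namespace CfsgLib.Geo.OrthWreath

open CfsgLib.Classical CfsgLib.Classical.Quad Module
open CfsgLib.Geo.MixTensor (SymForm refl)
open LinearMap (BilinForm)

variable {F : Type*} [Field F] {k : ℕ} {f : BilinForm F (Ud F k)}

/-- Pairwise orthogonal anisotropic vectors. -/
def Orth (f : BilinForm F (Ud F k)) {n : ℕ} (v : Fin n → Ud F k) : Prop :=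
  (∀ i, f (v i) (v i) ≠ 0) ∧ ∀ i j, i ≠ j → f (v i) (v j) = 0

theorem Orth.span_nondeg {n : ℕ} {v : Fin n → Ud F k} (h : Orth f v) :
    ∀ x ∈ Submodule.span F (Set.range v), (∀ y ∈ Submodule.span F (Set.range v), f y x = 0) → x = 0 := by
  intro x hx hP
  obtain ⟨a, rfl⟩ := (Submodule.mem_span_range_iff_exists_fun F).1 hx
  refine Finset.sum_eq_zero fun j _ => ?_
  have e := hP (v j) (Submodule.subset_span ⟨j, rfl⟩)
  rw [map_sum, Finset.sum_eq_single j (fun i _ hij => by rw [map_smul, h.2 j i hij.symm, smul_zero])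
    (fun hj => absurd (Finset.mem_univ j) hj), map_smul, smul_eq_mul, mul_eq_zero] at e
  rw [e.resolve_right (h.1 j), zero_smul]

theorem Orth.finrank_le {n : ℕ} (v : Fin n → Ud F k) : finrank F (Submodule.span F (Set.range v)) ≤ n :=
  (finrank_range_le_card v).trans (by simp)

theorem Orth.cons {n : ℕ} {v : Fin n → Ud F k} (hf : SymForm f) (h : Orth f v) {w : Ud F k} (hw : f w w ≠ 0)
    (hv : ∀ i, f (v i) w = 0) : Orth f (Fin.cons w v : Fin (n + 1) → Ud F k) := by
  refine ⟨fun i => ?_, fun i j hij => ?_⟩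
  · cases i using Fin.cases with
    | zero => simpa using hw
    | succ i => simpa using h.1 i
  · cases i using Fin.cases with
    | zero =>
      cases j using Fin.cases with
      | zero => exact absurd rfl hij
      | succ j => simpa [hf.symm (v j) w] using hv j
    | succ i =>
      cases j using Fin.cases with
      | zero => simpa using hv i
      | succ j => simpa using h.2 i j (fun e => hij (by rw [e]))

theorem orth_nil : Orth f (Fin.elim0 : Fin 0 → Ud F k) := ⟨fun i => i.elim0, fun i => i.elim0⟩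

theorem orth_one {a : Ud F k} (ha : f a a ≠ 0) : Orth f ![a] :=
  ⟨fun i => by fin_cases i; simpa using ha, fun i j h => absurd (Subsingleton.elim i j) h⟩

theorem orth_two (hf : SymForm f) {a b : Ud F k} (ha : f a a ≠ 0) (hb : f b b ≠ 0) (hab : f a b = 0) :
    Orth f ![a, b] :=
  Orth.cons hf (orth_one hb) ha fun i => by fin_cases i; simpa [hf.symm a b] using hab

theorem Orth.exists_aniso {n : ℕ} {v : Fin n → Ud F k} (hf : SymForm f) (h : Orth f v) (hn : n < k) :
    ∃ w, f w w ≠ 0 ∧ ∀ i, f (v i) w = 0 := by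
  obtain ⟨w, hw, hP⟩ := OrthTensor.exists_aniso_perp hf _ h.span_nondeg
    (by rw [finrank_fin_fun]; have := Orth.finrank_le v; omega)
  exact ⟨w, hw, fun i => hP _ (Submodule.subset_span ⟨i, rfl⟩)⟩

variable [Finite F]

theorem Orth.exists_norm {n : ℕ} {v : Fin n → Ud F k} (hf : SymForm f) (h : Orth f v) (hn : n + 2 ≤ k) {c : F}
    (hc : c ≠ 0) : ∃ w, f w w = c ∧ ∀ i, f (v i) w = 0 := by
  obtain ⟨w, hw, hP⟩ := hf.exists_norm_perp _ h.span_nondeg
    (by rw [finrank_fin_fun]; have := Orth.finrank_le v; omega) hc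
  exact ⟨w, hw, fun i => hP _ (Submodule.subset_span ⟨i, rfl⟩)⟩

/-- An isotropic vector and an anisotropic one orthogonal to it and to the family. -/
theorem Orth.exists_iso {n : ℕ} {v : Fin n → Ud F k} (hf : SymForm f) (h : Orth f v) (hn : n + 3 ≤ k) :
    ∃ d z, d ≠ 0 ∧ f d d = 0 ∧ f d z = 0 ∧ f z z ≠ 0 ∧ (∀ i, f (v i) d = 0) ∧ ∀ i, f (v i) z = 0 := by
  obtain ⟨w₁, h1, g1⟩ := h.exists_norm hf (by omega) (one_ne_zero (α := F))
  have o1 := h.cons hf (by rw [h1]; exact one_ne_zero) g1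
  obtain ⟨w₂, h2, g2⟩ := o1.exists_norm hf (by omega) (neg_ne_zero.2 (one_ne_zero (α := F)))
  have o2 := o1.cons hf (by rw [h2]; exact neg_ne_zero.2 one_ne_zero) g2
  obtain ⟨z, hz, g3⟩ := o2.exists_aniso hf (by omega)
  have a1 : f w₁ w₂ = 0 := by simpa using g2 0
  have a2 : f w₂ w₁ = 0 := by rw [hf.symm]; exact a1
  have a3 : f w₂ z = 0 := by simpa using g3 0
  have a4 : f w₁ z = 0 := by simpa using g3 1
  refine ⟨w₁ + w₂, z, fun e => ?_, by simp [h1, h2, a1, a2], by simp [a3, a4], hz, fun i => ?_, fun i => ?_⟩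
  · have e' := congrArg (f w₁) e
    rw [map_add, h1, a1, map_zero, add_zero] at e'
    exact one_ne_zero e'
  · have b1 := g1 i
    have b2 : f (v i) w₂ = 0 := by simpa using g2 i.succ
    simp [b1, b2]
  · simpa using g3 i.succ.succ

/-- **A norm whose vectors are orthogonal to an isotropic vector and an anisotropic plane.** -/
theorem exists_plane_norm (hf : SymForm f) (hk : 5 ≤ k) : ∃ ν : F, ν ≠ 0 ∧ ∀ a, f a a = ν →
    ∃ d z₁ z₂, d ≠ 0 ∧ f d d = 0 ∧ f d z₁ = 0 ∧ f d z₂ = 0 ∧ f a d = 0 ∧ f a z₁ = 0 ∧ f a z₂ = 0 ∧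
      ∀ s r : F, (s ≠ 0 ∨ r ≠ 0) → f (s • z₁ + r • z₂) (s • z₁ + r • z₂) ≠ 0 := by
  obtain ⟨ν', hν'⟩ := FiniteField.exists_nonsquare (F := F) (fun e => hf.two (by
    haveI := ringChar.eq_iff.1 e
    exact CharTwo.two_eq_zero))
  have hν0 : ν' ≠ 0 := fun e => hν' (by rw [e]; exact IsSquare.zero)
  obtain ⟨w₁, h1, -⟩ := (orth_nil (f := f)).exists_norm hf (by omega) (one_ne_zero (α := F))
  have o1 := (orth_nil (f := f)).cons hf (w := w₁) (by rw [h1]; exact one_ne_zero) fun i => i.elim0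
  obtain ⟨w₂, h2, g2⟩ := o1.exists_norm hf (by omega) (neg_ne_zero.2 (one_ne_zero (α := F)))
  have o2 := o1.cons hf (by rw [h2]; exact neg_ne_zero.2 one_ne_zero) g2
  obtain ⟨z₁, h3, g3⟩ := o2.exists_norm hf (by omega) (one_ne_zero (α := F))
  have o3 := o2.cons hf (by rw [h3]; exact one_ne_zero) g3
  obtain ⟨z₂, h4, g4⟩ := o3.exists_norm hf (by omega) (neg_ne_zero.2 hν0)
  have o4 := o3.cons hf (by rw [h4]; exact neg_ne_zero.2 hν0) g4
  obtain ⟨a₀, ha₀, g5⟩ := o4.exists_aniso hf (by omega)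
  refine ⟨f a₀ a₀, ha₀, fun a ha => ?_⟩
  -- move the vectors to the given one
  obtain ⟨u, hu⟩ : ∃ u : OQ (qU f), (u : Ud F k ≃ₗ[F] Ud F k) a₀ = a ∨ (u : Ud F k ≃ₗ[F] Ud F k) a₀ = -a := by
    have h2' := hf.two
    by_cases hs : f (a₀ - a) (a₀ - a) = 0
    · have hs' : f (a₀ + a) (a₀ + a) ≠ 0 := fun e => by
        simp only [map_add, map_sub, LinearMap.add_apply, LinearMap.sub_apply, ha] at e hs
        exact mul_ne_zero (mul_ne_zero h2' h2') ha₀ (by linear_combination e + hs)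
      refine ⟨rfU hf hs', Or.inr ?_⟩
      rw [rfU_apply, MixTensor.refl_apply]
      have hq : 2 / f (a₀ + a) (a₀ + a) * f (a₀ + a) a₀ = 1 := by
        rw [div_mul_eq_mul_div, div_eq_one_iff_eq hs']
        simp [ha, hf.symm a₀ a]; ring
      rw [hq]; module
    · refine ⟨rfU hf hs, Or.inl ?_⟩
      rw [rfU_apply, MixTensor.refl_apply]
      have hq : 2 / f (a₀ - a) (a₀ - a) * f (a₀ - a) a₀ = 1 := by
        rw [div_mul_eq_mul_div, div_eq_one_iff_eq hs]
        simp [ha, hf.symm a₀ a]; ring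
      rw [hq]; module
  set T := (u : Ud F k ≃ₗ[F] Ud F k)
  have key : ∀ y, f a₀ y = 0 → f a (T y) = 0 := fun y hy => by
    rcases hu with e | e
    · rw [← e, map_f hf, hy]
    · rw [show a = -T a₀ by rw [e, neg_neg], map_neg, LinearMap.neg_apply, map_f hf, hy, neg_zero]
  have b21 : f w₁ w₂ = 0 := by simpa using g2 0
  have b31 : f w₂ z₁ = 0 := by simpa using g3 0
  have b32 : f w₁ z₁ = 0 := by simpa using g3 1
  have b41 : f z₁ z₂ = 0 := by simpa using g4 0
  have b42 : f w₂ z₂ = 0 := by simpa using g4 1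
  have b43 : f w₁ z₂ = 0 := by simpa only [Fin.cons_succ, Fin.cons_zero] using g4 (Fin.succ (Fin.succ 0))
  have b51 : f z₂ a₀ = 0 := by simpa using g5 0
  have b52 : f z₁ a₀ = 0 := by simpa using g5 1
  have b53 : f w₂ a₀ = 0 := by simpa only [Fin.cons_succ, Fin.cons_zero] using g5 (Fin.succ (Fin.succ 0))
  have b54 : f w₁ a₀ = 0 := by simpa only [Fin.cons_succ, Fin.cons_zero] using g5 (Fin.succ (Fin.succ (Fin.succ 0)))
  refine ⟨T (w₁ + w₂), T z₁, T z₂, fun e => ?_, ?_, ?_, ?_, key _ ?_, key _ ?_, key _ ?_, fun s r hsr => ?_⟩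
  · have e' := congrArg (fun y => f (T w₁) y) e
    simp only [map_zero, map_add] at e'
    rw [map_f hf, map_f hf, h1, b21, add_zero] at e'
    exact one_ne_zero e'
  · rw [map_f hf]; simp [h1, h2, b21, hf.symm w₁ w₂]
  · rw [map_f hf]; simp [b31, b32]
  · rw [map_f hf]; simp [b42, b43]
  · simp [hf.symm w₁ a₀, hf.symm w₂ a₀, b53, b54]
  · rw [hf.symm]; exact b52
  · rw [hf.symm]; exact b51
  · rw [show s • T z₁ + r • T z₂ = T (s • z₁ + r • z₂) by simp, map_f hf]
    intro e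
    simp [h3, h4, b41, hf.symm z₁ z₂] at e
    by_cases hr : r = 0
    · subst hr
      simp at e hsr
      exact hsr e
    · exact hν' ⟨s / r, by field_simp; linear_combination -e⟩

end CfsgLib.Geo.OrthWreath
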