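/-
The elements fixing an anisotropic line of pure tensors pointwise are standard.
-/
import Cfsg.Agent.Lib.Geo.OrthWreath.Good
import Cfsg.Agent.Lib.Geo.OrthWreath.Perp
import Cfsg.Agent.Lib.Geo.OrthWreath.Grp
import Cfsg.Agent.Lib.Geo.OrthTensor.Square.Axis
import Cfsg.Agent.Lib.Geo.OrthTensor.Square.Coprime

set_option autoImplicit false
set_option linter.unusedSectionVars false

namespace CfsgLib.Geo.OrthWreath

open CfsgLib.Classical CfsgLib.Classical.Quad Module
open CfsgLib.Geo.MixTensor (SymForm)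
open CfsgLib.Geo.OrthTensor (sv sv_apply)
open CfsgLib.Geo.TensorWreath (pvec)
open LinearMap (BilinForm)

variable {F : Type*} [Field F] {k t : ℕ} {f : BilinForm F (Ud F k)}

/-- An element of one factor fixes what has all eigenvectors fixed. -/
theorem slot_fix_of_eigen (hf : SymForm f) {i : Fin (t + 1)} {u w : OQ (qU f)} {l : F} {v : Vt F k (t + 1)}
    (hv : (slot hf i w : Vt F k (t + 1) ≃ₗ[F] Vt F k (t + 1)) v = l • v)
    (h : ∀ y, (w : Ud F k ≃ₗ[F] Ud F k) y = l • y → (u : Ud F k ≃ₗ[F] Ud F k) y = y) :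
    (slot hf i u : Vt F k (t + 1) ≃ₗ[F] Vt F k (t + 1)) v = v := by
  set D := tensor hf i
  have hC : ∀ (s : OQ (qU f)) r, D.C r ((slot hf i s : Vt F k (t + 1) ≃ₗ[F] Vt F k (t + 1)) v) =
      (s : Ud F k ≃ₗ[F] Ud F k) (D.C r v) := fun s r =>
    LinearMap.congr_fun (D.hom_ext (L := D.C r ∘ₗ lm (slot hf i s)) (L' := lm s ∘ₗ D.C r) fun b q => by
      simp [lm, slot_Tm_self, D.C_T]) v
  refine D.V_ext fun r => ?_
  rw [hC, h _ (by rw [← hC, hv, map_smul])]

/-- A nontrivial Siegel element of one factor. -/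
theorem sU_eq_one (hf : SymForm f) {d z : Ud F k} (hd0 : d ≠ 0) (hd : f d d = 0) (hz : f d z = 0)
    (h : sU hf hd hz = 1) (hzz : f z z ≠ 0) : False := by
  have e := congrArg (fun u : OQ (qU f) => (u : Ud F k ≃ₗ[F] Ud F k) z) h
  simp [sU_apply, hz] at e
  rcases e with e | e
  · exact hzz e
  · exact hd0 e

variable [Finite F]

/-- The centralisers of the Siegel elements of the factors consist of standard elements. -/
def CentrSigma (hf : SymForm f) (X : Subgroup (OQ (qT f (t + 1)))) : Prop :=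
  ∀ {x : OQ (qT f (t + 1))}, x ∈ X → ∀ {i : Fin (t + 1)} {d z : Ud F k}, d ≠ 0 → ∀ (hd : f d d = 0)
    (hdz : f d z = 0), f z z ≠ 0 → Commute x (slot hf i (sU hf hd hdz)) → IsStd x

variable {hf : SymForm f} {X : Subgroup (OQ (qT f (t + 1)))}

/-- The elements fixing a line of pure tensors up to an allowed sign. -/
def lfix (hf : SymForm f) (X : Subgroup (OQ (qT f (t + 1)))) (i : Fin (t + 1)) (c : Ud F k) (M : Submonoid F) :
    Subgroup (OQ (qT f (t + 1))) where
  carrier := {x | x ∈ X ∧ ∃ ε ∈ M, ε * ε = 1 ∧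
    ∀ a, (x : Vt F k (t + 1) ≃ₗ[F] Vt F k (t + 1)) (Tm i c a) = ε • Tm i c a}
  one_mem' := ⟨X.one_mem, 1, M.one_mem, one_mul 1, fun a => by simp⟩
  mul_mem' := by
    rintro x y ⟨hx, ε, hε, hεε, ex⟩ ⟨hy, δ, hδ, hδδ, ey⟩
    exact ⟨X.mul_mem hx hy, ε * δ, M.mul_mem hε hδ, by rw [mul_mul_mul_comm, hεε, hδδ, one_mul], fun a => by
      rw [Subgroup.coe_mul, LinearEquiv.mul_apply, ey, map_smul, ex, smul_smul, mul_comm]⟩
  inv_mem' := by
    rintro x ⟨hx, ε, hε, hεε, ex⟩
    refine ⟨X.inv_mem hx, ε, hε, hεε, fun a => (x : Vt F k (t + 1) ≃ₗ[F] Vt F k (t + 1)).injective ?_⟩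
    rw [map_smul, ex, smul_smul, hεε, one_smul]
    exact (x : Vt F k (t + 1) ≃ₗ[F] Vt F k (t + 1)).apply_symm_apply _

theorem mem_lfix_bot {i : Fin (t + 1)} {c : Ud F k} {x : OQ (qT f (t + 1))} :
    x ∈ lfix hf X i c ⊥ ↔ x ∈ X ∧ ∀ a, (x : Vt F k (t + 1) ≃ₗ[F] Vt F k (t + 1)) (Tm i c a) = Tm i c a := by
  refine ⟨?_, fun h => ⟨h.1, 1, one_mem _, one_mul 1, fun a => by rw [h.2, one_smul]⟩⟩
  rintro ⟨hx, ε, hε, -, ex⟩
  obtain rfl : ε = 1 := Submonoid.mem_bot.1 hε
  exact ⟨hx, fun a => by rw [ex, one_smul]⟩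

theorem mem_normalizer_lfix {i : Fin (t + 1)} {c : Ud F k} {M : Submonoid F} {s : OQ (qT f (t + 1))} (hs : s ∈ X)
    {g : OQ (qT f t)} {m : F} (hm : m ≠ 0)
    (h : ∀ a, (s : Vt F k (t + 1) ≃ₗ[F] Vt F k (t + 1)) (Tm i c a) = m • Tm i c ((g : Vt F k t ≃ₗ[F] Vt F k t) a)) :
    s ∈ Subgroup.normalizer (lfix hf X i c M : Set (OQ (qT f (t + 1)))) := by
  have key : ∀ (s : OQ (qT f (t + 1))), s ∈ X → ∀ (g : OQ (qT f t)) (m : F), m ≠ 0 →
      (∀ a, (s : Vt F k (t + 1) ≃ₗ[F] Vt F k (t + 1)) (Tm i c a) = m • Tm i c ((g : Vt F k t ≃ₗ[F] Vt F k t) a)) →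
      ∀ x ∈ lfix hf X i c M, s * x * s⁻¹ ∈ lfix hf X i c M := by
    rintro s hs g m hm h x ⟨hx, ε, hε, hεε, ex⟩
    refine ⟨X.mul_mem (X.mul_mem hs hx) (X.inv_mem hs), ε, hε, hεε, fun a => ?_⟩
    obtain ⟨b, rfl⟩ : ∃ b, m • (g : Vt F k t ≃ₗ[F] Vt F k t) b = a :=
      ⟨(g : Vt F k t ≃ₗ[F] Vt F k t).symm (m⁻¹ • a), by simp [hm]⟩
    rw [map_smul (Tm i c), ← h]
    simp only [Subgroup.coe_mul, LinearEquiv.mul_apply, Subgroup.coe_inv]
    rw [LinearEquiv.coe_inv, LinearEquiv.symm_apply_apply, ex, map_smul]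
  refine Subgroup.mem_normalizer_iff.2 fun x => ⟨key s hs g m hm h x, fun hx => ?_⟩
  have h' : ∀ a, ((s⁻¹ : OQ (qT f (t + 1))) : Vt F k (t + 1) ≃ₗ[F] Vt F k (t + 1)) (Tm i c a) =
      m⁻¹ • Tm i c (((g⁻¹ : OQ (qT f t)) : Vt F k t ≃ₗ[F] Vt F k t) a) := fun a => by
    refine (s : Vt F k (t + 1) ≃ₗ[F] Vt F k (t + 1)).injective ?_
    rw [map_smul, h, inv_smul_smul₀ hm]
    simp [Subgroup.coe_inv]
  have h1 := key s⁻¹ (X.inv_mem hs) g⁻¹ m⁻¹ (inv_ne_zero hm) h' _ hx
  simpa [mul_assoc] using h1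

namespace Core

variable (C : Core hf X)
include C

/-- Normalisation by an element of another factor. -/
theorem slot_mem_normalizer_lfix {i : Fin (t + 1)} (j : Fin t) {c : Ud F k} {M : Submonoid F} {d z : Ud F k}
    (hd : f d d = 0) (hz : f d z = 0) :
    slot hf (i.succAbove j) (sU hf hd hz) ∈
      Subgroup.normalizer (lfix hf X i c M : Set (OQ (qT f (t + 1)))) :=
  mem_normalizer_lfix (C.base _ (slot_sU_mem hf C.five _ hd hz) (isStd_slot hf _ _)) (g := slot hf j (sU hf hd hz))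
    (m := 1) one_ne_zero fun a => by rw [slot_Tm_succAbove, one_smul]

/-- A normalised group whose standard elements have no element of order `p` has order prime to `p`. -/
theorem not_dvd {p : ℕ} [Fact p.Prime] [CharP F p] (hcs : CentrSigma hf X) (G : Subgroup (OQ (qT f (t + 1)))) (hGX : G ≤ X)
    {i : Fin (t + 1)} {d z : Ud F k} (hd0 : d ≠ 0) (hd : f d d = 0) (hdz : f d z = 0) (hz : f z z ≠ 0)
    (hn : slot hf i (sU hf hd hdz) ∈ Subgroup.normalizer (G : Set (OQ (qT f (t + 1)))))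
    (h : ∀ x ∈ G, IsStd x → x ^ p = 1 → x = 1) : ¬ p ∣ Nat.card G := by
  haveI := C.finiteX
  refine not_dvd_of_centraliser G (s := slot hf i (sU hf hd hdz)) (IsPGroup.of_card (n := 1) ?_) hn
    fun x hx hxp hc => h x hx (hcs (hGX hx) hd0 hd hdz hz hc) hxp
  rw [Nat.card_zpowers, pow_one]
  refine orderOf_eq_prime ?_ fun e => sU_eq_one hf hd0 hd hdz (slot_injective hf C.k1 i (by rw [e, map_one])) hz
  rw [← map_pow, sU_pow, ← map_one (slot hf i), ← sU_zero hf hd]
  congr 1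
  exact qU_ext hf fun a => by simp [sU_apply]

/-- Generation by the centralisers of a space of Siegel elements. -/
theorem mem_of_space {p : ℕ} [Fact p.Prime] [CharP F p] (hcs : CentrSigma hf X) (G : Subgroup (OQ (qT f (t + 1)))) (hGX : G ≤ X)
    (hp : ¬ p ∣ Nat.card G) {i : Fin (t + 1)} {d : Ud F k} (hd0 : d ≠ 0) (hd : f d d = 0)
    (S : Submodule F (Ud F k)) (hS : ∀ z ∈ S, f d z = 0) (hS' : ∀ z ∈ S, z ≠ 0 → f z z ≠ 0)
    (hcard : p ^ 2 ≤ Nat.card S)
    (hn : ∀ z (hz : z ∈ S), slot hf i (sU hf hd (hS z hz)) ∈ Subgroup.normalizer (G : Set (OQ (qT f (t + 1))))) :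
    ∀ x ∈ G, IsStd x := by
  haveI := C.finiteX
  let A : Subgroup (OQ (qT f (t + 1))) :=
    { carrier := {g | ∃ (z : Ud F k) (hz : z ∈ S), slot hf i (sU hf hd (hS z hz)) = g}
      one_mem' := ⟨0, S.zero_mem, by rw [sU_zero, map_one]⟩
      mul_mem' := by
        rintro _ _ ⟨z, hz, rfl⟩ ⟨z', hz', rfl⟩
        exact ⟨z + z', S.add_mem hz hz', by rw [← map_mul, sU_add]⟩
      inv_mem' := by
        rintro _ ⟨z, hz, rfl⟩
        exact ⟨-z, S.neg_mem hz, by rw [← map_inv, sU_inv]⟩ }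
  haveI : IsMulCommutative A := ⟨⟨fun a b => Subtype.ext (by
    obtain ⟨z, hz, e⟩ := a.2
    obtain ⟨z', hz', e'⟩ := b.2
    rw [Subgroup.coe_mul, Subgroup.coe_mul, ← e, ← e', ← map_mul, ← map_mul, sU_add, sU_add]
    congr 1
    exact qU_ext hf fun y => by rw [sU_apply, sU_apply, add_comm z z'])⟩⟩
  have hexp : ∀ a ∈ A, a ^ p = 1 := by
    rintro _ ⟨z, hz, rfl⟩
    rw [← map_pow, sU_pow, ← map_one (slot hf i), ← sU_zero hf hd]
    congr 1
    exact qU_ext hf fun a => by simp [sU_apply]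
  have hA : p ^ 2 ≤ Nat.card A := by
    refine hcard.trans (Nat.card_le_card_of_injective (fun z : S =>
      (⟨_, z.1, z.2, rfl⟩ : A)) fun z z' e => ?_)
    by_contra hne
    have e1 := slot_injective hf C.k1 i (congrArg Subtype.val e)
    have hsub : (z : Ud F k) - z' ∈ S := S.sub_mem z.2 z'.2
    refine sU_eq_one hf hd0 hd (hS _ hsub) ?_ (hS' _ hsub (sub_ne_zero.2 fun h => hne (Subtype.ext h)))
    have e2 : sU hf hd (hS _ hsub) * sU hf hd (hS _ z'.2) = sU hf hd (hS _ z.2) := by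
      rw [sU_add]
      exact qU_ext hf fun y => by rw [sU_apply, sU_apply, sub_add_cancel]
    rw [e1] at e2
    exact mul_eq_right.1 e2
  intro x hx
  have hle : G ≤ C.stdIn := LocalEven.le_of_centralizers_le (p := p) (A := A) hexp hA
    (by rintro _ ⟨z, hz, rfl⟩; exact hn z hz) hp fun a ha ha1 => by
      obtain ⟨z, hz, rfl⟩ := ha
      rintro y ⟨hy, hyc⟩
      have hz0 : z ≠ 0 := fun h0 => ha1 (by
        subst h0
        rw [sU_zero, map_one])
      exact ⟨hGX hy, hcs (hGX hy) hd0 hd (hS z hz) (hS' z hz hz0)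
        (Subgroup.mem_centralizer_singleton_iff.1 hyc)⟩
  exact (hle hx).2

/-- A Siegel element centralises the normalised groups of order prime to a large characteristic. -/
theorem mem_of_large {p : ℕ} [Fact p.Prime] [CharP F p] (h5 : 5 ≤ p) (hcs : CentrSigma hf X) (G : Subgroup (OQ (qT f (t + 1))))
    (hGX : G ≤ X) (hp : ¬ p ∣ Nat.card G) {i : Fin (t + 1)} {d z : Ud F k} (hd0 : d ≠ 0) (hd : f d d = 0)
    (hdz : f d z = 0) (hz : f z z ≠ 0)
    (hn : slot hf i (sU hf hd hdz) ∈ Subgroup.normalizer (G : Set (OQ (qT f (t + 1))))) :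
    ∀ x ∈ G, IsStd x := by
  intro x hx
  haveI : Nontrivial (Vt F k (t + 1)) :=
    Module.nontrivial_of_finrank_pos (R := F) (by have := C.five; omega)
  set ι := (OQ (qT f (t + 1))).subtype
  set σ := slot hf i (sU hf hd hdz)
  refine hcs (hGX hx) (i := i) hd0 hd hdz hz
    (show x * σ = σ * x from (OQ (qT f (t + 1))).subtype_injective ?_)
  refine (OrthTensor.Square.commute_of_coprime (p := p) h5 (G.map ι) ?_ (x := ι σ) ?_ ?_ (n := ι x)
    ⟨x, hx, rfl⟩).symm
  · rw [Subgroup.card_map_of_injective (OQ (qT f (t + 1))).subtype_injective]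
    exact (((Fact.out : p.Prime).coprime_iff_not_dvd).2 hp).symm
  · exact Subgroup.le_normalizer_map ι ⟨σ, hn, rfl⟩
  · refine Tm_ext i fun y a => ?_
    have e : ∀ y, ((ι σ : Module.End F (Vt F k (t + 1))) - 1) (Tm i y a) =
        Tm i (sv f d z y - y) a := fun y => by
      show (σ : Vt F k (t + 1) ≃ₗ[F] Vt F k (t + 1)) (Tm i y a) - Tm i y a = _
      rw [slot_Tm_self, map_sub, LinearMap.sub_apply, sU, mkU_apply]
    rw [pow_succ', pow_two, Module.End.mul_apply, Module.End.mul_apply, e, e, e, LinearMap.zero_apply]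
    have h2 := hf.two
    rw [show sv f d z (sv f d z (sv f d z y - y) - (sv f d z y - y)) -
        (sv f d z (sv f d z y - y) - (sv f d z y - y)) = 0 by
      simp only [sv_apply, map_add, map_sub, map_smul, smul_eq_mul, hd, hdz, hf.symm d z]
      match_scalars <;> field_simp <;> ring, map_zero, LinearMap.zero_apply]

end Core

namespace Ctx

variable (C : Ctx hf X)
include C

theorem centr_sigma' : CentrSigma hf X := fun hx => C.centr_sigma hx

/-- **Dimension three: the stabiliser of a line up to sign is standard.** -/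
theorem lfix_three (hk : k = 3) {i : Fin (t + 1)} {c : Ud F k} (hc : f c c ≠ 0) {x : OQ (qT f (t + 1))}
    (hx : x ∈ lfix hf X i c ⊤) : IsStd x := by
  obtain ⟨p, hp⟩ := CharP.exists F
  haveI : Fact p.Prime := ⟨CharP.char_is_prime F p⟩
  haveI := C.finiteX
  haveI : Nontrivial (Vt F k t) := C.nontrivW
  have hp2 : p ≠ 2 := fun e => hf.two (by subst e; exact CharTwo.two_eq_zero)
  let j₀ : Fin t := ⟨0, by have := C.t1; omega⟩
  obtain ⟨P, -⟩ := exists_frame hf (f := f) C.k3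
  obtain ⟨z, dz, -, zz⟩ := P.exists_z hf C.k3
  have hGX : lfix hf X i c ⊤ ≤ X := fun y hy => hy.1
  have hn := fun z' (hz' : f P.d z' = 0) => C.slot_mem_normalizer_lfix (i := i) j₀ (c := c) (M := ⊤) P.dd hz'
  have hnd : ¬ p ∣ Nat.card (lfix hf X i c ⊤) := C.not_dvd (p := p) C.centr_sigma' _ hGX P.d_ne P.dd dz zz (hn z dz) (by
    rintro y ⟨-, ε, -, hε, ey⟩ hys hyp
    obtain ⟨a₀, ha₀⟩ := exists_ne (0 : Vt F k t)
    obtain ⟨u, rfl, huc⟩ := fix_line hf C.k2 hys (c := c) (c' := ε • c) (fun e => hc (by simp [e])) fun a => by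
      rw [ey, map_smul, LinearMap.smul_apply]
    rw [← map_pow, ← map_one (slot hf i)] at hyp
    have hup := slot_injective hf C.k1 i hyp
    have hpow : ∀ n, ((u ^ n : OQ (qU f)) : Ud F k ≃ₗ[F] Ud F k) c = ε ^ n • c := by
      intro n
      induction n with
      | zero => simp
      | succ n ih => rw [pow_succ', Subgroup.coe_mul, LinearEquiv.mul_apply, ih, map_smul, huc, smul_smul, pow_succ]
    have h1 := hpow p
    rw [hup] at h1
    have hεp : ε ^ p = 1 := smul_left_injective F (fun e => hc (by simp [e]) : c ≠ 0) (by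
      show ε ^ p • c = (1 : F) • c
      rw [one_smul, ← h1]; rfl)
    obtain ⟨n, hn'⟩ := (Fact.out : p.Prime).odd_of_ne_two hp2
    rw [hn', pow_succ, pow_mul, sq, hε, one_pow, one_mul] at hεp
    rw [hεp, one_smul] at huc
    haveI : CharP (Module.End F (Ud F k)) p := by
      haveI : Nontrivial (Ud F k) := Module.nontrivial_of_finrank_pos (R := F) (by rw [finrank_fin_fun]; omega)
      exact charP_of_injective_algebraMap (algebraMap F (Module.End F (Ud F k))).injective p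
    have hid := OrthTensor.Square.eq_id_of_unipotent hf (by rw [finrank_fin_fun, hk]) (A := lm u)
      (fun a b => map_f hf u a b) hc huc (m := p) (by
        rw [sub_pow_char_of_commute (p := p) (x := lm u) (y := 1) (Commute.one_right _), one_pow]
        have : ∀ n : ℕ, lm (u ^ n) = lm u ^ n := fun n => by
          induction n with
          | zero => rfl
          | succ n ih => rw [pow_succ, pow_succ, lm_mul, ih]
        rw [← this, hup, lm_one, sub_self])
    rw [qU_ext hf (u := u) (v := 1) fun a => LinearMap.congr_fun hid a, map_one])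
  by_cases h5 : 5 ≤ p
  · exact C.mem_of_large h5 C.centr_sigma' _ hGX hnd P.d_ne P.dd dz zz (hn z dz) x hx
  refine C.mem_of_space C.centr_sigma' _ hGX hnd P.d_ne P.dd (Submodule.span F {z}) (fun y hy => ?_) (fun y hy hy0 => ?_) ?_
    (fun y hy => hn y _) x hx
  · obtain ⟨s, rfl⟩ := Submodule.mem_span_singleton.1 hy
    rw [map_smul, dz, smul_zero]
  · obtain ⟨s, rfl⟩ := Submodule.mem_span_singleton.1 hy
    simp only [map_smul, LinearMap.smul_apply, smul_eq_mul]
    exact mul_ne_zero (fun e => hy0 (by rw [e, zero_smul])) (mul_ne_zero (fun e => hy0 (by rw [e, zero_smul])) zz)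
  · rw [Module.natCard_eq_pow_finrank (K := F), finrank_span_singleton (fun e => zz (by simp [e])), pow_one]
    have hp3 : p = 3 := by
      have h2 := (Fact.out : p.Prime).two_le
      by_contra hne
      have : p = 4 := by omega
      exact absurd (this ▸ (Fact.out : p.Prime)) (by decide)
    subst hp3
    haveI := Fintype.ofFinite F
    obtain ⟨n, -, hq⟩ := FiniteField.card F 3
    rw [Nat.card_eq_fintype_card, hq]
    rcases Nat.lt_or_ge (n : ℕ) 2 with h | h
    · exfalso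
      have hn0 : 0 < (n : ℕ) := n.pos
      have := C.q3 (by rw [Nat.card_eq_fintype_card, hq, show (n : ℕ) = 1 by omega, pow_one])
      omega
    · exact Nat.pow_le_pow_right (by norm_num) h

/-- Dimension at least five: two pointwise fixed lines. -/
theorem lfix_two (hk : 5 ≤ k) {ν : F} (hν0 : ν ≠ 0)
    (hν : ∀ a, f a a = ν → ∃ d z₁ z₂, d ≠ 0 ∧ f d d = 0 ∧ f d z₁ = 0 ∧ f d z₂ = 0 ∧ f a d = 0 ∧ f a z₁ = 0 ∧
      f a z₂ = 0 ∧ ∀ s r : F, (s ≠ 0 ∨ r ≠ 0) → f (s • z₁ + r • z₂) (s • z₁ + r • z₂) ≠ 0)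
    {i l : Fin (t + 1)} (hil : l ≠ i) {c a : Ud F k} (hc : f c c ≠ 0) (ha : f a a = ν) {x : OQ (qT f (t + 1))}
    (hxc : x ∈ lfix hf X i c ⊥) (hxa : x ∈ lfix hf X l a ⊥) : x = 1 := by
  obtain ⟨p, hp⟩ := CharP.exists F
  haveI : Fact p.Prime := ⟨CharP.char_is_prime F p⟩
  haveI := C.finiteX
  obtain ⟨j, rfl⟩ := Fin.exists_succAbove_eq hil
  obtain ⟨d, z₁, z₂, hd0, hd, hdz₁, hdz₂, had, haz₁, haz₂, haniso⟩ := hν a ha
  set G := lfix hf X i c ⊥ ⊓ lfix hf X (i.succAbove j) a ⊥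
  have hGX : G ≤ X := fun y hy => hy.1.1
  set S : Submodule F (Ud F k) := Submodule.span F {z₁, z₂}
  have hS : ∀ y ∈ S, f d y = 0 ∧ f a y = 0 := fun y hy => by
    obtain ⟨s, r, rfl⟩ := Submodule.mem_span_pair.1 hy
    simp [hdz₁, hdz₂, haz₁, haz₂]
  have hS' : ∀ y ∈ S, y ≠ 0 → f y y ≠ 0 := fun y hy hy0 => by
    obtain ⟨s, r, rfl⟩ := Submodule.mem_span_pair.1 hy
    refine haniso s r ?_
    by_contra! hc'
    exact hy0 (by rw [hc'.1, hc'.2]; simp)
  have hstd : ∀ y ∈ G, IsStd y → y = 1 := by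
    intro y hy hys
    obtain ⟨u, e, huc⟩ := fix_line hf C.k2 hys (fun e => hc (by simp [e])) (mem_lfix_bot.1 hy.1).2
    obtain ⟨u', e', -⟩ := fix_line hf C.k2 hys (fun e => hν0 (by rw [← ha, e]; simp)) (mem_lfix_bot.1 hy.2).2
    obtain ⟨m, hm⟩ := slot_eq_slot hf C.k1 (Fin.succAbove_ne i j).symm (e.symm.trans e')
    have hm1 : m = 1 := smul_left_injective F (fun e0 => hc (by simp [e0]) : c ≠ 0) (by
      show m • c = (1 : F) • c
      rw [one_smul, ← hm, huc])
    rw [e, qU_ext hf (u := u) (v := 1) fun b => by rw [hm, hm1]; simp, map_one]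
  have hn : ∀ y (hy : y ∈ S), slot hf (i.succAbove j) (sU hf hd (hS y hy).1) ∈
      Subgroup.normalizer (G : Set (OQ (qT f (t + 1)))) := fun y hy => by
    refine Subgroup.inf_normalizer_le_normalizer_inf
      (H := lfix hf X i c ⊥) (K := lfix hf X (i.succAbove j) a ⊥) ?_
    refine ⟨C.slot_mem_normalizer_lfix j hd (hS y hy).1, mem_normalizer_lfix (C.base _
      (slot_sU_mem hf C.five _ hd _) (isStd_slot hf _ _)) (g := 1) (m := 1) one_ne_zero fun b => ?_⟩
    rw [slot_Tm_self, sU_fix hf hd _ (by rw [hf.symm]; exact had) (by rw [hf.symm]; exact (hS y hy).2), one_smul]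
    simp
  have hz1 : z₁ ∈ S := Submodule.subset_span (Set.mem_insert _ _)
  have hnd : ¬ p ∣ Nat.card G := C.not_dvd (p := p) C.centr_sigma' G hGX hd0 hd hdz₁
    (by simpa using haniso 1 0 (Or.inl one_ne_zero)) (hn z₁ hz1) fun y hy hys _ => hstd y hy hys
  refine hstd x ⟨hxc, hxa⟩ (C.mem_of_space C.centr_sigma' G hGX hnd hd0 hd S (fun y hy => (hS y hy).1) hS' ?_ hn x ⟨hxc, hxa⟩)
  haveI := Fintype.ofFinite F
  have h2 : finrank F S = 2 := by
    rw [show S = Submodule.span F (Set.range ![z₁, z₂]) by simp [S, Set.pair_comm]]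
    refine (finrank_span_eq_card (LinearIndependent.pair_iff.2 fun s r e => ?_)).trans (by simp)
    by_contra hne
    exact haniso s r (not_and_or.1 hne) (by rw [e]; simp)
  rw [Module.natCard_eq_pow_finrank (K := F), h2]
  refine Nat.pow_le_pow_left ?_ 2
  obtain ⟨n, -, hq⟩ := FiniteField.card F p
  rw [Nat.card_eq_fintype_card, hq]
  exact Nat.le_self_pow n.2.ne' p

end Ctx

end CfsgLib.Geo.OrthWreath
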