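/-
The elements fixing an anisotropic line of pure tensors pointwise are standard: dimension at least five.
-/
import Cfsg.Agent.Lib.Geo.OrthWreath.PointFix

set_option autoImplicit false
set_option linter.unusedSectionVars false

namespace CfsgLib.Geo.OrthWreath

open CfsgLib.Classical CfsgLib.Classical.Quad Module
open CfsgLib.Geo.MixTensor (SymForm)
open CfsgLib.Geo.OrthTensor (sv sv_apply)
open CfsgLib.Geo.TensorWreath (pvec)
open LinearMap (BilinForm)

variable {F : Type*} [Field F] [Finite F] {k t : ℕ} {f : BilinForm F (Ud F k)}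

namespace Ctx

variable {hf : SymForm f} {X : Subgroup (OQ (qT f (t + 1)))} (C : Ctx hf X)
include C

/-- **Dimension at least five: the pointwise stabiliser of a line is standard.** -/
theorem lfix_five (hk : 5 ≤ k) {i : Fin (t + 1)} {c : Ud F k} (hc : f c c ≠ 0) {x : OQ (qT f (t + 1))}
    (hx : x ∈ lfix hf X i c ⊥) : IsStd x := by
  haveI := C.finiteX
  obtain ⟨ν, hν0, hν⟩ := exists_plane_norm hf hk
  let j : Fin t := ⟨0, by have := C.t1; omega⟩
  set l := i.succAbove j
  set G := lfix hf X i c ⊥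
  obtain ⟨a, ha, -⟩ := (orth_nil (f := f)).exists_norm hf (by omega) hν0
  obtain ⟨b, hb, hab'⟩ := (orth_one (f := f) (a := a) (by rw [ha]; exact hν0)).exists_norm hf (by omega) hν0
  have hab : f a b = 0 := by simpa using hab' 0
  have ha0 : f a a ≠ 0 := by rw [ha]; exact hν0
  have hb0 : f b b ≠ 0 := by rw [hb]; exact hν0
  obtain ⟨e, he, hg⟩ := (orth_two hf ha0 hb0 hab).exists_norm hf (by omega) hν0
  have hae : f a e = 0 := by simpa using hg 0
  have hbe : f b e = 0 := by simpa using hg 1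
  have he0 : f e e ≠ 0 := by rw [he]; exact hν0
  -- elements commuting with a product of two reflections
  have trick : ∀ (a b : Ud F k), f a a = ν → f b b = ν → f a b = 0 → ∀ y ∈ G,
      Commute y (slot hf l (nr hf a * nr hf b)) → IsStd y := by
    intro a b ha hb hab y hy hc'
    have ha0 : f a a ≠ 0 := by rw [ha]; exact hν0
    have hb0 : f b b ≠ 0 := by rw [hb]; exact hν0
    obtain ⟨d, z, hd0, hd, hdz, hzz, gd, gz⟩ := (orth_two hf ha0 hb0 hab).exists_iso hf (by omega)
    have had : f a d = 0 := by simpa using gd 0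
    have hbd : f b d = 0 := by simpa using gd 1
    have haz : f a z = 0 := by simpa using gz 0
    have hbz : f b z = 0 := by simpa using gz 1
    set σ := slot hf l (sU hf hd hdz)
    have hσX : σ ∈ X := C.base _ (slot_sU_mem hf C.five _ hd hdz) (isStd_slot hf _ _)
    refine C.centr_sigma hy.1 (i := l) hd0 hd hdz hzz ?_
    refine (mul_inv_eq_iff_eq_mul.1 (mul_inv_eq_one.1 (C.lfix_two hk hν0 hν (x := y * σ * y⁻¹ * σ⁻¹)
      (Fin.succAbove_ne i j) hc ha ?_ ?_)) : y * σ = σ * y)
    · have h1 := (Subgroup.mem_normalizer_iff.1 (C.slot_mem_normalizer_lfix (i := i) j (c := c) (M := ⊥) hd hdz) y⁻¹).1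
        (G.inv_mem hy)
      have h2 := G.mul_mem hy h1
      rwa [← mul_assoc, ← mul_assoc] at h2
    · refine mem_lfix_bot.2 ⟨X.mul_mem (X.mul_mem (X.mul_mem hy.1 hσX) (X.inv_mem hy.1)) (X.inv_mem hσX), fun w => ?_⟩
      have hfix : ∀ v, (slot hf l (nr hf a * nr hf b) : Vt F k (t + 1) ≃ₗ[F] Vt F k (t + 1)) v = (-1 : F) • v →
          (σ : Vt F k (t + 1) ≃ₗ[F] Vt F k (t + 1)) v = v := fun v hv =>
        slot_fix_of_eigen hf hv fun q hq => by
          -- the inverted vectors are in the plane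
          have h2 := hf.two
          have hd' : f d q = 0 := by
            have e1 := map_f hf (nr hf a * nr hf b) d q
            rw [rr_perp ha0 hb0 had hbd, hq, map_smul, smul_eq_mul] at e1
            have e2 : (2 : F) * f d q = 0 := by linear_combination -e1
            exact (mul_eq_zero.1 e2).resolve_left h2
          have hz' : f z q = 0 := by
            have e1 := map_f hf (nr hf a * nr hf b) z q
            rw [rr_perp ha0 hb0 haz hbz, hq, map_smul, smul_eq_mul] at e1
            have e2 : (2 : F) * f z q = 0 := by linear_combination -e1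
            exact (mul_eq_zero.1 e2).resolve_left h2
          exact sU_fix hf hd hdz hd' hz'
      have hσw : (σ⁻¹ : OQ (qT f (t + 1))).1 (Tm l a w) = Tm l a w := by
        refine (σ : Vt F k (t + 1) ≃ₗ[F] Vt F k (t + 1)).injective ?_
        rw [slot_Tm_self, sU_fix hf hd hdz (by rw [hf.symm]; exact had) (by rw [hf.symm]; exact haz)]
        exact (σ : Vt F k (t + 1) ≃ₗ[F] Vt F k (t + 1)).apply_symm_apply _
      have hw : (σ : Vt F k (t + 1) ≃ₗ[F] Vt F k (t + 1)) ((y⁻¹ : OQ (qT f (t + 1))).1 (Tm l a w)) =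
          (y⁻¹ : OQ (qT f (t + 1))).1 (Tm l a w) := by
        refine hfix _ ?_
        rw [← LinearEquiv.mul_apply, ← Subgroup.coe_mul, ← hc'.inv_left.eq, Subgroup.coe_mul, LinearEquiv.mul_apply,
          slot_Tm_self, rr_self ha0 hb0 hab, neg_one_smul, map_neg, LinearMap.neg_apply, map_neg]
      simp only [Subgroup.coe_mul, LinearEquiv.mul_apply]
      rw [hσw, hw]
      exact (y : Vt F k (t + 1) ≃ₗ[F] Vt F k (t + 1)).apply_symm_apply _
  -- isolation of such a product
  set P₁ := slot hf l (nr hf a * nr hf b) with hP₁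
  set P₂ := slot hf l (nr hf b * nr hf e) with hP₂
  have hP₁X : P₁ ∈ X := C.rr_mem l ha0 (hb.trans ha.symm)
  have hP₂X : P₂ ∈ X := C.rr_mem l hb0 (he.trans hb.symm)
  have nsq : ∀ p q : Ud F k, f p p ≠ 0 → f q q ≠ 0 → f p q = 0 →
      (nr hf p * nr hf q) * (nr hf p * nr hf q) = 1 := fun p q hp hq hpq => by
    rw [← sq, (nr_commute hp hq hpq).mul_pow, sq, sq, nr_sq, nr_sq, one_mul]
  have hne1 : ∀ p q : Ud F k, f p p ≠ 0 → f q q ≠ 0 → f p q = 0 → slot hf l (nr hf p * nr hf q) ≠ 1 :=
    fun p q hp hq hpq e1 => by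
      have := rr_self (hf := hf) hp hq hpq
      rw [slot_injective hf C.k1 l (e1.trans (map_one (slot hf l)).symm)] at this
      simp only [OneMemClass.coe_one, LinearEquiv.coe_one, id_eq] at this
      rw [eq_neg_iff_add_eq_zero, ← two_smul F] at this
      exact hp (by rw [(smul_eq_zero.1 this).resolve_left hf.two]; simp)
  have ord : ∀ p q : Ud F k, f p p ≠ 0 → f q q ≠ 0 → f p q = 0 → orderOf (slot hf l (nr hf p * nr hf q)) = 2 :=
    fun p q hp hq hpq => Signalizer.orderOf_eq_two_of (hne1 p q hp hq hpq) (by rw [← map_mul, nsq p q hp hq hpq, map_one])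
  have hprod : (nr hf a * nr hf b) * (nr hf b * nr hf e) = nr hf a * nr hf e := by
    rw [mul_assoc, ← mul_assoc (nr hf b), nr_sq, one_mul]
  have hcomm : Commute P₁ P₂ := by
    have c1 := nr_commute (hf := hf) ha0 hb0 hab
    have c2 := nr_commute (hf := hf) ha0 he0 hae
    have c3 := nr_commute (hf := hf) hb0 he0 hbe
    exact ((c1.mul_right c2).mul_left ((Commute.refl _).mul_right c3)).map (slot hf l)
  have hPn : ∀ u : OQ (qU f), slot hf l u ∈ X →
      slot hf l u ∈ Subgroup.normalizer (G : Set (OQ (qT f (t + 1)))) := fun u hu =>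
    mem_normalizer_lfix hu (g := slot hf j u) (m := 1) one_ne_zero fun w => by rw [slot_Tm_succAbove, one_smul]
  -- a group containing the two products
  let V : Subgroup (OQ (qT f (t + 1))) := Subgroup.closure {P₁, P₂}
  set M := G ⊔ V
  have hP₁V : P₁ ∈ V := Subgroup.subset_closure (Set.mem_insert _ _)
  have hP₂V : P₂ ∈ V := Subgroup.subset_closure (Set.mem_insert_of_mem _ rfl)
  have hVn : V ≤ Subgroup.normalizer (G : Set (OQ (qT f (t + 1)))) := (Subgroup.closure_le _).2 (by
    rintro _ (rfl | rfl)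
    · exact hPn _ hP₁X
    · exact hPn _ hP₂X)
  have hMn : M ≤ Subgroup.normalizer (G : Set (OQ (qT f (t + 1)))) := sup_le Subgroup.le_normalizer hVn
  have hMdec : ∀ m ∈ M, ∃ g ∈ G, ∃ v ∈ V, m = g * v := fun m hm => by
    obtain ⟨g, hg, v, hv, rfl⟩ := (Core.mem_sup_iff_mul' hVn).1 (by rwa [sup_comm])
    exact ⟨g, hg, v, hv, rfl⟩
  have hVc : ∀ v ∈ V, Commute v P₁ ∧ v ^ 2 = 1 := by
    intro v hv
    refine Subgroup.closure_induction (p := fun v _ => Commute v P₁ ∧ v ^ 2 = 1) ?_ ⟨Commute.one_left _, one_pow 2⟩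
      ?_ ?_ hv |> fun h => h
    · rintro _ (rfl | rfl)
      · exact ⟨Commute.refl _, by rw [sq, ← map_mul, nsq a b ha0 hb0 hab, map_one]⟩
      · exact ⟨hcomm.symm, by rw [sq, ← map_mul, nsq b e hb0 he0 hbe, map_one]⟩
    · intro p q hp hq ⟨h1, h2⟩ ⟨h3, h4⟩
      refine ⟨h1.mul_left h3, ?_⟩
      have hpq : Commute p q := by
        haveI : IsMulCommutative V := by
          refine Subgroup.isMulCommutative_closure ?_
          rintro _ (rfl | rfl) _ (rfl | rfl) <;> first | rfl | exact hcomm.eq | exact hcomm.eq.symm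
        exact congrArg Subtype.val (mul_comm' (⟨p, hp⟩ : V) ⟨q, hq⟩)
      rw [hpq.mul_pow, h2, h4, one_mul]
    · intro p _ ⟨h1, h2⟩
      exact ⟨h1.inv_left, by rw [inv_pow, h2, inv_one]⟩
  have hKc : ∀ y ∈ G, IsStd y → Commute y P₁ := fun y hy hys => by
    obtain ⟨u, rfl, -⟩ := fix_line hf C.k2 hys (fun e => hc (by simp [e])) (mem_lfix_bot.1 hy).2
    exact slot_comm hf (Fin.succAbove_ne i j).symm u _
  have hiso : Cfsg.IsIsolatedInvolution (⟨P₁, (le_sup_right : V ≤ M) hP₁V⟩ : M) := by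
    refine ⟨by rw [← Subgroup.orderOf_coe]; exact ord a b ha0 hb0 hab, ?_⟩
    rintro ⟨m, hm⟩ hcm
    obtain ⟨g, hg, v, hv, rfl⟩ := hMdec m hm
    refine Subtype.ext ?_
    show g * v * P₁ * (g * v)⁻¹ = P₁
    have e1 : g * v * P₁ * (g * v)⁻¹ = g * P₁ * g⁻¹ := by
      rw [_root_.mul_inv_rev, mul_assoc g v P₁, (hVc v hv).1.eq]
      group
    rw [e1]
    have hcm' : Commute P₁ (g * P₁ * g⁻¹) := by
      rw [← e1]
      exact congrArg Subtype.val hcm
    set y := g * P₁ * g⁻¹
    have hyG : y * P₁⁻¹ ∈ G := by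
      have h2 := G.mul_mem hg ((Subgroup.mem_normalizer_iff.1 (hVn hP₁V) g⁻¹).1 (G.inv_mem hg))
      simpa [y, mul_assoc] using h2
    have hκc : Commute (y * P₁⁻¹) P₁ := hcm'.symm.mul_left (Commute.refl P₁).inv_left
    have hκs := trick a b ha hb hab _ hyG hκc
    obtain ⟨κ, hκ, hκc0⟩ := fix_line hf C.k2 hκs (fun e => hc (by simp [e])) (mem_lfix_bot.1 hyG).2
    have hy : y = slot hf i κ * P₁ := by rw [← hκ, inv_mul_cancel_right]
    have hy2 : y * y = 1 := by
      rw [show y * y = g * (P₁ * P₁) * g⁻¹ by simp [y, mul_assoc], ← map_mul, nsq a b ha0 hb0 hab, map_one, mul_one,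
        mul_inv_cancel]
    have hκκ : κ * κ = 1 := slot_injective hf C.k1 i (by
      rw [map_mul, map_one, ← hκ]
      calc y * P₁⁻¹ * (y * P₁⁻¹) = y * (P₁⁻¹ * y) * P₁⁻¹ := by group
        _ = y * (y * P₁⁻¹) * P₁⁻¹ := by rw [hcm'.inv_left.eq]
        _ = (y * y) * (P₁⁻¹ * P₁⁻¹) := by group
        _ = 1 := by rw [hy2, one_mul, ← mul_inv_rev, ← map_mul, nsq a b ha0 hb0 hab, map_one, inv_one])
    -- compare dimensions
    classical
    let us : Fin (t + 1) → OQ (qU f) := Function.update (Function.update (fun _ => 1) l (nr hf a * nr hf b)) i κ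
    let us₀ : Fin (t + 1) → OQ (qU f) := Function.update (fun _ => 1) l (nr hf a * nr hf b)
    have hil : i ≠ l := (Fin.succAbove_ne i j).symm
    have hP₁f : ∀ ξ, (P₁ : Vt F k (t + 1) ≃ₗ[F] Vt F k (t + 1)) (pvec ξ) =
        pvec fun m => (us₀ m : Ud F k ≃ₗ[F] Ud F k) (ξ m) := fun ξ => by
      rw [hP₁, slot_pvec]
      congr 1
      funext m
      by_cases hm : m = l
      · subst hm; simp [us₀]
      · simp [us₀, Function.update_of_ne hm]
    have hyf : ∀ ξ, (y : Vt F k (t + 1) ≃ₗ[F] Vt F k (t + 1)) (pvec ξ) =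
        pvec fun m => (us m : Ud F k ≃ₗ[F] Ud F k) (ξ m) := fun ξ => by
      rw [hy, Subgroup.coe_mul, LinearEquiv.mul_apply, hP₁f, slot_pvec]
      congr 1
      funext m
      by_cases hm : m = i
      · subst hm; simp [us, us₀, Function.update_of_ne hil]
      · simp [us, us₀, Function.update_of_ne hm]
    have hrr := nsq a b ha0 hb0 hab
    have d1 := dd_slots hf hP₁f (fun m => by
      by_cases hm : m = l
      · subst hm; simpa [us₀] using hrr
      · simp [us₀, Function.update_of_ne hm])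
    have d2 := dd_slots hf hyf (fun m => by
      by_cases hm : m = i
      · subst hm; simpa [us] using hκκ
      by_cases hm' : m = l
      · subst hm'; simpa [us, Function.update_of_ne hm] using hrr
      · simp [us, Function.update_of_ne hm, Function.update_of_ne hm'])
    have hyd : dd (lm y) = dd (lm P₁) := dd_conj g P₁
    rw [d1, d2, ← Finset.mul_prod_erase Finset.univ _ (Finset.mem_univ i),
      ← Finset.mul_prod_erase Finset.univ _ (Finset.mem_univ i),
      Finset.prod_congr rfl (g := fun m => dd (lm (us₀ m))) (s₁ := Finset.univ.erase i) fun m hm => by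
        simp [us, us₀, Function.update_of_ne (Finset.mem_erase.1 hm).1]] at hyd
    have hone : dd (lm (1 : OQ (qU f))) = k := by
      obtain ⟨B⟩ : Nonempty (Basis (Fin k) F (Ud F k)) := ⟨Pi.basisFun F (Fin k)⟩
      rw [dd_monomial hf.two B (σ := id) (ε := fun _ => 1) (fun _ => Or.inl rfl) (fun _ => rfl)
        (by rw [lm_one, one_mul]) fun q => by simp [lm_one]]
      simp
    have hodd : ∀ u : OQ (qU f), u * u = 1 → dd (lm u) ≠ 0 := fun u hu h0 => by
      have hsum := fixS_add hf.two (L := lm u) (by rw [← lm_mul, hu, lm_one])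
      rw [finrank_fin_fun] at hsum
      rw [dd, sub_eq_zero] at h0
      obtain ⟨n, hn⟩ := C.kodd
      omega
    have hprod0 : ∏ m ∈ Finset.univ.erase i, dd (lm (us₀ m)) ≠ 0 := Finset.prod_ne_zero_iff.2 fun m _ => hodd _ (by
      by_cases hm : m = l
      · subst hm; simpa [us₀] using hrr
      · simp [us₀, Function.update_of_ne hm])
    have hdκ := mul_right_cancel₀ hprod0 hyd
    simp only [us, us₀, Function.update_self, Function.update_of_ne hil, hone] at hdκ
    have hκ1 : κ = 1 := by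
      have hsum := fixS_add hf.two (L := lm κ) (by rw [← lm_mul, hκκ, lm_one])
      rw [finrank_fin_fun] at hsum
      rw [dd] at hdκ
      have hfull : fixS (lm κ) = ⊤ := Submodule.eq_top_of_finrank_eq (by rw [finrank_fin_fun]; omega)
      exact qU_ext hf fun q => by
        have := mem_fixS.1 (hfull.ge (Submodule.mem_top (x := q)))
        simpa [lm] using this
    rw [hy, hκ1, map_one, one_mul]
  -- conclusion
  have hO : ∀ o : M, o ∈ Cfsg.oddCore M → (o : OQ (qT f (t + 1))) ∈ G := by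
    intro o ho
    obtain ⟨g, hg, v, hv, e0⟩ := hMdec o o.2
    obtain ⟨n, hn⟩ := ZStar.odd_of_dvd (Subgroup.orderOf_dvd_natCard _ ho) (ZStar.odd_card_oddCore M)
    haveI : (G.subgroupOf M).Normal := Subgroup.normal_subgroupOf_of_le_normalizer hMn
    have e1 : QuotientGroup.mk' (G.subgroupOf M) o =
        QuotientGroup.mk' (G.subgroupOf M) ⟨v, (le_sup_right : V ≤ M) hv⟩ := by
      rw [show o = ⟨g, (le_sup_left : G ≤ M) hg⟩ * ⟨v, (le_sup_right : V ≤ M) hv⟩ from Subtype.ext e0, map_mul,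
        show QuotientGroup.mk' (G.subgroupOf M) ⟨g, (le_sup_left : G ≤ M) hg⟩ = 1 from
          (QuotientGroup.eq_one_iff (N := G.subgroupOf M) ⟨g, (le_sup_left : G ≤ M) hg⟩).2
          (by simpa [Subgroup.mem_subgroupOf] using hg), one_mul]
    have h2 : (⟨v, (le_sup_right : V ≤ M) hv⟩ : M) ^ 2 = 1 := Subtype.ext (hVc v hv).2
    have e2 : QuotientGroup.mk' (G.subgroupOf M) o = 1 := by
      have e3 := congrArg (QuotientGroup.mk' (G.subgroupOf M)) (pow_orderOf_eq_one o)
      rw [map_pow, e1, hn, pow_succ, pow_mul, ← map_pow, h2, map_one, one_pow, one_mul] at e3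
      rw [e1, e3]
    have := (QuotientGroup.eq_one_iff o).1 e2
    simpa [Subgroup.mem_subgroupOf] using this
  set O' := (Cfsg.oddCore M).map M.subtype
  have hO'G : O' ≤ G := by rintro _ ⟨o, ho, rfl⟩; exact hO o ho
  have hO'odd : Odd (Nat.card O') := by
    rw [Subgroup.card_map_of_injective M.subtype_injective]; exact ZStar.odd_card_oddCore M
  have hO'n : ∀ v ∈ V, v ∈ Subgroup.normalizer (O' : Set (OQ (qT f (t + 1)))) := fun v hv => by
    haveI hn : (Cfsg.oddCore M).Normal := by unfold Cfsg.oddCore; infer_instance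
    refine Subgroup.le_normalizer_map M.subtype ⟨⟨v, (le_sup_right : V ≤ M) hv⟩, ?_, rfl⟩
    rw [Subgroup.normalizer_eq_top_iff.2 hn]
    exact Subgroup.mem_top _
  have hO's : O' ≤ C.stdIn := le_of_four hO'odd (ord a b ha0 hb0 hab) (ord b e hb0 he0 hbe) hcomm
    (fun h => by
      have h1 := slot_injective hf C.k1 l h
      have e1 := rr_self (hf := hf) ha0 hb0 hab
      rw [h1, rr_perp hb0 he0 (by rw [hf.symm]; exact hab) (by rw [hf.symm]; exact hae), eq_neg_iff_add_eq_zero,
        ← two_smul F] at e1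
      exact ha0 (by rw [(smul_eq_zero.1 e1).resolve_left hf.two]; simp))
    (hO'n _ hP₁V) (hO'n _ hP₂V) fun y hy h => ⟨(hO'G hy).1, by
      rcases h with h | h | h
      · exact trick a b ha hb hab y (hO'G hy) h
      · exact trick b e hb he hbe y (hO'G hy) h
      · rw [← map_mul, hprod] at h
        exact trick a e ha he hae y (hO'G hy) h⟩
  let Y : Subgroup M := ((C.stdIn ⊓ G) ⊔ V).subgroupOf M
  have hY := le_of_isolated hiso (Y := Y) (fun m hm => by
    obtain ⟨g, hg, v, hv, e0⟩ := hMdec m m.2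
    have hgc : Commute g P₁ := by
      have h1 : Commute (m : OQ (qT f (t + 1))) P₁ := congrArg Subtype.val hm
      have h2 := h1.mul_left (hVc v hv).1.inv_left
      rwa [e0, mul_inv_cancel_right] at h2
    show (m : OQ (qT f (t + 1))) ∈ (C.stdIn ⊓ G) ⊔ V
    rw [e0]
    exact Subgroup.mul_mem_sup ⟨⟨hg.1, trick a b ha hb hab g hg hgc⟩, hg⟩ hv)
    (fun o ho => by
      show (o : OQ (qT f (t + 1))) ∈ (C.stdIn ⊓ G) ⊔ V
      exact Subgroup.mem_sup_left ⟨hO's ⟨o, ho, rfl⟩, hO o ho⟩) ⟨x, (le_sup_left : G ≤ M) hx⟩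
  have hVs : V ≤ C.stdIn := (Subgroup.closure_le _).2 (by
    rintro _ (rfl | rfl)
    · exact ⟨hP₁X, isStd_slot hf _ _⟩
    · exact ⟨hP₂X, isStd_slot hf _ _⟩)
  exact ((sup_le inf_le_left hVs) hY).2

end Ctx

end CfsgLib.Geo.OrthWreath
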