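/-
The centralisers of a good negative reflection, and of a product of two orthogonal ones, are standard.
-/
import Cfsg.Agent.Lib.Geo.OrthWreath.PointFixFive

set_option autoImplicit false
set_option linter.unusedSectionVars false

namespace CfsgLib.Geo.OrthWreath

open CfsgLib.Classical CfsgLib.Classical.Quad Module
open CfsgLib.Known.OmegaCriterion
open CfsgLib.Geo.MixTensor (SymForm refl)
open CfsgLib.Geo.OrthTensor (sv sv_apply)
open CfsgLib.Geo.TensorWreath (pvec pvec_prop)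
open LinearMap (BilinForm)

variable {F : Type*} [Field F] {k t : ℕ} {f : BilinForm F (Ud F k)}

theorem Orth.span_top {v : Fin k → Ud F k} (h : Orth f v) : Submodule.span F (Set.range v) = ⊤ := by
  refine LinearIndependent.span_eq_top_of_card_eq_finrank' ?_ (by simp)
  rw [Fintype.linearIndependent_iff]
  intro a ha j
  have e := congrArg (f (v j)) ha
  rw [map_sum, map_zero, Finset.sum_eq_single j (fun i _ hij => by rw [map_smul, h.2 j i hij.symm, smul_zero])
    (fun hj => absurd (Finset.mem_univ j) hj), map_smul, smul_eq_mul, mul_eq_zero] at e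
  exact e.resolve_right (h.1 j)

/-- Isometries agreeing on an orthogonal basis are equal. -/
theorem Orth.ext (hf : SymForm f) {n : ℕ} (hn : n = k) {v : Fin n → Ud F k} (h : Orth f v) {u u' : OQ (qU f)}
    (e : ∀ j, (u : Ud F k ≃ₗ[F] Ud F k) (v j) = (u' : Ud F k ≃ₗ[F] Ud F k) (v j)) : u = u' := by
  subst hn
  exact qU_ext hf fun y => LinearMap.congr_fun (LinearMap.ext_on_range h.span_top (f := lm u) (g := lm u') e) y

/-- The inverted vectors of a product of two negative reflections are fixed by the orthogonal Siegel elements. -/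
theorem rr_neg_fix {hf : SymForm f} {a b d z : Ud F k} (ha : f a a ≠ 0) (hb : f b b ≠ 0) (hd : f d d = 0)
    (hdz : f d z = 0) (had : f a d = 0) (hbd : f b d = 0) (haz : f a z = 0) (hbz : f b z = 0) {q : Ud F k}
    (hq : ((nr hf a * nr hf b : OQ (qU f)) : Ud F k ≃ₗ[F] Ud F k) q = (-1 : F) • q) :
    (sU hf hd hdz : Ud F k ≃ₗ[F] Ud F k) q = q := by
  have h2 := hf.two
  refine sU_fix hf hd hdz ?_ ?_
  · have e1 := map_f hf (nr hf a * nr hf b) d q
    rw [rr_perp ha hb had hbd, hq, map_smul, smul_eq_mul] at e1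
    have e2 : (2 : F) * f d q = 0 := by linear_combination -e1
    exact (mul_eq_zero.1 e2).resolve_left h2
  · have e1 := map_f hf (nr hf a * nr hf b) z q
    rw [rr_perp ha hb haz hbz, hq, map_smul, smul_eq_mul] at e1
    have e2 : (2 : F) * f z q = 0 := by linear_combination -e1
    exact (mul_eq_zero.1 e2).resolve_left h2

variable [Finite F]

/-- A unipotent element fixing an anisotropic vector in dimension three is trivial. -/
theorem eq_one_of_pow_char (hf : SymForm f) (hk : k = 3) {p : ℕ} [Fact p.Prime] [CharP F p] {u : OQ (qU f)}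
    (hu : u ^ p = 1) {c : Ud F k} (hc : f c c ≠ 0) (huc : (u : Ud F k ≃ₗ[F] Ud F k) c = c) : u = 1 := by
  haveI : CharP (Module.End F (Ud F k)) p := by
    haveI : Nontrivial (Ud F k) := Module.nontrivial_of_finrank_pos (R := F) (by rw [finrank_fin_fun]; omega)
    exact charP_of_injective_algebraMap (algebraMap F (Module.End F (Ud F k))).injective p
  have hpow : ∀ n : ℕ, lm (u ^ n) = lm u ^ n := fun n => by
    induction n with
    | zero => rfl
    | succ n ih => rw [pow_succ, pow_succ, lm_mul, ih]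
  have hid := OrthTensor.Square.eq_id_of_unipotent hf (by rw [finrank_fin_fun, hk]) (A := lm u)
    (fun a b => map_f hf u a b) hc huc (m := p) (by
      rw [sub_pow_char_of_commute (p := p) (x := lm u) (y := 1) (Commute.one_right _), one_pow, ← hpow, hu, lm_one,
        sub_self])
  exact qU_ext hf fun a => LinearMap.congr_fun hid a

namespace Ctx

variable {hf : SymForm f} {X : Subgroup (OQ (qT f (t + 1)))} (C : Ctx hf X)
include C

/-- The action of a standard element on a line of pure tensors it preserves is standard. -/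
theorem isStd_restrict {x : OQ (qT f (t + 1))} (hx : IsStd x) {i : Fin (t + 1)} {c : Ud F k} (hc : c ≠ 0) {ε : F}
    (hε : ε ≠ 0) {g : OQ (qT f t)}
    (h : ∀ a, (x : Vt F k (t + 1) ≃ₗ[F] Vt F k (t + 1)) (Tm i c a) =
      ε • Tm i c ((g : Vt F k t ≃ₗ[F] Vt F k t) a)) : IsStd g := by
  classical
  obtain ⟨π, us, e⟩ := hx.normal hf C.k3 C.kodd
  set D := tensor hf i
  obtain ⟨z, hz⟩ := exists_aniso_vec hf (k := k) C.k1
  have hz0 : z ≠ 0 := fun h0 => hz (by simp [h0])
  have key : ∀ η : Fin t → Ud F k, (∀ j, η j ≠ 0) → ∃ m : F, m ≠ 0 ∧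
      (us i : Ud F k ≃ₗ[F] Ud F k) (Fin.insertNth (α := fun _ => Ud F k) i c η (π⁻¹ i)) = m • c := by
    intro η hη
    have h1 := h (pvec η)
    rw [Tm_pvec, e, pvec_eq_Tm i] at h1
    set w := pvec fun j => (us (i.succAbove j) : Ud F k ≃ₗ[F] Ud F k)
      (Fin.insertNth (α := fun _ => Ud F k) i c η (π⁻¹ (i.succAbove j))) with hw
    have hw0 : w ≠ 0 := pvec_ne_zero fun j => by
      simp only [ne_eq, LinearEquiv.map_eq_zero_iff]
      rcases Fin.eq_self_or_eq_succAbove i (π⁻¹ (i.succAbove j)) with hp | ⟨j', hp⟩ <;> simp [hp, hc, hη]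
    obtain ⟨r, hr⟩ := D.exists_partner hw0
    have h2 := congrArg (D.C r) h1
    rw [map_smul, D.C_T, D.C_T, hr, one_smul, smul_smul] at h2
    refine ⟨_, fun e0 => ?_, h2⟩
    rw [e0, zero_smul, LinearEquiv.map_eq_zero_iff] at h2
    rcases Fin.eq_self_or_eq_succAbove i (π⁻¹ i) with hp | ⟨j', hp⟩ <;> simp [hp, hc, hη] at h2
  have hπi : π⁻¹ i = i := by
    rcases Fin.eq_self_or_eq_succAbove i (π⁻¹ i) with hp | ⟨j₀, hp⟩
    · exact hp
    exfalso
    obtain ⟨w, hw0, hw⟩ := exists_not_prop C.k2 z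
    obtain ⟨m, hm, e1⟩ := key (fun _ => z) fun _ => hz0
    obtain ⟨m', hm', e2⟩ := key (Function.update (fun _ => z) j₀ w) fun j => by
      by_cases hj : j = j₀
      · subst hj; simpa
      · simpa [Function.update_of_ne hj]
    rw [hp, Fin.insertNth_apply_succAbove] at e1 e2
    rw [Function.update_self] at e2
    refine hw (m' / m) ((us i : Ud F k ≃ₗ[F] Ud F k).injective ?_)
    rw [map_smul, e1, e2, smul_smul, div_mul_cancel₀ _ hm]
  obtain ⟨m, hm, hmc⟩ := key (fun _ => z) fun _ => hz0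
  rw [hπi, Fin.insertNth_apply_same] at hmc
  have hperm : ∀ j, ∃ j', π⁻¹ (i.succAbove j) = i.succAbove j' := fun j => by
    rcases Fin.eq_self_or_eq_succAbove i (π⁻¹ (i.succAbove j)) with hp | hp
    · exact absurd (π⁻¹.injective (hp.trans hπi.symm)) (Fin.succAbove_ne i j)
    · exact hp
  choose ρ hρ using hperm
  let ρ' : Equiv.Perm (Fin t) := Equiv.ofBijective ρ (Finite.injective_iff_bijective.1 fun a b hab =>
    Fin.succAbove_right_injective (π⁻¹.injective ((hρ a).trans (by rw [hab, hρ b]))))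
  let j₁ : Fin t := ⟨0, by have := C.t1; omega⟩
  refine ⟨ρ'⁻¹, fun j => (Function.update (fun _ => (1 : F)) j₁ (ε⁻¹ * m)) j •
    lm (us (i.succAbove j)), fun η => ?_⟩
  have h1 := h (pvec η)
  rw [Tm_pvec, e, pvec_eq_Tm i, hπi, Fin.insertNth_apply_same, hmc, map_smul, LinearMap.smul_apply, ← map_smul,
    ← map_smul] at h1
  have h2 := D.T_injective' hc h1
  simp only [LinearMap.smul_apply, inv_inv]
  rw [pvec_smul_all, ← Finset.mul_prod_erase _ _ (Finset.mem_univ j₁),
    Finset.prod_congr rfl (g := fun _ => (1 : F)) (s₁ := Finset.univ.erase j₁) fun j hj => by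
      simp [Function.update_of_ne (Finset.mem_erase.1 hj).1]]
  rw [Function.update_self, Finset.prod_const_one, mul_one, mul_smul, eq_inv_smul_iff₀ hε, ← h2]
  congr 2
  funext j
  rw [hρ, Fin.insertNth_apply_succAbove]
  rfl

/-- An element commuting with a good negative reflection preserves its line. -/
theorem line_of_commute {i : Fin (t + 1)} {c : Ud F k} (hc : f c c ≠ 0) {x : OQ (qT f (t + 1))}
    (h : Commute x (slot hf i (nr hf c))) :
    ∃ g : OQ (qT f t), ∀ a, (x : Vt F k (t + 1) ≃ₗ[F] Vt F k (t + 1)) (Tm i c a) =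
      Tm i c ((g : Vt F k t ≃ₗ[F] Vt F k t) a) := by
  have hc0 : c ≠ 0 := fun e => hc (by simp [e])
  obtain ⟨c', G, hc'0, hc', hG⟩ := C.eigen_line (x := x) (i := i) (u := nr hf c) (v := nr hf c)
    (by rw [h.eq, mul_inv_cancel_right]) (l := 1) hc0 (by rw [one_smul, nr_self hc]) fun y hy =>
      ⟨_, nr_fix hc (by rw [hy, one_smul])⟩
  rw [one_smul] at hc'
  set s := (f c c)⁻¹ * f c c' with hs
  have hcs : c' = s • c := nr_fix hc hc'
  have hG' : ∀ a, (x : Vt F k (t + 1) ≃ₗ[F] Vt F k (t + 1)) (Tm i c a) = Tm i c ((s • G) a) := fun a => by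
    rw [hG, hcs]; simp
  refine ⟨ofPreserves (qT_nd hf) (s • G) (preserves_qT hf fun ξ η => ?_), fun a => by rw [hG', ofPreserves_apply]⟩
  have h1 := map_frm hf x (Tm i c (pvec ξ)) (Tm i c (pvec η))
  rw [hG', hG', frm_Tm hf, frm_Tm hf] at h1
  exact mul_left_cancel₀ hc h1

omit C in
/-- A compensator preserving an anisotropic line. -/
theorem exists_comp_line (hk : 3 ≤ k) (hko : Odd k) (h5 : 5 ≤ finrank F (Vt F k (t + 1))) (i : Fin (t + 1))
    {c : Ud F k} (hc : f c c ≠ 0) (g : OQ (qT f (t + 1))) :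
    ∃ (u : OQ (qU f)) (ε : F), ε * ε = 1 ∧ (u : Ud F k ≃ₗ[F] Ud F k) c = ε • c ∧
      slot hf i u * g ∈ commutator (OQ (qT f (t + 1))) := by
  obtain ⟨K₀, h⟩ := refl_class hf hko h5 i
  have hQ := qT_nd hf (t := t + 1)
  have hR := reflTop hf h5
  obtain ⟨pc, sc⟩ := h c hc
  have hp : par g = 0 ∨ par g = 1 := by
    generalize par g = a
    revert a; decide
  rcases hp with hp | hp
  · obtain ⟨n, hn, hns⟩ := exists_sqc hf (sqc (f c c) * spinor g)
    obtain ⟨y, hy, hy'⟩ := (orth_one hc).exists_norm hf (by omega) hn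
    have hy0 : f y y ≠ 0 := hy ▸ hn
    have hyc : f y c = 0 := by rw [hf.symm]; simpa using hy' 0
    obtain ⟨py, sy⟩ := h y hy0
    refine ⟨rfU hf hc * rfU hf hy0, -1, by norm_num, ?_, ?_⟩
    · rw [Subgroup.coe_mul, LinearEquiv.mul_apply, rfU_apply, rfU_apply, hf.refl_fix hyc, MixTensor.refl_apply]
      match_scalars
      field_simp
      ring
    · rw [map_mul, mem_commutator_iff hQ hR, par_mul hQ hR, par_mul hQ hR, spinor_mul hQ hR, spinor_mul hQ hR, pc,
        py, sc, sy, hy, hns, hp, mul_mul_mul_comm K₀, sqClass_mul_self, one_mul, ← mul_assoc (sqc (f c c)),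
        sqClass_mul_self, one_mul, sqClass_mul_self]
      exact ⟨by decide, rfl⟩
  · obtain ⟨n, hn, hns⟩ := exists_sqc hf (K₀ * spinor g)
    obtain ⟨y, hy, hy'⟩ := (orth_one hc).exists_norm hf (by omega) hn
    have hy0 : f y y ≠ 0 := hy ▸ hn
    have hyc : f y c = 0 := by rw [hf.symm]; simpa using hy' 0
    obtain ⟨py, sy⟩ := h y hy0
    refine ⟨rfU hf hy0, 1, one_mul 1, by rw [one_smul, rfU_apply, hf.refl_fix hyc], ?_⟩
    rw [mem_commutator_iff hQ hR, par_mul hQ hR, spinor_mul hQ hR, py, sy, hy, hns, hp, ← mul_assoc K₀,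
      sqClass_mul_self, one_mul, sqClass_mul_self]
    exact ⟨by decide, rfl⟩

/-- Dimension three. -/
theorem centr_three (hk : k = 3) {i : Fin (t + 1)} {c : Ud F k} (hc : f c c ≠ 0) {x : OQ (qT f (t + 1))}
    (hx : x ∈ X) (h : Commute x (slot hf i (nr hf c))) : IsStd x := by
  classical
  obtain ⟨p, hp⟩ := CharP.exists F
  haveI : Fact p.Prime := ⟨CharP.char_is_prime F p⟩
  haveI := C.finiteX
  have hc0 : c ≠ 0 := fun e => hc (by simp [e])
  obtain ⟨g, hg⟩ := C.line_of_commute hc h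
  -- the standard case
  have std_case : ∀ (y : OQ (qT f (t + 1))) (g : OQ (qT f t)) (ε : F), y ∈ X → ε * ε = 1 →
      (∀ a, (y : Vt F k (t + 1) ≃ₗ[F] Vt F k (t + 1)) (Tm i c a) = ε • Tm i c ((g : Vt F k t ≃ₗ[F] Vt F k t) a)) →
      IsStd g → IsStd y := by
    intro y g ε hy hε hyg hgs
    have hgi : IsStd g⁻¹ := by
      haveI := finite_el hf (t := t)
      exact IsStd.inv hf hgs
    obtain ⟨u, δ, hδ, huc, hu⟩ := exists_comp_line C.k3 C.kodd C.five i hc (wl hf i g⁻¹)
    set q := slot hf i u * wl hf i g⁻¹ with hq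
    have hqs : IsStd q := (isStd_slot hf i u).mul (isStd_wl hf hgi)
    have h1 := C.lfix_three hk hc (x := q * y) ⟨X.mul_mem (C.base _ hu hqs) hy, δ * ε, Submonoid.mem_top _,
      by rw [mul_mul_mul_comm, hδ, hε, one_mul], fun a => by
        rw [Subgroup.coe_mul, LinearEquiv.mul_apply, hyg, map_smul, hq, Subgroup.coe_mul, LinearEquiv.mul_apply, wl_Tm,
          slot_Tm_self, huc, map_smul, LinearMap.smul_apply, smul_smul, mul_comm ε δ, Subgroup.coe_inv,
          LinearEquiv.coe_inv, LinearEquiv.symm_apply_apply]⟩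
    have h2 := (C.isStd_inv hqs).mul h1
    rwa [inv_mul_cancel_left] at h2
  rcases Nat.lt_or_ge t 2 with ht | ht
  · obtain rfl : t = 1 := by have := C.t1; omega
    exact std_case x g 1 hx (one_mul 1) (fun a => by rw [one_smul]; exact hg a) (isStd_level_one g)
  let Y : Subgroup (OQ (qT f t)) :=
    { carrier := {g | g ∈ commutator (OQ (qT f t)) ∧ ∃ y ∈ X, ∃ ε : F, ε * ε = 1 ∧
        ∀ a, (y : Vt F k (t + 1) ≃ₗ[F] Vt F k (t + 1)) (Tm i c a) = ε • Tm i c ((g : Vt F k t ≃ₗ[F] Vt F k t) a)}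
      one_mem' := ⟨one_mem _, 1, X.one_mem, 1, one_mul 1, fun a => by simp⟩
      mul_mem' := by
        rintro g g' ⟨hg, y, hy, ε, hε, e⟩ ⟨hg', y', hy', ε', hε', e'⟩
        refine ⟨mul_mem hg hg', y * y', X.mul_mem hy hy', ε * ε', by rw [mul_mul_mul_comm, hε, hε', one_mul],
          fun a => ?_⟩
        rw [Subgroup.coe_mul, LinearEquiv.mul_apply, e', map_smul, e, smul_smul, mul_comm ε' ε]
        rfl
      inv_mem' := by
        rintro g ⟨hg, y, hy, ε, hε, e⟩
        refine ⟨inv_mem hg, y⁻¹, X.inv_mem hy, ε, hε, fun a =>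
          (y : Vt F k (t + 1) ≃ₗ[F] Vt F k (t + 1)).injective ?_⟩
        rw [map_smul, e, smul_smul, hε, one_smul]
        simp [Subgroup.coe_inv] }
  have hbase : ∀ g ∈ commutator (OQ (qT f t)), IsStd g → g ∈ Y := fun g hg hs => by
    obtain ⟨u, δ, hδ, huc, hu⟩ := exists_comp_line C.k3 C.kodd C.five i hc (wl hf i g)
    exact ⟨hg, _, C.base _ hu ((isStd_slot hf i u).mul (isStd_wl hf hs)), δ, hδ, fun a => by
      rw [Subgroup.coe_mul, LinearEquiv.mul_apply, wl_Tm, slot_Tm_self, huc, map_smul, LinearMap.smul_apply]⟩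
  let j₀ : Fin t := ⟨0, by omega⟩
  rcases C.ih Y (fun g hg => hg.1) hbase with hall | hall
  swap
  · obtain ⟨u', hu'⟩ := C.exists_class_W ht j₀ g
    obtain ⟨u, δ, hδ, huc, hu⟩ := exists_comp_line C.k3 C.kodd C.five i hc (wl hf i (slot hf j₀ u'))
    set q := slot hf i u * wl hf i (slot hf j₀ u') with hq
    have hqs : IsStd q := (isStd_slot hf i u).mul (isStd_wl hf (isStd_slot hf _ _))
    have hqx := X.mul_mem (C.base _ hu hqs) hx
    have e : ∀ a, ((q * x : OQ (qT f (t + 1))) : Vt F k (t + 1) ≃ₗ[F] Vt F k (t + 1)) (Tm i c a) =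
        δ • Tm i c (((slot hf j₀ u' * g : OQ (qT f t)) : Vt F k t ≃ₗ[F] Vt F k t) a) := fun a => by
      rw [Subgroup.coe_mul, LinearEquiv.mul_apply, hg, hq, Subgroup.coe_mul, LinearEquiv.mul_apply, wl_Tm,
        slot_Tm_self, huc, map_smul, LinearMap.smul_apply]
      rfl
    have h1 := std_case _ _ δ hqx hδ e (hall _ ⟨hu', _, hqx, δ, hδ, e⟩)
    have h2 := (C.isStd_inv hqs).mul h1
    rwa [inv_mul_cancel_left] at h2
  -- an element of long root type
  exfalso
  obtain ⟨P, -⟩ := exists_frame hf (f := f) C.k3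
  obtain ⟨z, dz, ez, zz⟩ := P.exists_z hf C.k3
  have hz0 : z ≠ 0 := fun e => zz (by simp [e])
  set D : Vt F k t := pvec fun _ => P.d
  set Z : Vt F k t := pvec (Function.update (fun _ => z) j₀ P.d) with hZ
  have hDD : frm f t D D = 0 := by
    rw [frm_pvec]; exact Finset.prod_eq_zero (Finset.mem_univ j₀) P.dd
  have hZZ : frm f t Z Z = 0 := by
    rw [frm_pvec]; exact Finset.prod_eq_zero (Finset.mem_univ j₀) (by simp [P.dd])
  have hDZ : frm f t D Z = 0 := by
    rw [frm_pvec]; exact Finset.prod_eq_zero (Finset.mem_univ j₀) (by simp [P.dd])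
  have hZD : frm f t Z D = 0 := by rw [frm_symm hf, hDZ]
  set L : Vt F k t →ₗ[F] Vt F k t := LinearMap.id + (frm f t D).smulRight Z - (frm f t Z).smulRight D with hL
  have hL' : ∀ v, L v = v + frm f t D v • Z - frm f t Z v • D := fun v => by simp [hL]
  obtain ⟨ρ, hρ⟩ : ∃ ρ : OQ (qT f t), ∀ v, (ρ : Vt F k t ≃ₗ[F] Vt F k t) v = L v :=
    ⟨ofPreserves (qT_nd hf) L (preserves_qT hf fun ξ η => by
      rw [hL', hL']
      simp only [map_add, map_sub, map_smul, LinearMap.add_apply, LinearMap.sub_apply, LinearMap.smul_apply,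
        smul_eq_mul, hDD, hZZ, hDZ, hZD, frm_symm hf D (pvec ξ), frm_symm hf Z (pvec ξ)]
      ring), fun v => by rw [ofPreserves_apply]⟩
  have hpow : ∀ (n : ℕ) v, ((ρ ^ n : OQ (qT f t)) : Vt F k t ≃ₗ[F] Vt F k t) v =
      v + (n : F) • (frm f t D v • Z - frm f t Z v • D) := by
    intro n
    induction n with
    | zero => intro v; simp
    | succ n ih =>
      intro v
      rw [pow_succ', Subgroup.coe_mul, LinearEquiv.mul_apply, ih, hρ, hL']
      simp only [map_add, map_sub, map_smul, smul_eq_mul, hDD, hZZ, hDZ, hZD]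
      push_cast
      module
  have hρp : ρ ^ p = 1 := el_ext fun ξ => by rw [hpow, CharP.cast_eq_zero, zero_smul, add_zero]; rfl
  have hp2 : p ≠ 2 := fun e => hf.two (by subst e; exact CharTwo.two_eq_zero)
  have hρΩ := mem_of_odd_pow hf (C.five_W ht) ((Fact.out : p.Prime).odd_of_ne_two hp2) hρp
  obtain ⟨-, y, hy, ε, hε, hye⟩ := hall hρΩ
  set σ₀ := slot hf j₀ (sU hf P.dd dz)
  have hsd : (sU hf P.dd dz : Ud F k ≃ₗ[F] Ud F k) P.d = P.d := sU_self hf P.dd dz
  have hσD : (σ₀ : Vt F k t ≃ₗ[F] Vt F k t) D = D := by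
    rw [slot_pvec, hsd, Function.update_eq_self]
  have hσZ : (σ₀ : Vt F k t ≃ₗ[F] Vt F k t) Z = Z := by
    rw [hZ, slot_pvec, Function.update_self, hsd, Function.update_idem]
  have hcomm : Commute σ₀ ρ := el_ext fun ξ => by
    simp only [Subgroup.coe_mul, LinearEquiv.mul_apply, hρ, hL', map_add, map_sub, map_smul, hσD, hσZ]
    rw [show frm f t D ((σ₀ : Vt F k t ≃ₗ[F] Vt F k t) (pvec ξ)) = frm f t D (pvec ξ) by
        conv_lhs => rw [← hσD]
        exact map_frm hf σ₀ _ _,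
      show frm f t Z ((σ₀ : Vt F k t ≃ₗ[F] Vt F k t) (pvec ξ)) = frm f t Z (pvec ξ) by
        conv_lhs => rw [← hσZ]
        exact map_frm hf σ₀ _ _]
  set S := slot hf (i.succAbove j₀) (sU hf P.dd dz) with hS
  have hSX : S ∈ X := C.base _ (slot_sU_mem hf C.five _ P.dd dz) (isStd_slot hf _ _)
  have hSc : ∀ a, (S : Vt F k (t + 1) ≃ₗ[F] Vt F k (t + 1)) (Tm i c a) =
      Tm i c ((σ₀ : Vt F k t ≃ₗ[F] Vt F k t) a) := fun a => slot_Tm_succAbove hf i j₀ _ c a
  set kk := y * S * y⁻¹ * S⁻¹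
  have hkk : ∀ a, (kk : Vt F k (t + 1) ≃ₗ[F] Vt F k (t + 1)) (Tm i c a) = Tm i c a := fun a => by
    have hSi : (S⁻¹ : OQ (qT f (t + 1))).1 (Tm i c a) = Tm i c ((σ₀⁻¹ : OQ (qT f t)).1 a) :=
      (S : Vt F k (t + 1) ≃ₗ[F] Vt F k (t + 1)).injective (by rw [hSc]; simp [Subgroup.coe_inv])
    have hyi : ∀ b, (y⁻¹ : OQ (qT f (t + 1))).1 (Tm i c b) = ε • Tm i c ((ρ⁻¹ : OQ (qT f t)).1 b) := fun b =>
      (y : Vt F k (t + 1) ≃ₗ[F] Vt F k (t + 1)).injective (by
        rw [map_smul, hye, smul_smul, hε, one_smul]; simp [Subgroup.coe_inv])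
    show (y : Vt F k (t + 1) ≃ₗ[F] Vt F k (t + 1)) ((S : Vt F k (t + 1) ≃ₗ[F] Vt F k (t + 1))
      ((y⁻¹ : OQ (qT f (t + 1))).1 ((S⁻¹ : OQ (qT f (t + 1))).1 (Tm i c a)))) = _
    rw [hSi, hyi, map_smul, hSc, map_smul, hye, smul_smul, hε, one_smul]
    congr 1
    show ((ρ * σ₀ * ρ⁻¹ * σ₀⁻¹ : OQ (qT f t)) : Vt F k t ≃ₗ[F] Vt F k t) a = a
    rw [hcomm.symm.eq, mul_inv_cancel_right, mul_inv_cancel]
    rfl
  have hkX : kk ∈ X := X.mul_mem (X.mul_mem (X.mul_mem hy hSX) (X.inv_mem hy)) (X.inv_mem hSX)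
  have hks : IsStd kk := C.lfix_three hk hc ⟨hkX, 1, Submonoid.mem_top _, one_mul 1, fun a => by
    rw [hkk, one_smul]⟩
  obtain ⟨κ, hκ, hκc⟩ := fix_line hf C.k2 hks hc0 hkk
  have e1 : y * S * y⁻¹ = slot hf i κ * S := by rw [← hκ, inv_mul_cancel_right]
  have hcS : Commute (slot hf i κ) S := slot_comm hf (Fin.succAbove_ne i j₀).symm _ _
  have hSp : S ^ p = 1 := by
    rw [hS, ← map_pow, sU_pow, ← map_one (slot hf (i.succAbove j₀)), ← sU_zero hf P.dd]
    congr 1
    exact qU_ext hf fun a => by simp [sU_apply]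
  have e2 : (slot hf i κ) ^ p = 1 := by
    have h3 := congrArg (· ^ p) e1
    simp only [hcS.mul_pow, hSp, mul_one, conj_pow, mul_inv_cancel] at h3
    exact h3.symm
  have hκ1 : κ = 1 := eq_one_of_pow_char hf hk (slot_injective hf C.k1 i (by rw [map_pow, map_one, e2])) hc hκc
  have hys : IsStd y := C.centr_sigma hy P.d_ne P.dd dz zz (i := i.succAbove j₀) (by
    rw [hκ1, map_one, one_mul] at e1
    exact mul_inv_eq_iff_eq_mul.1 e1)
  have hρs : IsStd ρ := C.isStd_restrict hys hc0 (fun e => by simp [e] at hε) hye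
  -- the root element is not standard
  have hw := isStd_wl hf (i := i) hρs
  have hfixl : ∀ j, ∃ v : OQ (qU f), wl hf i ρ = slot hf (i.succAbove j) v ∧
      (v : Ud F k ≃ₗ[F] Ud F k) P.d = P.d := fun j =>
    fix_line hf C.k2 hw P.d_ne fun w => LinearMap.congr_fun (pvec_ext
      (L := lm (wl hf i ρ) ∘ₗ Tm (i.succAbove j) P.d) (L' := Tm (i.succAbove j) P.d) fun η => by
        set ξ := (i.succAbove j).insertNth (α := fun _ => Ud F k) P.d η with hξ
        have hj : ξ (i.succAbove j) = P.d := Fin.insertNth_apply_same ..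
        rw [LinearMap.comp_apply, Tm_pvec, ← hξ, pvec_eq_Tm i ξ, lm, LinearEquiv.coe_coe, wl_Tm, hρ, hL',
          show frm f t D (pvec fun l => ξ (i.succAbove l)) = 0 by
            rw [frm_pvec]; exact Finset.prod_eq_zero (Finset.mem_univ j) (by rw [hj, P.dd]),
          show frm f t Z (pvec fun l => ξ (i.succAbove l)) = 0 by
            rw [hZ, frm_pvec]
            refine Finset.prod_eq_zero (Finset.mem_univ j) ?_
            rw [hj]
            by_cases h0 : j = j₀
            · subst h0; rw [Function.update_self, P.dd]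
            · rw [Function.update_of_ne h0, hf.symm, dz]]
        simp) w
  obtain ⟨v₁, f₁, hv₁⟩ := hfixl j₀
  obtain ⟨v₂, f₂, -⟩ := hfixl ⟨1, by omega⟩
  obtain ⟨m, hm⟩ := slot_eq_slot hf C.k1 (fun e => by
    have := congrArg Fin.val (Fin.succAbove_right_injective e); simp [j₀] at this) (f₁.symm.trans f₂)
  have hm1 : m = 1 := smul_left_injective F P.d_ne (by
    show m • P.d = (1 : F) • P.d
    rw [one_smul, ← hm, hv₁])
  have hρ1 : ρ = 1 := wl_injective hf C.k1 i (by
    rw [f₁, qU_ext hf (u := v₁) (v := 1) fun a => by rw [hm, hm1]; simp, map_one, map_one])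
  set E : Vt F k t := pvec fun _ => P.e
  have h5 := congrArg (fun r : OQ (qT f t) => (r : Vt F k t ≃ₗ[F] Vt F k t) E) hρ1
  simp only [hρ, hL', OneMemClass.coe_one, LinearEquiv.coe_one, id_eq] at h5
  rw [show frm f t D E = 1 by simp [D, E, frm_pvec, P.de], show frm f t Z E = 0 by
    obtain ⟨j₁, hj₁⟩ : ∃ j₁ : Fin t, j₁ ≠ j₀ := ⟨⟨1, by omega⟩, fun e => by simpa [j₀] using congrArg Fin.val e⟩
    rw [hZ, frm_pvec]
    exact Finset.prod_eq_zero (Finset.mem_univ j₁) (by rw [Function.update_of_ne hj₁, hf.symm, ez])] at h5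
  simp at h5
  exact pvec_ne_zero (fun j => by
    by_cases hj : j = j₀
    · subst hj; simpa using P.d_ne
    · simpa [Function.update_of_ne hj] using hz0) h5

/-- **The centraliser of a good negative reflection is standard.** -/
theorem centr_v {i : Fin (t + 1)} {c : Ud F k} (hc : f c c ≠ 0) {x : OQ (qT f (t + 1))} (hx : x ∈ X)
    (h : Commute x (slot hf i (nr hf c))) : IsStd x := by
  rcases C.hk5 with hk | hk
  · exact C.centr_three hk hc hx h
  obtain ⟨d, z, hd0, hd, hdz, hzz, gd, gz⟩ := (orth_one hc).exists_iso hf (by omega)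
  have hcd : f c d = 0 := by simpa using gd 0
  have hcz : f c z = 0 := by simpa using gz 0
  set σ := slot hf i (sU hf hd hdz) with hσ
  have hσX : σ ∈ X := C.base _ (slot_sU_mem hf C.five _ hd hdz) (isStd_slot hf _ _)
  set y := x * σ * x⁻¹
  have hy : y ∈ lfix hf X i c ⊥ := mem_lfix_bot.2 ⟨X.mul_mem (X.mul_mem hx hσX) (X.inv_mem hx), fun a => by
    have hfix : (σ : Vt F k (t + 1) ≃ₗ[F] Vt F k (t + 1)) ((x⁻¹ : OQ (qT f (t + 1))).1 (Tm i c a)) =
        (x⁻¹ : OQ (qT f (t + 1))).1 (Tm i c a) := by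
      refine slot_fix_of_eigen hf (l := 1) (w := nr hf c) ?_ fun q hq => ?_
      · rw [one_smul, ← LinearEquiv.mul_apply, ← Subgroup.coe_mul, ← h.inv_left.eq, Subgroup.coe_mul,
          LinearEquiv.mul_apply, slot_Tm_self, nr_self hc]
      · rw [one_smul] at hq
        rw [nr_fix hc hq, map_smul, sU_fix hf hd hdz (by rw [hf.symm, hcd]) (by rw [hf.symm, hcz])]
    show (x : Vt F k (t + 1) ≃ₗ[F] Vt F k (t + 1)) ((σ : Vt F k (t + 1) ≃ₗ[F] Vt F k (t + 1))
      ((x⁻¹ : OQ (qT f (t + 1))).1 (Tm i c a))) = _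
    rw [hfix]
    exact (x : Vt F k (t + 1) ≃ₗ[F] Vt F k (t + 1)).apply_symm_apply _⟩
  obtain ⟨u, hu, -⟩ := fix_line hf C.k2 (C.lfix_five hk hc hy) (fun e => hc (by simp [e])) (mem_lfix_bot.1 hy).2
  exact C.conj_std hx hd0 hd hdz hzz hu

/-- In dimension three a product of two orthogonal good negative reflections is a third one. -/
theorem exists_third (hk : k = 3) {a b : Ud F k} (ha : Good hf t a) (hab : f a b = 0) (hb : f b b = f a a) :
    ∃ c, Good hf t c ∧ nr hf a * nr hf b = nr hf c := by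
  have hb0 : f b b ≠ 0 := hb ▸ ha.1
  obtain ⟨c, hc, hc'⟩ := (orth_two hf ha.1 hb0 hab).exists_aniso hf (by omega)
  have hac : f a c = 0 := by simpa using hc' 0
  have hbc : f b c = 0 := by simpa using hc' 1
  have ho := (orth_two hf ha.1 hb0 hab).cons hf hc hc'
  have hca : f c a = 0 := by rw [hf.symm, hac]
  have hcb : f c b = 0 := by rw [hf.symm, hbc]
  have hba : f b a = 0 := by rw [hf.symm, hab]
  have e : nr hf a * nr hf b = nr hf c := ho.ext hf hk.symm fun j => by
    fin_cases j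
    · simpa using (rr_perp ha.1 hb0 hac hbc).trans (nr_self hc).symm
    · simpa using (rr_self ha.1 hb0 hab).trans (nr_perp hc hca).symm
    · simp only [Fin.cons_succ, Matrix.cons_val_fin_one]
      rw [(nr_commute ha.1 hb0 hab).eq]
      simpa using (rr_self hb0 ha.1 hba).trans (nr_perp hc hcb).symm
  refine ⟨c, ⟨hc, ?_⟩, e⟩
  rw [← e]
  exact slot_rr_comm C.kodd C.five 0 ha.1 hb

/-- **The centraliser of a product of two orthogonal good negative reflections is standard.** -/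
theorem centr_rr {i : Fin (t + 1)} {a b : Ud F k} (ha : Good hf t a) (hab : f a b = 0) (hb : f b b = f a a)
    {x : OQ (qT f (t + 1))} (hx : x ∈ X) (h : Commute x (slot hf i (nr hf a * nr hf b))) : IsStd x := by
  rcases C.hk5 with hk | hk
  · obtain ⟨c, hc, e⟩ := C.exists_third hk ha hab hb
    rw [e] at h
    exact C.centr_v hc.1 hx h
  have ha0 := ha.1
  have hb0 : f b b ≠ 0 := hb ▸ ha0
  obtain ⟨d, z, hd0, hd, hdz, hzz, gd, gz⟩ := (orth_two hf ha0 hb0 hab).exists_iso hf (by omega)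
  have had : f a d = 0 := by simpa using gd 0
  have hbd : f b d = 0 := by simpa using gd 1
  have haz : f a z = 0 := by simpa using gz 0
  have hbz : f b z = 0 := by simpa using gz 1
  set σ := slot hf i (sU hf hd hdz) with hσ
  have hσX : σ ∈ X := C.base _ (slot_sU_mem hf C.five _ hd hdz) (isStd_slot hf _ _)
  set y := x * σ * x⁻¹
  have hy : y ∈ lfix hf X i a ⊥ := mem_lfix_bot.2 ⟨X.mul_mem (X.mul_mem hx hσX) (X.inv_mem hx), fun w => by
    have hfix : (σ : Vt F k (t + 1) ≃ₗ[F] Vt F k (t + 1)) ((x⁻¹ : OQ (qT f (t + 1))).1 (Tm i a w)) =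
        (x⁻¹ : OQ (qT f (t + 1))).1 (Tm i a w) := by
      refine slot_fix_of_eigen hf (l := -1) (w := nr hf a * nr hf b) ?_ fun q hq =>
        rr_neg_fix ha0 hb0 hd hdz had hbd haz hbz hq
      rw [← LinearEquiv.mul_apply, ← Subgroup.coe_mul, ← h.inv_left.eq, Subgroup.coe_mul,
        LinearEquiv.mul_apply, slot_Tm_self, rr_self ha0 hb0 hab, neg_one_smul, map_neg, LinearMap.neg_apply, map_neg]
    show (x : Vt F k (t + 1) ≃ₗ[F] Vt F k (t + 1)) ((σ : Vt F k (t + 1) ≃ₗ[F] Vt F k (t + 1))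
      ((x⁻¹ : OQ (qT f (t + 1))).1 (Tm i a w))) = _
    rw [hfix]
    exact (x : Vt F k (t + 1) ≃ₗ[F] Vt F k (t + 1)).apply_symm_apply _⟩
  obtain ⟨u, hu, -⟩ := fix_line hf C.k2 (C.lfix_five hk ha0 hy) (fun e => ha0 (by simp [e])) (mem_lfix_bot.1 hy).2
  exact C.conj_std hx hd0 hd hdz hzz hu

end Ctx

end CfsgLib.Geo.OrthWreath
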