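/-
The algebra of standard elements: uniqueness of their components, conjugation, scalar components.
-/
import Cfsg.Agent.Lib.Geo.OrthWreath.Centr

set_option autoImplicit false
set_option linter.unusedSectionVars false

namespace CfsgLib.Geo.OrthWreath

open CfsgLib.Classical CfsgLib.Classical.Quad Module
open CfsgLib.Known.OmegaCriterion
open CfsgLib.Geo.MixTensor (SymForm refl)
open CfsgLib.Geo.TensorWreath (pvec pvec_prop)
open LinearMap (BilinForm)

variable {F : Type*} [Field F] {k t : ℕ} {f : BilinForm F (Ud F k)}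

/-- An element has the given permutation and components. -/
def HasNf (g : OQ (qT f t)) (π : Equiv.Perm (Fin t)) (us : Fin t → OQ (qU f)) : Prop :=
  ∀ ξ, (g : Vt F k t ≃ₗ[F] Vt F k t) (pvec ξ) = pvec fun l => (us l : Ud F k ≃ₗ[F] Ud F k) (ξ (π⁻¹ l))

theorem HasNf.one : HasNf (1 : OQ (qT f t)) 1 (fun _ => 1) := fun ξ => by simp

theorem HasNf.mul {g h : OQ (qT f t)} {π ρ : Equiv.Perm (Fin t)} {us vs : Fin t → OQ (qU f)} (hg : HasNf g π us)
    (hh : HasNf h ρ vs) : HasNf (g * h) (π * ρ) (fun l => us l * vs (π⁻¹ l)) := fun ξ => by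
  rw [Subgroup.coe_mul, LinearEquiv.mul_apply, hh, hg]
  rfl

variable (hf : SymForm f)

theorem hasNf_slot (i : Fin t) (u : OQ (qU f)) : HasNf (slot hf i u) 1 (Function.update (fun _ => 1) i u) := by
  classical
  intro ξ
  rw [slot_pvec]
  congr 1
  funext l
  by_cases hl : l = i
  · subst hl; simp
  · simp [Function.update_of_ne hl]

theorem hasNf_pair {i j : Fin t} (hij : i ≠ j) (a b : OQ (qU f)) :
    HasNf (slot hf i a * slot hf j b) 1 (Function.update (Function.update (fun _ => 1) j b) i a) := by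
  classical
  intro ξ
  rw [(hasNf_slot hf i a).mul (hasNf_slot hf j b) ξ]
  congr 1
  funext l
  simp only [inv_one, Equiv.Perm.one_apply]
  by_cases hl : l = i
  · subst hl; simp [Function.update_of_ne hij, Equiv.Perm.one_def]
  · simp [Function.update_of_ne hl, Equiv.Perm.one_def]

section

variable {hf}

/-- A vector with nonzero length, of either sign. -/
theorem sign_of_smul {u u' : OQ (qU f)} {m : F} {z : Ud F k} (hz : f z z ≠ 0) (hf : SymForm f)
    (h : ∀ y, (u : Ud F k ≃ₗ[F] Ud F k) y = m • (u' : Ud F k ≃ₗ[F] Ud F k) y) : m * m = 1 := by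
  have h1 := map_f hf u z z
  rw [h, map_smul, LinearMap.map_smul₂, map_f hf, smul_eq_mul, smul_eq_mul, ← mul_assoc] at h1
  exact mul_right_cancel₀ hz (by rw [one_mul, h1])

theorem HasNf.unique (hf : SymForm f) (hk : 2 ≤ k) {g : OQ (qT f t)} {π ρ : Equiv.Perm (Fin t)}
    {us vs : Fin t → OQ (qU f)} (hg : HasNf g π us) (hg' : HasNf g ρ vs) :
    π = ρ ∧ ∀ l, ∃ m : F, m * m = 1 ∧ ∀ y, (us l : Ud F k ≃ₗ[F] Ud F k) y = m • (vs l : Ud F k ≃ₗ[F] Ud F k) y := by
  classical
  obtain ⟨z, hz⟩ := exists_aniso_vec hf (k := k) (by omega)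
  have hz0 : z ≠ 0 := fun h0 => hz (by simp [h0])
  have key : ∀ ξ : Fin t → Ud F k, (∀ l, ξ l ≠ 0) → ∀ l, ∃ c : F,
      (us l : Ud F k ≃ₗ[F] Ud F k) (ξ (π⁻¹ l)) = c • (vs l : Ud F k ≃ₗ[F] Ud F k) (ξ (ρ⁻¹ l)) := fun ξ hξ l =>
    pvec_prop (fun m => by simpa using hξ _) ((hg ξ).symm.trans (hg' ξ)) l
  have hπ : π = ρ := by
    refine inv_injective (Equiv.ext fun l => ?_)
    by_contra hne
    obtain ⟨w, hw0, hw⟩ := exists_not_prop hk z
    obtain ⟨c, hc⟩ := key (fun _ => z) (fun _ => hz0) l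
    obtain ⟨c', hc'⟩ := key (Function.update (fun _ => z) (π⁻¹ l) w) (fun m => by
      by_cases hm : m = π⁻¹ l
      · subst hm; simpa
      · rw [Function.update_of_ne hm]; exact hz0) l
    rw [Function.update_self, Function.update_of_ne (Ne.symm hne)] at hc'
    have hc0 : c ≠ 0 := fun e => hz0 (by simpa [e] using hc)
    refine hw (c' / c) ((us l : Ud F k ≃ₗ[F] Ud F k).injective ?_)
    rw [map_smul, hc', hc, smul_smul, div_mul_cancel₀ _ hc0]
  refine ⟨hπ, fun l => ?_⟩
  subst hπ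
  obtain ⟨c, hc⟩ := scalar_of_eigen (A := lm ((vs l)⁻¹ * us l)) fun y hy => by
    obtain ⟨c, hc⟩ := key (Function.update (fun _ => z) (π⁻¹ l) y) (fun m => by
      by_cases hm : m = π⁻¹ l
      · subst hm; simpa
      · rw [Function.update_of_ne hm]; exact hz0) l
    simp only [Function.update_self] at hc
    refine ⟨c, (vs l : Ud F k ≃ₗ[F] Ud F k).injective ?_⟩
    rw [map_smul, ← hc, lm, LinearEquiv.coe_coe, Subgroup.coe_mul, LinearEquiv.mul_apply, Subgroup.coe_inv,
      LinearEquiv.coe_inv, LinearEquiv.apply_symm_apply]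
  have h : ∀ y, (us l : Ud F k ≃ₗ[F] Ud F k) y = c • (vs l : Ud F k ≃ₗ[F] Ud F k) y := fun y => by
    have := congrArg (fun x => (vs l : Ud F k ≃ₗ[F] Ud F k) x) (LinearMap.congr_fun hc y)
    simpa [lm, Subgroup.coe_inv] using this
  exact ⟨c, sign_of_smul hz hf h, h⟩

/-- Conjugation of a product by a standard element. -/
theorem HasNf.conj {x g : OQ (qT f t)} {π : Equiv.Perm (Fin t)} {us as : Fin t → OQ (qU f)} (hx : HasNf x π us)
    (hg : HasNf g 1 as) : HasNf (x * g * x⁻¹) 1 (fun l => us l * as (π⁻¹ l) * (us l)⁻¹) := by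
  intro ξ
  set ξ' : Fin t → Ud F k := fun m => (us (π m) : Ud F k ≃ₗ[F] Ud F k).symm (ξ (π m))
  have h1 : (x : Vt F k t ≃ₗ[F] Vt F k t) (pvec ξ') = pvec ξ := by
    rw [hx]
    congr 1
    funext l
    simp [ξ']
  rw [Subgroup.coe_mul, Subgroup.coe_mul, LinearEquiv.mul_apply, LinearEquiv.mul_apply, ← h1, Subgroup.coe_inv,
    LinearEquiv.coe_inv, LinearEquiv.symm_apply_apply, hg, hx]
  congr 1
  funext l
  simp [ξ', Subgroup.coe_inv]

/-- A negative reflection is not scalar. -/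
theorem nr_ne_scalar (hf : SymForm f) (hk : 2 ≤ k) {c : Ud F k} (hc : f c c ≠ 0) (m : F) :
    ¬ ∀ y, (nr hf c : Ud F k ≃ₗ[F] Ud F k) y = m • y := by
  intro h
  obtain ⟨y, hy0, hy⟩ : ∃ y, y ≠ 0 ∧ f c y = 0 := by
    by_contra! hcon
    obtain ⟨w, hw0, hw⟩ := exists_not_prop hk c
    refine hw (f c w / f c c) (sub_eq_zero.1 (by_contra fun h0 => hcon _ h0 ?_))
    rw [map_sub, map_smul, smul_eq_mul, div_mul_cancel₀ _ hc, sub_self]
  have hc0 : c ≠ 0 := fun e => hc (by simp [e])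
  have h1 : m = 1 := smul_left_injective F hc0 (by
    show m • c = (1 : F) • c
    rw [one_smul, ← h, nr_self hc])
  have h3 := h y
  rw [nr_perp hc hy, h1, one_smul, neg_eq_iff_add_eq_zero, ← two_smul F] at h3
  exact hy0 ((smul_eq_zero.1 h3).resolve_left hf.two)

end

include hf in
theorem dd_one : dd (lm (1 : OQ (qU f))) = k := by
  have h1 : fixS (lm (1 : OQ (qU f))) = ⊤ := eq_top_iff.2 fun y _ => mem_fixS.2 (by simp [lm])
  have h2 := fixS_add (L := lm (1 : OQ (qU f))) hf.two (by rw [lm_one, one_mul])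
  rw [dd, h1, finrank_top, finrank_fin_fun] at *
  omega

theorem dd_nr {c : Ud F k} (hc : f c c ≠ 0) : dd (lm (nr hf c)) = 2 - k := by
  have h1 : fixS (lm (nr hf c)) = Submodule.span F {c} := by
    refine le_antisymm (fun y hy => ?_) ?_
    · rw [nr_fix hc (mem_fixS.1 hy)]
      exact Submodule.smul_mem _ _ (Submodule.mem_span_singleton_self c)
    · rw [Submodule.span_singleton_le_iff_mem]
      exact mem_fixS.2 (nr_self hc)
  have h2 := fixS_add (L := lm (nr hf c)) hf.two (by rw [← lm_mul, nr_sq, lm_one])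
  rw [dd]
  rw [h1, finrank_span_singleton (fun e => hc (by simp [e])), finrank_fin_fun] at *
  omega

include hf in
/-- The dimensions of an involution of a factor. -/
theorem dd_cases (hko : Odd k) {u : OQ (qU f)} (hu : u * u = 1) :
    ((∃ m : F, ∀ y, (u : Ud F k ≃ₗ[F] Ud F k) y = m • y) ∧ |dd (lm u)| = k) ∨
      ((∀ m : F, ¬ ∀ y, (u : Ud F k ≃ₗ[F] Ud F k) y = m • y) ∧ 1 ≤ |dd (lm u)| ∧ |dd (lm u)| ≤ (k : ℤ) - 2) := by
  have hsum := fixS_add (L := lm u) hf.two (by rw [← lm_mul, hu, lm_one])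
  rw [finrank_fin_fun] at hsum
  obtain ⟨n, hn⟩ := hko
  by_cases h1 : finrank F (fixS (-lm u)) = 0
  · refine Or.inl ⟨⟨1, fun y => ?_⟩, by rw [dd, h1]; simp; omega⟩
    have : fixS (lm u) = ⊤ := Submodule.eq_top_of_finrank_eq (by rw [finrank_fin_fun]; omega)
    rw [one_smul]
    simpa [lm] using mem_fixS.1 (this.ge (Submodule.mem_top (x := y)))
  by_cases h2 : finrank F (fixS (lm u)) = 0
  · refine Or.inl ⟨⟨-1, fun y => ?_⟩, by rw [dd, h2]; simp; omega⟩
    have : fixS (-lm u) = ⊤ := Submodule.eq_top_of_finrank_eq (by rw [finrank_fin_fun]; omega)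
    have := mem_fixS.1 (this.ge (Submodule.mem_top (x := y)))
    rw [neg_one_smul, ← neg_eq_iff_eq_neg]
    simpa [lm] using this
  refine Or.inr ⟨fun m hm => ?_, ?_, ?_⟩
  · obtain ⟨a, ha, ha0⟩ := (fixS (lm u)).exists_mem_ne_zero_of_ne_bot (fun e => h2 (by rw [e, finrank_bot]))
    obtain ⟨b, hb, hb0⟩ := (fixS (-lm u)).exists_mem_ne_zero_of_ne_bot (fun e => h1 (by rw [e, finrank_bot]))
    have e1 := mem_fixS.1 ha
    have e2 := mem_fixS.1 hb
    rw [lm, LinearEquiv.coe_coe, hm] at e1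
    rw [LinearMap.neg_apply, lm, LinearEquiv.coe_coe, hm, ← neg_smul] at e2
    have hm1 : m = 1 := smul_left_injective F ha0 (by show m • a = (1 : F) • a; rw [one_smul]; exact e1)
    have hm2 : -m = 1 := smul_left_injective F hb0 (by show (-m) • b = (1 : F) • b; rw [one_smul]; exact e2)
    exact hf.two (by linear_combination -hm1 - hm2)
  · rw [dd]; exact Int.one_le_abs (by omega)
  · rw [dd, abs_le]; omega

include hf in
/-- The product of a scalar with itself. -/
theorem scalar_sq (hko : Odd k) {u : OQ (qU f)} {m : F} (hm : m * m = 1)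
    (h : ∀ y, ((u * u : OQ (qU f)) : Ud F k ≃ₗ[F] Ud F k) y = m • y) : m = 1 := by
  have e : lm (u * u) = m • (1 : Module.End F (Ud F k)) := LinearMap.ext fun y => h y
  have h1 := congrArg LinearMap.det e
  rw [lm_mul, map_mul, LinearMap.det_smul, map_one, mul_one, finrank_fin_fun] at h1
  have h2 := OrthTensor.det_sq_of_sim hf.nd (A := lm u) (l := 1) fun x y => by rw [one_mul]; exact map_f hf u x y
  rw [one_pow, h1] at h2
  obtain ⟨n, rfl⟩ := hko
  rwa [pow_succ, pow_mul, sq, hm, one_pow, one_mul] at h2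

variable [Finite F]

/-- Good vectors have norms in one class. -/
theorem Good.exists_scale {hf : SymForm f} (hk : 3 ≤ k) (ht : 1 ≤ t) (hko : Odd k) {c c' : Ud F k}
    (hc : Good hf t c) (hc' : Good hf t c') : ∃ s : F, s ≠ 0 ∧ f (s • c') (s • c') = f c c := by
  have h5 := five_le hf (t := t + 1) hk (by omega)
  obtain ⟨K₀, h⟩ := refl_class hf hko h5 (0 : Fin (t + 1))
  have hQ := qT_nd hf (t := t + 1)
  have hR := reflTop hf h5
  have hmem : slot hf 0 (nr hf c * nr hf c') ∈ commutator (OQ (qT f (t + 1))) := by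
    rw [map_mul]; exact mul_mem hc.2 hc'.2
  rw [nr_mul_nr hc.1 hc'.1, map_mul, mem_commutator_iff hQ hR, spinor_mul hQ hR, (h c hc.1).2, (h c' hc'.1).2,
    mul_mul_mul_comm, sqClass_mul_self, one_mul, ← sqc_mul hc.1 hc'.1, sqc_eq_one_iff (mul_ne_zero hc.1 hc'.1)] at hmem
  obtain ⟨q, hq⟩ := hmem.2
  refine ⟨q / f c' c', div_ne_zero (fun e => mul_ne_zero hc.1 hc'.1 (by rw [hq, e, mul_zero])) hc'.1, ?_⟩
  simp only [map_smul, LinearMap.smul_apply, smul_eq_mul]
  field_simp [hc'.1]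
  linear_combination -hq

end CfsgLib.Geo.OrthWreath
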