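/-
An element conjugating a good negative reflection of one factor to a standard element is standard.
-/
import Cfsg.Agent.Lib.Geo.OrthWreath.Prod

set_option autoImplicit false
set_option linter.unusedSectionVars false

namespace CfsgLib.Geo.OrthWreath

open CfsgLib.Classical CfsgLib.Classical.Quad Module
open CfsgLib.Known.OmegaCriterion
open CfsgLib.Geo.MixTensor (SymForm refl)
open CfsgLib.Geo.TensorWreath (pvec)
open LinearMap (BilinForm)

variable {F : Type*} [Field F] {k t : ℕ} {f : BilinForm F (Ud F k)}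

/-- Signs in the integers. -/
theorem exists_int_sign {m : F} (hm : m * m = 1) : ∃ s : ℤ, (s = 1 ∨ s = -1) ∧ (s : F) = m := by
  rcases mul_self_eq_one_iff.1 hm with h | h
  · exact ⟨1, Or.inl rfl, by simp [h]⟩
  · exact ⟨-1, Or.inr rfl, by simp [h]⟩

variable [Finite F]

/-- A transposition of two factors with scalar components elsewhere. -/
def IsSwap (g : OQ (qT f (t + 1))) : Prop :=
  ∃ (a b : Fin (t + 1)) (us : Fin (t + 1) → OQ (qU f)), a ≠ b ∧ HasNf g (Equiv.swap a b) us ∧
    ∀ l, l ≠ a → l ≠ b → ∃ m : F, ∀ y, (us l : Ud F k ≃ₗ[F] Ud F k) y = m • y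

/-- The fixed points of a nontrivial permutation of coordinates. -/
theorem card_fixed_le {π : Equiv.Perm (Fin (t + 1))} {a : Fin (t + 1)} (ha : π a ≠ a) :
    (Finset.univ.filter fun c : Fin (t + 1) → Fin k => (fun l => c (π⁻¹ l)) = c).card ≤ k ^ t := by
  classical
  refine (Finset.card_le_card_of_injOn (fun c j => c (Fin.succAbove (π a) j)) (fun c _ => Finset.mem_univ _)
    fun c hc c' hc' e => ?_).trans (by simp)
  simp only [Finset.coe_filter, Finset.mem_univ, true_and, Set.mem_setOf_eq] at hc hc'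
  funext l
  rcases Fin.eq_self_or_eq_succAbove (π a) l with hl | ⟨j, hl⟩
  · subst hl
    have h1 := congrFun hc (π a)
    have h2 := congrFun hc' (π a)
    simp only [Equiv.Perm.inv_def, Equiv.symm_apply_apply] at h1 h2
    obtain ⟨j, hj⟩ := Fin.exists_succAbove_eq ha.symm
    rw [← h1, ← h2, ← hj]
    exact congrFun e j
  · subst hl; exact congrFun e j

namespace Ctx

variable {hf : SymForm f} {X : Subgroup (OQ (qT f (t + 1)))} (C : Ctx hf X)
include C

theorem exists_nf {x : OQ (qT f (t + 1))} (hx : IsStd x) :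
    ∃ (π : Equiv.Perm (Fin (t + 1))) (us : Fin (t + 1) → OQ (qU f)), HasNf x π us := hx.normal hf C.k3 C.kodd

theorem dd_v {c : Ud F k} (hc : f c c ≠ 0) (i : Fin (t + 1)) :
    dd (lm (slot hf i (nr hf c))) = (2 - (k : ℤ)) * (k : ℤ) ^ t := by
  classical
  rw [dd_slots hf (us := Function.update (fun _ => 1) i (nr hf c)) (fun ξ => by
      rw [hasNf_slot hf i (nr hf c) ξ]
      rfl) (fun l => by
    by_cases hl : l = i
    · subst hl; simp [nr_sq]
    · simp [Function.update_of_ne hl]),
    ← Finset.mul_prod_erase Finset.univ _ (Finset.mem_univ i), Function.update_self, dd_nr hf hc,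
    Finset.prod_congr rfl (g := fun _ => (k : ℤ)) fun l hl => by
      rw [Function.update_of_ne (Finset.mem_erase.1 hl).1, dd_one hf], Finset.prod_const,
    Finset.card_erase_of_mem (Finset.mem_univ i)]
  simp

/-- An involution fixing all factors, of the dimensions of a good negative reflection. -/
theorem invol_one {w : OQ (qT f (t + 1))} {us : Fin (t + 1) → OQ (qU f)} (e : HasNf w 1 us) (hwX : w ∈ X)
    (h2 : w * w = 1) (hd : dd (lm w) = (2 - (k : ℤ)) * (k : ℤ) ^ t) {m : Fin (t + 1) → F}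
    (hm : ∀ l, m l * m l = 1) (hmy : ∀ l y, ((us l * us ((1 : Equiv.Perm (Fin (t + 1)))⁻¹ l) : OQ (qU f)) :
      Ud F k ≃ₗ[F] Ud F k) y = m l • y) :
    ∃ l c, Good hf t c ∧ w = slot hf l (nr hf c) := by
  classical
  have hk3 := C.k3
  have husq : ∀ l, us l * us l = 1 := fun l => by
    have hmy' : ∀ y, ((us l * us l : OQ (qU f)) : Ud F k ≃ₗ[F] Ud F k) y = m l • y := fun y => by
      simpa using hmy l y
    have := scalar_sq hf C.kodd (hm l) hmy'
    exact qU_ext hf fun y => by rw [hmy', this, one_smul]; rfl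
  have hdd := dd_slots hf (g := w) (us := us) (fun ξ => by rw [e ξ]; rfl) husq
  rw [hd] at hdd
  have hle : ∀ l, |dd (lm (us l))| ≤ (k : ℤ) := fun l => by
    rcases dd_cases hf C.kodd (husq l) with h | h
    · exact h.2.le
    · have := h.2.2; omega
  set S := Finset.univ.filter fun l => |dd (lm (us l))| ≠ (k : ℤ) with hS
  have hns : ∀ l ∈ S, |dd (lm (us l))| ≤ (k : ℤ) - 2 := fun l hl => by
    rcases dd_cases hf C.kodd (husq l) with h | h
    · exact absurd h.2 (Finset.mem_filter.1 hl).2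
    · exact h.2.2
  have habs : ∏ l, |dd (lm (us l))| = ((k : ℤ) - 2) * (k : ℤ) ^ t := by
    rw [← Finset.abs_prod, ← hdd, abs_mul, abs_pow, abs_of_nonpos (a := (2 : ℤ) - k) (by omega),
      abs_of_nonneg (a := (k : ℤ)) (by omega)]
    ring
  have hpow : ∀ n : ℕ, 0 < (k : ℤ) ^ n := fun n => pow_pos (by omega) n
  obtain ⟨l₀, hl₀⟩ : ∃ l, l ∈ S := by
    by_contra! hno
    rw [Finset.prod_congr rfl (g := fun _ => (k : ℤ)) fun l _ => by simpa [hS] using hno l, Finset.prod_const,
      Finset.card_univ, Fintype.card_fin, pow_succ'] at habs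
    nlinarith [hpow t]
  have hone : ∀ l, l ≠ l₀ → |dd (lm (us l))| = (k : ℤ) := by
    intro l hl
    by_contra hne
    have hlS : l ∈ S := by simp [hS, hne]
    rw [← Finset.mul_prod_erase _ _ (Finset.mem_univ l₀),
      ← Finset.mul_prod_erase _ _ (Finset.mem_erase.2 ⟨hl, Finset.mem_univ l⟩)] at habs
    have hcard : ((Finset.univ.erase l₀).erase l).card = t - 1 := by
      rw [Finset.card_erase_of_mem (Finset.mem_erase.2 ⟨hl, Finset.mem_univ l⟩),
        Finset.card_erase_of_mem (Finset.mem_univ l₀), Finset.card_univ, Fintype.card_fin]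
      omega
    set R := ∏ x ∈ (Finset.univ.erase l₀).erase l, |dd (lm (us x))|
    have hR0 : 0 ≤ R := Finset.prod_nonneg fun x _ => abs_nonneg _
    have hR : R ≤ (k : ℤ) ^ (t - 1) :=
      (Finset.prod_le_prod (fun x _ => abs_nonneg _) fun x _ => hle x).trans (le_of_eq (by rw [Finset.prod_const, hcard]))
    have ht : (k : ℤ) ^ t = k * (k : ℤ) ^ (t - 1) := by
      rw [← pow_succ', Nat.sub_add_cancel C.t1]
    have a1 : |dd (lm (us l₀))| * (|dd (lm (us l))| * R) ≤ ((k : ℤ) - 2) * (((k : ℤ) - 2) * (k : ℤ) ^ (t - 1)) :=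
      mul_le_mul (hns _ hl₀) (mul_le_mul (hns _ hlS) hR hR0 (by omega)) (mul_nonneg (abs_nonneg _) hR0) (by omega)
    rw [habs, ht] at a1
    nlinarith [hpow (t - 1)]
  have hsc' : ∀ l, ∃ n : F, n * n = 1 ∧ (l ≠ l₀ → ∀ y, (us l : Ud F k ≃ₗ[F] Ud F k) y = n • y) := fun l => by
    by_cases hl : l = l₀
    · exact ⟨1, one_mul 1, fun h => absurd hl h⟩
    rcases dd_cases hf C.kodd (husq l) with ⟨⟨n, hn⟩, -⟩ | ⟨-, -, h⟩
    · obtain ⟨z, hz⟩ := exists_aniso_vec hf (k := k) C.k1
      exact ⟨n, sign_of_smul (u := us l) (u' := 1) hz hf (fun y => by rw [hn]; rfl), fun _ => hn⟩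
    · have := hone l hl; omega
  choose n hn hny using hsc'
  set q := ∏ l ∈ Finset.univ.erase l₀, n l
  have hq : q * q = 1 := by
    rw [← Finset.prod_mul_distrib]
    exact Finset.prod_eq_one fun l _ => hn l
  obtain ⟨u, hu⟩ : ∃ u : OQ (qU f), ∀ y, (u : Ud F k ≃ₗ[F] Ud F k) y = q • (us l₀ : Ud F k ≃ₗ[F] Ud F k) y :=
    ⟨mkU hf (A := q • lm (us l₀)) fun a b => by
      simp only [LinearMap.smul_apply, map_smul, smul_eq_mul, lm, LinearEquiv.coe_coe, map_f hf, ← mul_assoc, hq,
        one_mul], fun y => rfl⟩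
  have hwu : w = slot hf l₀ u := el_ext fun ξ => by
    rw [e ξ, slot_pvec, hu, pvec_update_smul]
    set N : Fin (t + 1) → F := Function.update n l₀ 1 with hN
    have hprod : ∏ l, N l = q := by
      rw [← Finset.mul_prod_erase _ _ (Finset.mem_univ l₀), hN, Function.update_self, one_mul]
      exact Finset.prod_congr rfl fun l hl => Function.update_of_ne (Finset.mem_erase.1 hl).1 _ _
    rw [← hprod, ← pvec_smul_all]
    congr 1
    funext l
    by_cases hl : l = l₀
    · subst hl; simp [hN]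
    · simp [hN, Function.update_of_ne hl, hny l hl]
  have hu2 : u * u = 1 := slot_injective hf C.k1 l₀ (by rw [map_mul, ← hwu, h2, map_one])
  have hdu : dd (lm u) = 2 - k := by
    have h' := dd_slots hf (g := w) (us := Function.update (fun _ => 1) l₀ u)
      (fun ξ => by rw [hwu, hasNf_slot hf l₀ u ξ]; rfl) (fun l => by
        by_cases hl : l = l₀
        · subst hl; simpa using hu2
        · simp [Function.update_of_ne hl])
    rw [hd, ← Finset.mul_prod_erase Finset.univ _ (Finset.mem_univ l₀), Function.update_self,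
      Finset.prod_congr rfl (g := fun _ => (k : ℤ)) fun l hl => by
        rw [Function.update_of_ne (Finset.mem_erase.1 hl).1, dd_one hf], Finset.prod_const,
      Finset.card_erase_of_mem (Finset.mem_univ l₀), Finset.card_univ, Fintype.card_fin, Nat.add_sub_cancel] at h'
    exact (mul_right_cancel₀ (hpow t).ne' h').symm
  have hsum := fixS_add (L := lm u) hf.two (by rw [← lm_mul, hu2, lm_one])
  rw [finrank_fin_fun] at hsum
  rw [dd] at hdu
  obtain ⟨c, hc, hc0⟩ := (fixS (lm u)).exists_mem_ne_zero_of_ne_bot (fun e0 => by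
    rw [e0, finrank_bot] at hdu hsum; omega)
  have hline : fixS (lm u) = Submodule.span F {c} := (Submodule.eq_of_le_of_finrank_eq
    ((Submodule.span_singleton_le_iff_mem _ _).2 hc) (by rw [finrank_span_singleton hc0]; omega)).symm
  have hdec : ∀ y, ∃ r : F, y + (u : Ud F k ≃ₗ[F] Ud F k) y = r • c := fun y => by
    have : y + (u : Ud F k ≃ₗ[F] Ud F k) y ∈ fixS (lm u) := mem_fixS.2 (by
      rw [lm, LinearEquiv.coe_coe, map_add, ← LinearEquiv.mul_apply, ← Subgroup.coe_mul, hu2]
      simp [add_comm])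
    rw [hline] at this
    obtain ⟨r, hr⟩ := Submodule.mem_span_singleton.1 this
    exact ⟨r, hr.symm⟩
  have huc : (u : Ud F k ≃ₗ[F] Ud F k) c = c := mem_fixS.1 hc
  have hfc : ∀ y, f c ((u : Ud F k ≃ₗ[F] Ud F k) y) = f c y := fun y => by
    conv_lhs => rw [← huc]
    exact map_f hf u c y
  have hcc : f c c ≠ 0 := fun h0 => hc0 (hf.nd.1 c fun y => by
    obtain ⟨r, hr⟩ := hdec y
    have := congrArg (f c) hr
    rw [map_add, map_smul, hfc, smul_eq_mul, h0, mul_zero, ← two_mul] at this
    exact (mul_eq_zero.1 this).resolve_left hf.two)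
  have hunr : u = nr hf c := qU_ext hf fun y => by
    obtain ⟨r, hr⟩ := hdec y
    have h' := congrArg (f c) hr
    rw [map_add, map_smul, hfc, smul_eq_mul] at h'
    rw [nr_apply hcc, eq_sub_iff_add_eq, add_comm, hr]
    congr 1
    field_simp
    linear_combination -h'
  refine ⟨l₀, c, ⟨hcc, ?_⟩, hunr ▸ hwu⟩
  exact slot_mem_of hf C.five (hunr ▸ hwu ▸ C.le hwX) 0

/-- An involution moving a factor, of the dimensions of a good negative reflection. -/
theorem invol_move {w : OQ (qT f (t + 1))} {π : Equiv.Perm (Fin (t + 1))} {us : Fin (t + 1) → OQ (qU f)}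
    (e : HasNf w π us) (h2 : w * w = 1) (hd : dd (lm w) = (2 - (k : ℤ)) * (k : ℤ) ^ t)
    (hπ : π ≠ 1) (hπi : ∀ l, π⁻¹ l = π l) {m : Fin (t + 1) → F} (hm : ∀ l, m l * m l = 1)
    (hmy : ∀ l y, ((us l * us (π⁻¹ l) : OQ (qU f)) : Ud F k ≃ₗ[F] Ud F k) y = m l • y) :
    k = 3 ∧ IsSwap w := by
  classical
  have hk3 := C.k3
  obtain ⟨a, ha⟩ : ∃ a, π a ≠ a := by
    by_contra! hall
    exact hπ (Equiv.ext hall)
  have hppa : ∀ l, π (π l) = l := fun l => by rw [← hπi, Equiv.Perm.inv_def, Equiv.symm_apply_apply]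
  -- bases adapted to the components
  have hfix2 : ∀ l, π l = l → us l * us l = 1 := fun l hl => by
    have hmy' : ∀ y, ((us l * us l : OQ (qU f)) : Ud F k ≃ₗ[F] Ud F k) y = m l • y := fun y => by
      have := hmy l y
      simpa [← hπi l, hl, show π⁻¹ l = l by rw [hπi, hl]] using this
    have := scalar_sq hf C.kodd (hm l) hmy'
    exact qU_ext hf fun y => by rw [hmy', this, one_smul]; rfl
  have hsb : ∀ l, ∃ (b : Basis (Fin k) F (Ud F k)) (ε : Fin k → ℤ), π l = l →
      (∀ x, ε x = 1 ∨ ε x = -1) ∧ ∀ x, lm (us l) (b x) = (ε x : F) • b x := fun l => by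
    by_cases hl : π l = l
    · obtain ⟨b, ε, h₁, h₂⟩ := exists_sign_basis hf.two (L := lm (us l)) (by rw [← lm_mul, hfix2 l hl, lm_one])
      exact ⟨b, ε, fun _ => ⟨h₁, h₂⟩⟩
    · exact ⟨Pi.basisFun F (Fin k), fun _ => 1, fun h => absurd h hl⟩
  choose b₁ ε₁ hb₁ using hsb
  choose sm hsm hsmF using fun l => exists_int_sign (hm l)
  let B : Fin (t + 1) → Basis (Fin k) F (Ud F k) := fun l =>
    if π l = l then b₁ l else if l < π l then Pi.basisFun F (Fin k)
      else (Pi.basisFun F (Fin k)).map (us l : Ud F k ≃ₗ[F] Ud F k)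
  let s : Fin (t + 1) → Fin k → ℤ := fun l x => if π l = l then ε₁ l x else if l < π l then sm l else 1
  have hs : ∀ l x, s l x = 1 ∨ s l x = -1 := fun l x => by
    simp only [s]
    split_ifs with h h'
    · exact (hb₁ l h).1 x
    · exact hsm l
    · exact Or.inl rfl
  have hB : ∀ l x, (us l : Ud F k ≃ₗ[F] Ud F k) (B (π l) x) = (s l x : F) • B l x := by
    intro l x
    by_cases hl : π l = l
    · simp only [B, s, hl, if_true]
      exact (hb₁ l hl).2 x
    have hl' : π (π l) ≠ π l := by rw [hppa]; exact Ne.symm hl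
    by_cases hlt : l < π l
    · simp only [B, s, if_neg hl, if_neg hl', if_pos hlt, hppa, if_neg (not_lt.2 hlt.le), Basis.map_apply]
      have := hmy l (Pi.basisFun F (Fin k) x)
      simp only [hπi, OneMemClass.coe_one, LinearEquiv.coe_one, id_eq, Subgroup.coe_mul, LinearEquiv.mul_apply]
        at this
      rw [this, hsmF]
    · have hlt' : π l < l := lt_of_le_of_ne (not_lt.1 hlt) hl
      simp only [B, s, if_neg hl, if_neg hl', if_neg hlt, hppa, if_pos hlt', Basis.map_apply]
      simp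
  obtain ⟨b, hb⟩ := exists_pbasis B
  have hwb : ∀ c, lm w (b c) = ((∏ l, s l (c (π⁻¹ l)) : ℤ) : F) • b (fun l => c (π⁻¹ l)) := fun c => by
    rw [hb, hb, lm, LinearEquiv.coe_coe, e]
    simp only [hπi, hB]
    rw [pvec_smul_all, Int.cast_prod]
  have hsum := dd_monomial hf.two b (σ := fun c l => c (π⁻¹ l)) (ε := fun c => ∏ l, s l (c (π⁻¹ l)))
    (fun c => Finset.prod_induction (fun l => s l (c (π⁻¹ l))) (fun x : ℤ => x = 1 ∨ x = -1)
      (by rintro x y (rfl | rfl) (rfl | rfl) <;> simp) (Or.inl rfl) fun l _ => hs l _)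
    (fun c => funext fun l => by simp only [hπi, hppa]) (L := lm w) (by rw [← lm_mul, h2, lm_one]) hwb
  rw [hd] at hsum
  set E : (Fin (t + 1) → Fin k) → ℤ := fun c => ∏ l, s l (c (π⁻¹ l)) with hE
  set Fx := Finset.univ.filter fun c : Fin (t + 1) → Fin k => (fun l => c (π⁻¹ l)) = c with hFx
  have hEs : ∀ c, E c = 1 ∨ E c = -1 := fun c =>
    Finset.prod_induction (fun l => s l (c (π⁻¹ l))) (fun x : ℤ => x = 1 ∨ x = -1)
      (by rintro x y (rfl | rfl) (rfl | rfl) <;> simp) (Or.inl rfl) fun l _ => hs l _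
  have hbound : |∑ c ∈ Fx, E c| ≤ Fx.card := by
    refine (Finset.abs_sum_le_sum_abs _ _).trans (le_of_eq ?_)
    rw [Finset.sum_congr rfl (g := fun _ => (1 : ℤ)) fun c _ => by rcases hEs c with h | h <;> simp [h]]
    simp
  have hcard : Fx.card ≤ k ^ t := card_fixed_le ha
  rw [← hsum, abs_mul, abs_pow, abs_of_nonpos (a := (2 : ℤ) - k) (by omega),
    abs_of_nonneg (a := (k : ℤ)) (by omega)] at hbound
  have hcard' : (Fx.card : ℤ) ≤ (k : ℤ) ^ t := by exact_mod_cast hcard
  have hkpos : 0 < (k : ℤ) ^ t := pow_pos (by omega) t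
  have hk3' : k = 3 := by
    by_contra hne
    have : (4 : ℤ) ≤ k := by omega
    nlinarith
  have heq : Fx.card = k ^ t := le_antisymm hcard (by
    have : ((k ^ t : ℕ) : ℤ) ≤ Fx.card := by
      push_cast
      nlinarith
    exact_mod_cast this)
  -- only one pair is moved
  have honly : ∀ l, l ≠ a → l ≠ π a → π l = l := by
    intro l hla hlb
    by_contra hl
    have himg : (Fx.image fun c j => c (Fin.succAbove (π a) j)) = Finset.univ := by
      refine Finset.eq_univ_of_card _ ?_
      rw [Finset.card_image_of_injOn, heq]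
      · simp
      · intro c hc c' hc' e'
        simp only [hFx, Finset.coe_filter, Finset.mem_univ, true_and, Set.mem_setOf_eq] at hc hc'
        funext q
        rcases Fin.eq_self_or_eq_succAbove (π a) q with hq | ⟨j, hq⟩
        · subst hq
          have h1 := congrFun hc (π a)
          have h3 := congrFun hc' (π a)
          simp only [Equiv.Perm.inv_def, Equiv.symm_apply_apply] at h1 h3
          obtain ⟨j, hj⟩ := Fin.exists_succAbove_eq ha.symm
          rw [← h1, ← h3, ← hj]
          exact congrFun e' j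
        · subst hq; exact congrFun e' j
    obtain ⟨j, hj⟩ := Fin.exists_succAbove_eq hlb
    obtain ⟨j', hj'⟩ := Fin.exists_succAbove_eq (fun h => hla (π.injective h))
    have hjj : j' ≠ j := fun h => hl (by rw [← hj', h, hj])
    obtain ⟨c, hc, hcj⟩ := Finset.mem_image.1 (himg.ge (Finset.mem_univ
      (Function.update (fun _ : Fin t => (⟨0, by omega⟩ : Fin k)) j ⟨1, by omega⟩)))
    simp only [hFx, Finset.mem_filter, Finset.mem_univ, true_and] at hc
    have h1 := congrFun hc l
    simp only [hπi] at h1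
    have h3 := congrFun hcj j
    have h4 := congrFun hcj j'
    simp only [hj, hj', Function.update_self, Function.update_of_ne hjj] at h3 h4
    rw [h3, h4] at h1
    simp at h1
  have hswap : π = Equiv.swap a (π a) := by
    refine Equiv.ext fun l => ?_
    by_cases hla : l = a
    · subst hla; rw [Equiv.swap_apply_left]
    by_cases hlb : l = π a
    · subst hlb; rw [Equiv.swap_apply_right, hppa]
    rw [Equiv.swap_apply_of_ne_of_ne hla hlb, honly l hla hlb]
  refine ⟨hk3', a, π a, us, Ne.symm ha, hswap ▸ e, fun l hla hlb => ?_⟩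
  have hl := honly l hla hlb
  -- all signs on the fixed vectors are equal
  have hall : ∀ c ∈ Fx, E c = -1 := by
    have h3 : ∑ c ∈ Fx, (E c + 1) = 0 := by
      rw [Finset.sum_add_distrib, Finset.sum_const, nsmul_one, heq, ← hsum, hk3']
      push_cast; ring
    intro c hc
    have h4 := (Finset.sum_eq_zero_iff_of_nonneg (fun c _ => by rcases hEs c with h | h <;> simp [h])).1 h3 c hc
    omega
  have hz0 : (fun _ : Fin (t + 1) => (⟨0, by omega⟩ : Fin k)) ∈ Fx := by simp [hFx]
  have hconst : ∀ x, s l x = s l ⟨0, by omega⟩ := fun x => by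
    set c₀ : Fin (t + 1) → Fin k := fun _ => ⟨0, by omega⟩
    set c₁ := Function.update c₀ l x with hc₁
    have hfix : ∀ q, c₁ (π⁻¹ q) = c₁ q := fun q => by
      by_cases hq : q = l
      · subst hq; rw [hπi, hl]
      · rw [hc₁, Function.update_of_ne hq, Function.update_of_ne]
        rw [hπi]; exact fun h => hq (π.injective (h.trans hl.symm))
    have hc₁F : c₁ ∈ Fx := Finset.mem_filter.2 ⟨Finset.mem_univ _, funext hfix⟩
    have e1 := hall c₁ hc₁F
    have e0 := hall c₀ hz0
    simp only [hE, hfix] at e1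
    simp only [hE] at e0
    rw [← Finset.mul_prod_erase _ _ (Finset.mem_univ l)] at e1 e0
    rw [hc₁, Function.update_self, Finset.prod_congr rfl (g := fun q => s q (c₀ q)) fun q hq => by
      rw [Function.update_of_ne (Finset.mem_erase.1 hq).1]] at e1
    have hne : ∏ q ∈ Finset.univ.erase l, s q (c₀ q) ≠ 0 := Finset.prod_ne_zero_iff.2 fun q _ => by
      rcases hs q (c₀ q) with h | h <;> simp [h]
    exact mul_right_cancel₀ hne (e1.trans e0.symm)
  refine ⟨(s l ⟨0, by omega⟩ : F), fun y => ?_⟩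
  have : lm (us l) = (s l ⟨0, by omega⟩ : F) • (1 : Module.End F (Ud F k)) := (B l).ext fun x => by
    have := hB l x
    rw [hl, hconst] at this
    rw [lm, LinearEquiv.coe_coe, this]
    rfl
  exact LinearMap.congr_fun this y

/-- **The standard involutions with the dimensions of a good negative reflection.** -/
theorem invol_cases {w : OQ (qT f (t + 1))} (hw : IsStd w) (hwX : w ∈ X) (h2 : w * w = 1)
    (hd : dd (lm w) = (2 - (k : ℤ)) * (k : ℤ) ^ t) :
    (∃ l c, Good hf t c ∧ w = slot hf l (nr hf c)) ∨ (k = 3 ∧ IsSwap w) := by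
  classical
  obtain ⟨π, us, e⟩ := C.exists_nf hw
  obtain ⟨hππ, hsc⟩ := HasNf.unique hf C.k2 (h2 ▸ e.mul e : HasNf (1 : OQ (qT f (t + 1))) _ _) HasNf.one
  choose m hm hmy using hsc
  have hmy' : ∀ l y, ((us l * us (π⁻¹ l) : OQ (qU f)) : Ud F k ≃ₗ[F] Ud F k) y = m l • y := fun l y => by
    simpa using hmy l y
  have hπi : ∀ l, π⁻¹ l = π l := fun l => by
    have : π (π l) = l := by rw [← Equiv.Perm.mul_apply, hππ]; rfl
    conv_lhs => rw [← this]
    simp
  by_cases hπ : π = 1
  · subst hπ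
    exact Or.inl (C.invol_one e hwX h2 hd hm hmy')
  · exact Or.inr (C.invol_move e h2 hd hπ hπi hm hmy')

end Ctx

end CfsgLib.Geo.OrthWreath
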