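/-
An element conjugating a good negative reflection of one factor to a standard element is standard.
-/
import Cfsg.Agent.Lib.Geo.OrthWreath.Key

set_option autoImplicit false
set_option linter.unusedSectionVars false

namespace CfsgLib.Geo.OrthWreath

open CfsgLib.Classical CfsgLib.Classical.Quad Module
open CfsgLib.Known.OmegaCriterion
open CfsgLib.Geo.MixTensor (SymForm refl)
open CfsgLib.Geo.TensorWreath (pvec)
open LinearMap (BilinForm)

variable {F : Type*} [Field F] {k t : ℕ} {f : BilinForm F (Ud F k)} [Finite F]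

namespace Ctx

variable {hf : SymForm f} {X : Subgroup (OQ (qT f (t + 1)))} (C : Ctx hf X)
include C

/-- Moving a good negative reflection to a given one. -/
theorem exists_move {l i : Fin (t + 1)} {c c' : Ud F k} (hc : Good hf t c) (hc' : Good hf t c') :
    ∃ h ∈ X, IsStd h ∧ h * slot hf l (nr hf c') * h⁻¹ = slot hf i (nr hf c) := by
  classical
  obtain ⟨a, ha⟩ := exists_class hf C.k3 C.kodd C.five i (pel hf (Equiv.swap l i))
  set h₀ := slot hf i a * pel hf (Equiv.swap l i)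
  have hs₀ : IsStd h₀ := (isStd_slot hf i a).mul (isStd_pel hf _)
  set b := (a : Ud F k ≃ₗ[F] Ud F k) c'
  have e₀ : h₀ * slot hf l (nr hf c') * h₀⁻¹ = slot hf i (nr hf b) := by
    rw [← conj_nr, map_mul, map_mul, map_inv]
    have := pel_slot hf (Equiv.swap l i) l (nr hf c')
    rw [Equiv.swap_apply_left] at this
    conv_rhs => rw [← mul_inv_eq_iff_eq_mul.2 this]
    simp only [h₀, mul_inv_rev, mul_assoc]
  have hb : Good hf t b := hc'.of_norm C.kodd C.five (map_f hf a c' c')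
  obtain ⟨s, hs, hnorm⟩ := Good.exists_scale C.k3 C.t1 C.kodd hc hb
  set b' := s • b
  obtain ⟨u, hu⟩ : ∃ u : OQ (qU f), (u : Ud F k ≃ₗ[F] Ud F k) b' = c ∨ (u : Ud F k ≃ₗ[F] Ud F k) b' = -c := by
    by_cases hd : f (b' - c) (b' - c) = 0
    · have hd' : f (b' + c) (b' + c) ≠ 0 := fun e0 => by
        simp only [map_add, map_sub, LinearMap.add_apply, LinearMap.sub_apply, hnorm] at e0 hd
        exact mul_ne_zero (mul_ne_zero hf.two hf.two) hc.1 (by linear_combination e0 + hd)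
      refine ⟨rfU hf hd', Or.inr ?_⟩
      rw [rfU_apply, MixTensor.refl_apply]
      have hq : 2 / f (b' + c) (b' + c) * f (b' + c) b' = 1 := by
        rw [div_mul_eq_mul_div, div_eq_one_iff_eq hd']
        simp only [map_add, LinearMap.add_apply, hnorm, hf.symm b' c]; ring
      rw [hq]; module
    · refine ⟨rfU hf hd, Or.inl ?_⟩
      rw [rfU_apply, MixTensor.refl_apply]
      have hq : 2 / f (b' - c) (b' - c) * f (b' - c) b' = 1 := by
        rw [div_mul_eq_mul_div, div_eq_one_iff_eq hd]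
        simp only [map_sub, LinearMap.sub_apply, hnorm, hf.symm b' c]; ring
      rw [hq]; module
  let j : Fin t := ⟨0, by have := C.t1; omega⟩
  set h₁ := slot hf i u * slot hf (i.succAbove j) u
  have hunr : nr hf ((u : Ud F k ≃ₗ[F] Ud F k) b) = nr hf c := by
    rw [← nr_smul _ hs, ← map_smul]
    rcases hu with e | e <;> rw [e]
    rw [← neg_one_smul F c, nr_smul c (neg_ne_zero.2 one_ne_zero)]
  have hc1 : slot hf (i.succAbove j) u * slot hf i (nr hf b) = slot hf i (nr hf b) * slot hf (i.succAbove j) u :=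
    (slot_comm hf (Fin.succAbove_ne i j) _ _).eq
  have e₁ : h₁ * slot hf i (nr hf b) * h₁⁻¹ = slot hf i (nr hf c) := by
    rw [← hunr, ← conj_nr u b, map_mul, map_mul, map_inv]
    conv_rhs => rw [← mul_inv_eq_iff_eq_mul.2 hc1]
    simp only [h₁, mul_inv_rev, mul_assoc]
  refine ⟨h₁ * h₀, X.mul_mem (C.slot_pair_mem i _ u) (C.base _ ha hs₀),
    ((isStd_slot hf i u).mul (isStd_slot hf _ u)).mul hs₀, ?_⟩
  rw [← e₁, ← e₀]
  simp only [mul_inv_rev, mul_assoc]

/-- A good negative reflection conjugate to a good negative reflection. -/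
theorem std_of_good {g : OQ (qT f (t + 1))} (hg : g ∈ X) {i l : Fin (t + 1)} {c c' : Ud F k} (hc : Good hf t c)
    (hc' : Good hf t c') (e : g * slot hf i (nr hf c) * g⁻¹ = slot hf l (nr hf c')) : IsStd g := by
  obtain ⟨h, hh, hhs, e'⟩ := C.exists_move (l := l) (i := i) hc hc'
  rw [← e] at e'
  have h1 := C.centr_v (i := i) hc.1 (X.mul_mem hh hg) (show (h * g) * _ = slot hf i (nr hf c) * (h * g) from
    calc (h * g) * slot hf i (nr hf c) = (h * (g * slot hf i (nr hf c) * g⁻¹) * h⁻¹) * (h * g) := by group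
      _ = _ := by rw [e'])
  have := (C.isStd_inv hhs).mul h1
  rwa [inv_mul_cancel_left] at this

theorem nr_dd_eq {g : OQ (qT f (t + 1))} {i : Fin (t + 1)} {c : Ud F k} (hc : f c c ≠ 0) :
    dd (lm (g * slot hf i (nr hf c) * g⁻¹)) = (2 - (k : ℤ)) * (k : ℤ) ^ t := by
  rw [dd_conj, C.dd_v hc i]

/-- An element of the order of the characteristic commuting with a negative reflection is scalar on its factor. -/
theorem slot_scalar_of_commute (hk : k = 3) {p : ℕ} [Fact p.Prime] [CharP F p] {h : OQ (qT f (t + 1))}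
    (hhs : IsStd h) (hhp : h ^ p = 1) {i : Fin (t + 1)} {c : Ud F k} (hcc : f c c ≠ 0)
    (hhv : Commute h (slot hf i (nr hf c))) (x : OQ (qU f)) : Commute h (slot hf i x) := by
  classical
  have hp2 : p ≠ 2 := fun e0 => hf.two (by subst e0; exact CharTwo.two_eq_zero)
  obtain ⟨np, hnp⟩ := (Fact.out : p.Prime).odd_of_ne_two hp2
  obtain ⟨π, us', e'⟩ := C.exists_nf hhs
  have hconj := e'.conj (hasNf_slot hf i (nr hf c))
  rw [show h * slot hf i (nr hf c) * h⁻¹ = slot hf i (nr hf c) by rw [hhv.eq, mul_inv_cancel_right]] at hconj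
  obtain ⟨-, hu⟩ := HasNf.unique hf C.k2 hconj (hasNf_slot hf i (nr hf c))
  have hπi : π⁻¹ i = i := by
    by_contra hne
    obtain ⟨m, -, hm⟩ := hu i
    simp only [Function.update_self, Function.update_of_ne hne, mul_one, mul_inv_cancel, OneMemClass.coe_one,
      LinearEquiv.coe_one, id_eq] at hm
    refine nr_ne_scalar hf C.k2 hcc m⁻¹ fun y => ?_
    have hm0 : m ≠ 0 := fun e0 => by
      have := hm c
      rw [e0, zero_smul] at this
      exact hcc (by simp [this])
    nth_rw 2 [hm y]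
    rw [inv_smul_smul₀ hm0]
  set u := us' i with hu_def
  obtain ⟨δ, hδ, huc⟩ : ∃ δ : F, δ * δ = 1 ∧ (u : Ud F k ≃ₗ[F] Ud F k) c = δ • c := by
    obtain ⟨m, hm1, hm⟩ := hu i
    simp only [hπi, Function.update_self] at hm
    rw [show us' i * nr hf c * (us' i)⁻¹ = nr hf ((u : Ud F k ≃ₗ[F] Ud F k) c) from conj_nr u c] at hm
    have hm' : m = 1 := scalar_eq_one C.kodd (u := u) (w := nr hf c) hm1 fun y => by
      rw [conj_nr]; exact hm y
    have huc' : (nr hf c : Ud F k ≃ₗ[F] Ud F k) ((u : Ud F k ≃ₗ[F] Ud F k) c) = (u : Ud F k ≃ₗ[F] Ud F k) c := by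
      have := hm ((u : Ud F k ≃ₗ[F] Ud F k) c)
      rw [nr_self (by rw [map_f hf]; exact hcc), hm', one_smul] at this
      exact this.symm
    refine ⟨_, ?_, nr_fix hcc huc'⟩
    have h1 := map_f hf u c c
    conv_lhs at h1 => rw [nr_fix hcc huc', map_smul, LinearMap.map_smul₂, smul_eq_mul, smul_eq_mul, ← mul_assoc]
    exact mul_right_cancel₀ hcc (by rw [one_mul]; exact h1)
  have hn : ∀ n, ∃ vs, HasNf (h ^ n) (π ^ n) vs ∧ vs i = u ^ n := by
    intro n
    induction n with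
    | zero => exact ⟨_, by rw [pow_zero, pow_zero]; exact HasNf.one, (pow_zero u).symm⟩
    | succ n ih =>
      obtain ⟨vs, hvs, hvi⟩ := ih
      refine ⟨_, by rw [pow_succ', pow_succ']; exact e'.mul hvs, ?_⟩
      simp only [hπi, hvi]
      rw [pow_succ']
  obtain ⟨vs, hvs, hvi⟩ := hn p
  rw [hhp] at hvs
  obtain ⟨-, hsc'⟩ := HasNf.unique hf C.k2 hvs HasNf.one
  obtain ⟨m, hm, hmy⟩ := hsc' i
  rw [hvi] at hmy
  have hu2p : (u * u) ^ p = 1 := by
    rw [(Commute.refl u).mul_pow]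
    exact qU_ext hf fun y => by
      have hmy' : ∀ z, ((u ^ p : OQ (qU f)) : Ud F k ≃ₗ[F] Ud F k) z = m • z := fun z => by
        rw [hmy z]; simp
      rw [Subgroup.coe_mul, LinearEquiv.mul_apply, hmy', hmy', smul_smul, hm]; simp
  have hu2 : u * u = 1 := eq_one_of_pow_char hf hk hu2p hcc (by
    rw [Subgroup.coe_mul, LinearEquiv.mul_apply, huc, map_smul, huc, smul_smul, hδ, one_smul])
  have hup : u ^ p = u := by rw [hnp, pow_succ, pow_mul, sq, hu2, one_pow, one_mul]
  have huscal : ∀ y, (u : Ud F k ≃ₗ[F] Ud F k) y = m • y := fun y => by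
    have := hmy y
    rw [hup] at this
    simpa using this
  refine mul_inv_eq_iff_eq_mul.1 ?_
  have hπ' : π i = i := by conv_lhs => rw [← hπi]; simp
  rw [conj_slot hf e' i, hπ']
  congr 1
  exact mul_inv_eq_iff_eq_mul.2 (qU_ext hf fun y => by simp [← hu_def, huscal])

/-- **An element conjugating a good negative reflection to a standard element is standard.** -/
theorem of_conj (hkt : k = 3 → 2 ≤ t) {g : OQ (qT f (t + 1))} (hg : g ∈ X) {i : Fin (t + 1)} {c : Ud F k}
    (hc : Good hf t c) (hw : IsStd (g * slot hf i (nr hf c) * g⁻¹)) : IsStd g := by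
  classical
  have hinv : ∀ x, (g * slot hf i (nr hf x) * g⁻¹) * (g * slot hf i (nr hf x) * g⁻¹) = 1 := fun x => by
    rw [show ∀ v : OQ (qT f (t + 1)), g * v * g⁻¹ * (g * v * g⁻¹) = g * (v * v) * g⁻¹ from fun v => by group,
      ← map_mul, nr_sq, map_one, mul_one, mul_inv_cancel]
  have hmemX : ∀ x, Good hf t x → g * slot hf i (nr hf x) * g⁻¹ ∈ X := fun x hx =>
    X.mul_mem (X.mul_mem hg (C.nr_mem hx i)) (X.inv_mem hg)
  rcases C.invol_cases hw (hmemX c hc) (hinv c) (C.nr_dd_eq hc.1) with ⟨l, c', hc', e⟩ | ⟨hk, hsw⟩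
  · exact C.std_of_good hg hc hc' e
  obtain ⟨a, b, us, hab, e, hsc⟩ := hsw
  obtain ⟨l, hla, hlb⟩ : ∃ l : Fin (t + 1), l ≠ a ∧ l ≠ b := by
    by_contra! hall
    have : (Finset.univ : Finset (Fin (t + 1))) ⊆ {a, b} := fun x _ => by
      simp only [Finset.mem_insert, Finset.mem_singleton]
      exact or_iff_not_imp_left.2 (hall x)
    have h1 := (Finset.card_le_card this).trans Finset.card_le_two
    rw [Finset.card_univ, Fintype.card_fin] at h1
    have := hkt hk
    omega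
  obtain ⟨P, -⟩ := exists_frame hf (f := f) C.k3
  obtain ⟨z, dz, -, zz⟩ := P.exists_z hf C.k3
  have hσX : slot hf l (sU hf P.dd dz) ∈ X :=
    C.base _ (slot_sU_mem hf C.five _ P.dd dz) (isStd_slot hf _ _)
  generalize hσ : slot hf l (sU hf P.dd dz) = σ at hσX
  have hswσ : Commute (g * slot hf i (nr hf c) * g⁻¹) σ := by
    obtain ⟨m, hm⟩ := hsc l hla hlb
    refine mul_inv_eq_iff_eq_mul.1 ?_
    rw [← hσ, conj_slot hf e l, Equiv.swap_apply_of_ne_of_ne hla hlb]
    congr 1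
    refine mul_inv_eq_iff_eq_mul.2 (qU_ext hf fun y => ?_)
    simp [hm]
  obtain ⟨p, hp⟩ := CharP.exists F
  haveI : Fact p.Prime := ⟨CharP.char_is_prime F p⟩
  have hσp : σ ^ p = 1 := by
    rw [← hσ, ← map_pow, sU_pow, ← map_one (slot hf l), ← sU_zero hf P.dd]
    congr 1
    exact qU_ext hf fun y => by simp [sU_apply]
  have hhX : g⁻¹ * σ * g ∈ X := X.mul_mem (X.mul_mem (X.inv_mem hg) hσX) hg
  have hhv : Commute (g⁻¹ * σ * g) (slot hf i (nr hf c)) := by
    have h1 := hswσ.eq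
    show _ = _
    calc g⁻¹ * σ * g * slot hf i (nr hf c) = g⁻¹ * (σ * (g * slot hf i (nr hf c) * g⁻¹)) * g := by group
      _ = g⁻¹ * ((g * slot hf i (nr hf c) * g⁻¹) * σ) * g := by rw [h1]
      _ = slot hf i (nr hf c) * (g⁻¹ * σ * g) := by group
  have hhp : (g⁻¹ * σ * g) ^ p = 1 := by
    have := map_pow (MulAut.conj g⁻¹) σ p
    rw [hσp, map_one] at this
    simpa [MulAut.conj_apply] using this.symm
  have hcomm := C.slot_scalar_of_commute hk (C.centr_v hc.1 hhX hhv) hhp hc.1 hhv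
  have himg : ∀ x, Good hf t x → IsStd (g * slot hf i (nr hf x) * g⁻¹) := fun x hx => by
    refine C.centr_sigma (hmemX x hx) P.d_ne P.dd dz zz (i := l) ?_
    rw [hσ]
    have h1 := (hcomm (nr hf x)).eq
    show _ = _
    calc g * slot hf i (nr hf x) * g⁻¹ * σ = g * (slot hf i (nr hf x) * (g⁻¹ * σ * g)) * g⁻¹ := by group
      _ = g * ((g⁻¹ * σ * g) * slot hf i (nr hf x)) * g⁻¹ := by rw [h1]
      _ = σ * (g * slot hf i (nr hf x) * g⁻¹) := by group
  obtain ⟨d, hd, hcd, hdc⟩ := C.exists_good_perp hc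
  obtain ⟨r, hr, hcdr⟩ := C.exists_third hk hc hcd hdc
  by_contra hns
  have perm : ∀ x, Good hf t x → ∃ (π : Equiv.Perm (Fin (t + 1))) (vs : Fin (t + 1) → OQ (qU f)),
      HasNf (g * slot hf i (nr hf x) * g⁻¹) π vs ∧ Equiv.Perm.sign π = -1 := fun x hx => by
    rcases C.invol_cases (himg x hx) (hmemX x hx) (hinv x) (C.nr_dd_eq hx.1) with ⟨q, c', hc', e0⟩ | ⟨-, hs⟩
    · exact absurd (C.std_of_good hg hx hc' e0) hns
    · obtain ⟨a', b', vs, hab', e0, -⟩ := hs
      exact ⟨_, vs, e0, Equiv.Perm.sign_swap hab'⟩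
  obtain ⟨π₁, v₁, n₁, s₁⟩ := perm c hc
  obtain ⟨π₂, v₂, n₂, s₂⟩ := perm d hd
  obtain ⟨π₃, v₃, n₃, s₃⟩ := perm r hr
  have hprod : g * slot hf i (nr hf c) * g⁻¹ * (g * slot hf i (nr hf d) * g⁻¹) * (g * slot hf i (nr hf r) * g⁻¹) = 1 := by
    rw [show ∀ a b c : OQ (qT f (t + 1)), g * a * g⁻¹ * (g * b * g⁻¹) * (g * c * g⁻¹) = g * (a * b * c) * g⁻¹ from
      fun a b c => by group, ← map_mul, ← map_mul, hcdr, nr_sq, map_one, mul_one, mul_inv_cancel]
  have h123 : HasNf (1 : OQ (qT f (t + 1))) (π₁ * π₂ * π₃) _ := hprod ▸ (n₁.mul n₂).mul n₃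
  obtain ⟨hπ, -⟩ := HasNf.unique hf C.k2 h123 HasNf.one
  have := congrArg Equiv.Perm.sign hπ
  rw [map_mul, map_mul, s₁, s₂, s₃, map_one] at this
  exact absurd this (by decide)

end Ctx

end CfsgLib.Geo.OrthWreath
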