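/-
The centraliser of a product of two commuting good negative reflections is standard.
-/
import Cfsg.Agent.Lib.Geo.OrthWreath.Conj
import Cfsg.Agent.Lib.Geo.OrthWreath.Grp
import Cfsg.Agent.Lib.ZStar.Main

set_option autoImplicit false
set_option linter.unusedSectionVars false

namespace CfsgLib.Geo.OrthWreath

open CfsgLib.Classical CfsgLib.Classical.Quad Module
open CfsgLib.Known.OmegaCriterion
open CfsgLib.Geo.MixTensor (SymForm refl)
open CfsgLib.Geo.TensorWreath (pvec)
open LinearMap (BilinForm)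

variable {F : Type*} [Field F] {k t : ℕ} {f : BilinForm F (Ud F k)}

/-- Negative reflections proportional as maps are equal. -/
theorem nr_eq_of_smul (hf : SymForm f) (hko : Odd k) {a b : Ud F k} (ha : f a a ≠ 0) (hb : f b b ≠ 0) {m : F}
    (hm : m * m = 1) (h : ∀ y, (nr hf a : Ud F k ≃ₗ[F] Ud F k) y = m • (nr hf b : Ud F k ≃ₗ[F] Ud F k) y) :
    nr hf a = nr hf b := by
  have e : lm (nr hf a) = m • lm (nr hf b) := LinearMap.ext fun y => h y
  rcases mul_self_eq_one_iff.1 hm with rfl | rfl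
  · exact qU_ext hf fun y => by rw [h, one_smul]
  exfalso
  replace e : lm (nr hf a) = -lm (nr hf b) := LinearMap.ext fun y => by
    simp only [LinearMap.neg_apply, lm, LinearEquiv.coe_coe, h, neg_smul, one_smul]
  have h1 := dd_nr hf ha
  have h2 : dd (lm (nr hf a)) = -dd (lm (nr hf b)) := by
    rw [dd, dd, e, neg_neg, neg_sub]
  rw [dd_nr hf hb, h1] at h2
  obtain ⟨n, rfl⟩ := hko
  push_cast at h2
  omega

variable [Finite F]

theorem Good.scale {hf : SymForm f} (hko : Odd k) (h5 : 5 ≤ finrank F (Vt F k (t + 1))) {c : Ud F k}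
    (hc : Good hf t c) {s : F} (hs : s ≠ 0) : Good hf t (s • c) :=
  ⟨by simp [hs, hc.1], by rw [nr_smul c hs]; exact hc.2⟩

namespace Ctx

variable {hf : SymForm f} {X : Subgroup (OQ (qT f (t + 1)))} (C : Ctx hf X)
include C

theorem slot_nr_ne_one {c : Ud F k} (hc : f c c ≠ 0) (i : Fin (t + 1)) : slot hf i (nr hf c) ≠ 1 := fun e => by
  rw [← map_one (slot hf i)] at e
  refine nr_ne_scalar hf C.k2 hc 1 fun y => ?_
  rw [slot_injective hf C.k1 i e, one_smul]
  rfl

/-- The slot and the reflection are determined by the element. -/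
theorem slot_nr_inj {a b : Ud F k} (ha : f a a ≠ 0) (hb : f b b ≠ 0) {l l' : Fin (t + 1)}
    (e : slot hf l (nr hf a) = slot hf l' (nr hf b)) : l = l' ∧ nr hf a = nr hf b := by
  classical
  by_cases hl : l = l'
  · subst hl; exact ⟨rfl, slot_injective hf C.k1 l e⟩
  exfalso
  have h' := hasNf_slot hf l' (nr hf b)
  rw [← e] at h'
  obtain ⟨-, hu⟩ := HasNf.unique hf C.k2 (hasNf_slot hf l (nr hf a)) h'
  obtain ⟨m, -, hm⟩ := hu l
  rw [Function.update_self, Function.update_of_ne hl] at hm
  exact nr_ne_scalar hf C.k2 ha m fun y => by rw [hm y]; rfl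

theorem slot_nr_order {c : Ud F k} (hc : f c c ≠ 0) (i : Fin (t + 1)) : orderOf (slot hf i (nr hf c)) = 2 :=
  Signalizer.orderOf_eq_two_of (C.slot_nr_ne_one hc i) (by rw [← map_mul, nr_sq, map_one])

/-- A standard element carries a good negative reflection to another one. -/
theorem conj_good {x : OQ (qT f (t + 1))} (hxs : IsStd x) {i : Fin (t + 1)} {c : Ud F k} (hc : Good hf t c) :
    ∃ l c', Good hf t c' ∧ x * slot hf i (nr hf c) * x⁻¹ = slot hf l (nr hf c') := by
  obtain ⟨π, us, e⟩ := C.exists_nf hxs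
  exact ⟨π i, _, hc.of_norm C.kodd C.five (map_f hf (us (π i)) c c), by rw [conj_slot hf e i, conj_nr]⟩

theorem pair_not_nr {i j : Fin (t + 1)} (hij : i ≠ j) {c e a : Ud F k} (hc : f c c ≠ 0) (he : f e e ≠ 0)
    (l : Fin (t + 1)) : slot hf i (nr hf c) * slot hf j (nr hf e) ≠ slot hf l (nr hf a) := by
  classical
  intro h
  have h' := hasNf_slot hf l (nr hf a)
  rw [← h] at h'
  obtain ⟨-, hu⟩ := HasNf.unique hf C.k2 (hasNf_pair hf hij (nr hf c) (nr hf e)) h'
  obtain ⟨m, -, hmi⟩ := hu i
  obtain ⟨n, -, hnj⟩ := hu j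
  rw [Function.update_self] at hmi
  rw [Function.update_of_ne hij.symm, Function.update_self] at hnj
  by_cases hl : i = l
  · subst hl
    rw [Function.update_of_ne hij.symm] at hnj
    exact nr_ne_scalar hf C.k2 he n fun y => by rw [hnj y]; rfl
  · rw [Function.update_of_ne hl] at hmi
    exact nr_ne_scalar hf C.k2 hc m fun y => by rw [hmi y]; rfl

theorem pair_ne_one {i j : Fin (t + 1)} (hij : i ≠ j) {c e : Ud F k} (hc : f c c ≠ 0) (he : f e e ≠ 0) :
    slot hf i (nr hf c) * slot hf j (nr hf e) ≠ 1 := fun h => by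
  have h2 := eq_inv_of_mul_eq_one_left h
  rw [← map_inv, inv_eq_of_mul_eq_one_right (nr_sq e)] at h2
  exact hij (C.slot_nr_inj hc he h2).1

/-- A standard element commuting with a pair fixes or exchanges its factors. -/
theorem std_commute_pair {i j : Fin (t + 1)} (hij : i ≠ j) {c e : Ud F k} (hc : f c c ≠ 0) (he : f e e ≠ 0)
    {x : OQ (qT f (t + 1))} (hxs : IsStd x) (h : Commute x (slot hf i (nr hf c) * slot hf j (nr hf e))) :
    x * slot hf i (nr hf c) * x⁻¹ = slot hf i (nr hf c) ∨ x * slot hf i (nr hf c) * x⁻¹ = slot hf j (nr hf e) := by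
  classical
  obtain ⟨π, us, e'⟩ := C.exists_nf hxs
  set c' := (us (π i) : Ud F k ≃ₗ[F] Ud F k) c with hc'
  set d' := (us (π j) : Ud F k ≃ₗ[F] Ud F k) e with hd'
  have h1 : x * slot hf i (nr hf c) * x⁻¹ = slot hf (π i) (nr hf c') := by rw [conj_slot hf e' i, conj_nr]
  have h2 : x * slot hf j (nr hf e) * x⁻¹ = slot hf (π j) (nr hf d') := by rw [conj_slot hf e' j, conj_nr]
  have hp : slot hf (π i) (nr hf c') * slot hf (π j) (nr hf d') = slot hf i (nr hf c) * slot hf j (nr hf e) := by
    rw [← h1, ← h2]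
    calc _ = x * (slot hf i (nr hf c) * slot hf j (nr hf e)) * x⁻¹ := by group
      _ = _ := by rw [h.eq, mul_inv_cancel_right]
  have hn := hasNf_pair hf hij (nr hf c) (nr hf e)
  rw [← hp] at hn
  obtain ⟨-, hu⟩ := HasNf.unique hf C.k2 (hasNf_pair hf (fun q => hij (π.injective q)) (nr hf c') (nr hf d')) hn
  obtain ⟨m, hm, hmy⟩ := hu (π i)
  rw [Function.update_self] at hmy
  have hcc : f c' c' ≠ 0 := by rw [hc', map_f hf]; exact hc
  rw [h1]
  by_cases hpi : π i = i
  · rw [hpi, Function.update_self] at hmy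
    exact Or.inl (by rw [hpi, nr_eq_of_smul hf C.kodd hcc hc hm hmy])
  by_cases hpj : π i = j
  · rw [hpj, Function.update_of_ne hij.symm, Function.update_self] at hmy
    exact Or.inr (by rw [hpj, nr_eq_of_smul hf C.kodd hcc he hm hmy])
  rw [Function.update_of_ne hpi, Function.update_of_ne hpj] at hmy
  exact absurd (fun y => by rw [hmy y]; rfl) (nr_ne_scalar hf C.k2 hcc m)

variable (hkt : k = 3 → 2 ≤ t)
include hkt

/-- **The centraliser of a pair of good negative reflections of two factors is standard.** -/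
theorem centr_pair {i j : Fin (t + 1)} (hij : i ≠ j) {c e : Ud F k} (hc : Good hf t c) (he : Good hf t e)
    {x : OQ (qT f (t + 1))} (hx : x ∈ X) (h : Commute x (slot hf i (nr hf c) * slot hf j (nr hf e))) :
    IsStd x := by
  classical
  haveI := C.finiteX
  set v₁ := slot hf i (nr hf c) with hv₁
  set v₂ := slot hf j (nr hf e) with hv₂
  set B := v₁ * v₂ with hB
  have h11 : v₁ * v₁ = 1 := by rw [hv₁, ← map_mul, nr_sq, map_one]
  have h22 : v₂ * v₂ = 1 := by rw [hv₂, ← map_mul, nr_sq, map_one]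
  have h12 : Commute v₁ v₂ := slot_comm hf hij _ _
  have hBB : B * B = 1 := by rw [hB, mul_assoc, ← mul_assoc v₂, h12.symm.eq, mul_assoc v₁ v₂, h22, mul_one, h11]
  have hv₁B : Commute v₁ B := (Commute.refl v₁).mul_right h12
  set K : Subgroup (OQ (qT f (t + 1))) := X ⊓ Subgroup.centralizer {B} with hK
  have hmemK : ∀ {y}, y ∈ K ↔ y ∈ X ∧ Commute y B := fun {y} => by
    rw [hK, Subgroup.mem_inf, Subgroup.mem_centralizer_singleton_iff]; rfl
  have hBK : B ∈ K := hmemK.2 ⟨X.mul_mem (C.nr_mem hc i) (C.nr_mem he j), Commute.refl B⟩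
  set Bk : K := ⟨B, hBK⟩
  set N : Subgroup K := Subgroup.zpowers Bk
  have hcentral : Bk ∈ Subgroup.center K := Subgroup.mem_center_iff.2 fun y => Subtype.ext (hmemK.1 y.2).2.eq
  haveI hN : N.Normal := ⟨fun n hn g => by
    have h1 : n ∈ Subgroup.center K := (Subgroup.zpowers_le.2 hcentral) hn
    rwa [Subgroup.mem_center_iff.1 h1 g, mul_inv_cancel_right]⟩
  have hmemN : ∀ {y : K}, y ∈ N → (y : OQ (qT f (t + 1))) = 1 ∨ (y : OQ (qT f (t + 1))) = B := by
    intro y hy
    obtain ⟨n, rfl⟩ := hy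
    have h2 : Bk ^ (2 : ℤ) = 1 := Subtype.ext (by simp [sq, zpow_two, Bk, hBB])
    rcases Int.even_or_odd' n with ⟨q, rfl | rfl⟩
    · exact Or.inl (by simp [zpow_mul, h2])
    · exact Or.inr (by simp [zpow_add, zpow_mul, h2, Bk])
  let φ := QuotientGroup.mk' N
  let H : Subgroup K := C.stdIn.comap K.subtype
  let Y := H.map φ
  let w₁ : K := ⟨v₁, hmemK.2 ⟨C.nr_mem hc i, hv₁B⟩⟩
  have hφ : ∀ {y z : K}, φ y = φ z → (z : OQ (qT f (t + 1))) = y ∨ (z : OQ (qT f (t + 1))) = y * B := by
    intro y z e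
    rcases hmemN (QuotientGroup.eq.1 e) with h | h
    · left
      rw [Subgroup.coe_mul, Subgroup.coe_inv, inv_mul_eq_one] at h
      exact h.symm
    · right
      rw [Subgroup.coe_mul, Subgroup.coe_inv, inv_mul_eq_iff_eq_mul] at h
      exact h
  -- an element with standard image of the reflection
  have hstd : ∀ g : K, (IsStd ((g : OQ (qT f (t + 1))) * v₁ * (g : OQ (qT f (t + 1)))⁻¹) →
      IsStd (g : OQ (qT f (t + 1)))) := fun g hg => C.of_conj hkt (hmemK.1 g.2).1 hc hg
  have hwit : ∀ g : K, Commute (φ w₁) (φ g * φ w₁ * (φ g)⁻¹) → IsStd (g : OQ (qT f (t + 1))) := by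
    intro g hg
    let v' : K := g * w₁ * g⁻¹
    have h1 : φ (w₁ * v') = φ (v' * w₁) := by simpa [v'] using hg.eq
    have hd := hφ h1
    have hv : (v' : OQ (qT f (t + 1))) = (g : OQ (qT f (t + 1))) * v₁ * (g : OQ (qT f (t + 1)))⁻¹ := rfl
    have hvK := hmemK.1 v'.2
    simp only [Subgroup.coe_mul, hv] at hd hvK
    rw [show ((w₁ : K) : OQ (qT f (t + 1))) = v₁ from rfl] at hd
    refine hstd g ?_
    have huu : (g : OQ (qT f (t + 1))) * v₁ * (g : OQ (qT f (t + 1)))⁻¹ *
        ((g : OQ (qT f (t + 1))) * v₁ * (g : OQ (qT f (t + 1)))⁻¹) = 1 := by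
      calc _ = (g : OQ (qT f (t + 1))) * (v₁ * v₁) * (g : OQ (qT f (t + 1)))⁻¹ := by group
        _ = 1 := by rw [h11, mul_one, mul_inv_cancel]
    revert huu hd hvK
    generalize (g : OQ (qT f (t + 1))) * v₁ * (g : OQ (qT f (t + 1)))⁻¹ = u
    intro hd hvK huu
    rcases hd with h | h
    · exact C.centr_v hc.1 hvK.1 (show _ = _ from h)
    · refine C.of_conj hkt hvK.1 (i := i) hc ?_
      have e1 : u * v₁ * u⁻¹ = v₂ := by
        rw [inv_eq_of_mul_eq_one_right huu, h, mul_assoc (v₁ * u), ← hvK.2.eq, ← mul_assoc,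
          mul_assoc v₁ u u, huu, mul_one, hB, ← mul_assoc, h11, one_mul]
      rw [← hv₁, e1]
      exact isStd_slot hf j _
  have hiso : Cfsg.IsIsolatedInvolution (φ w₁) := by
    refine ⟨Signalizer.orderOf_eq_two_of (fun e1 => ?_) (by rw [← map_mul, show w₁ * w₁ = 1 from Subtype.ext h11, map_one]),
      fun g hg => ?_⟩
    · rcases hmemN ((QuotientGroup.eq_one_iff (N := N) w₁).1 e1) with h | h
      · exact C.slot_nr_ne_one hc.1 i h
      · exact C.slot_nr_ne_one he.1 j (mul_eq_left.1 h.symm)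
    · obtain ⟨g, rfl⟩ := QuotientGroup.mk'_surjective N g
      rcases C.std_commute_pair hij hc.1 he.1 (hwit g hg) (hmemK.1 g.2).2 with h | h
      · rw [← map_inv, ← map_mul, ← map_mul]
        exact congrArg φ (Subtype.ext h)
      · rw [← map_inv, ← map_mul, ← map_mul]
        refine QuotientGroup.eq.2 ?_
        have : (g * w₁ * g⁻¹)⁻¹ * w₁ = Bk := Subtype.ext (by
          show ((g : OQ (qT f (t + 1))) * v₁ * (g : OQ (qT f (t + 1)))⁻¹)⁻¹ * v₁ = B
          rw [h, inv_eq_of_mul_eq_one_right h22, hB]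
          exact h12.eq.symm)
        exact this ▸ Subgroup.mem_zpowers Bk
  have hY : ∀ y : K ⧸ N, Commute y (φ w₁) → y ∈ Y := by
    intro y hy
    obtain ⟨g, rfl⟩ := QuotientGroup.mk'_surjective N y
    refine Subgroup.mem_map_of_mem φ ⟨(hmemK.1 g.2).1, hwit g ?_⟩
    rw [show φ g * φ w₁ * (φ g)⁻¹ = φ w₁ by rw [hy.eq, mul_inv_cancel_right]]
  have hO : Cfsg.oddCore (K ⧸ N) ≤ Y := by
    obtain ⟨a, ha, hca, hac⟩ := C.exists_good_perp hc
    set e₁ := slot hf i (nr hf a)
    have hce : Commute v₁ e₁ := (nr_commute hc.1 ha.1 hca).map _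
    have he₁B : Commute e₁ B := hce.symm.mul_right (slot_comm hf hij _ _)
    let w₂ : K := ⟨e₁, hmemK.2 ⟨C.nr_mem ha i, he₁B⟩⟩
    have hne : nr hf a ≠ nr hf c := fun q => by
      obtain ⟨s, hs, hcs⟩ := nr_inj ha.1 hc.1 q
      rw [hcs, map_smul, LinearMap.smul_apply, smul_eq_mul, mul_eq_zero] at hca
      exact ha.1 (hca.resolve_left hs)
    refine le_of_four (ZStar.odd_card_oddCore _) hiso.1 (b := φ w₂) ?_ ?_ ?_ ?_ ?_ ?_
    · refine Signalizer.orderOf_eq_two_of (fun e1 => ?_) (by
        rw [← map_mul, show w₂ * w₂ = 1 from Subtype.ext (show e₁ * e₁ = 1 by rw [← map_mul, nr_sq, map_one]), map_one])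
      rcases hmemN ((QuotientGroup.eq_one_iff (N := N) w₂).1 e1) with h | h
      · exact C.slot_nr_ne_one ha.1 i h
      · exact C.pair_not_nr hij hc.1 he.1 i h.symm
    · exact (show Commute w₁ w₂ from Subtype.ext hce.eq).map φ
    · intro e1
      rcases hφ e1 with h | h
      · exact hne (slot_injective hf C.k1 i h)
      · change e₁ = v₁ * B at h
        rw [hB, ← mul_assoc, h11, one_mul] at h
        exact hij (C.slot_nr_inj ha.1 he.1 h).1
    · rw [Subgroup.normalizer_eq_top]; trivial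
    · rw [Subgroup.normalizer_eq_top]; trivial
    · intro y hyO hy
      rcases hy with hy | hy | hy
      · exact hY y hy
      all_goals
        obtain ⟨g, rfl⟩ := QuotientGroup.mk'_surjective N y
        obtain ⟨n, hn⟩ : Odd (orderOf (φ g)) := Odd.of_dvd_nat (ZStar.odd_card_oddCore _)
          (Subgroup.orderOf_dvd_natCard _ hyO)
        have hgn : φ (g ^ orderOf (φ g)) = 1 := by rw [map_pow, pow_orderOf_eq_one]
        have hgX := (hmemK.1 g.2).1
        have odd_fix : ∀ w : K, φ g * φ w = φ w * φ g →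
            Commute (g : OQ (qT f (t + 1))) (w : OQ (qT f (t + 1))) := by
          intro w hw
          rcases hφ (show φ (w * g) = φ (g * w) by rw [map_mul, map_mul]; exact hw.symm) with h | h
          · exact h
          exfalso
          have h' : g * w = w * g * Bk := Subtype.ext h
          have hcen : ∀ q : K, Commute Bk q := fun q => (Subgroup.mem_center_iff.1 hcentral q).symm
          have hstep : ∀ r : ℕ, g ^ r * w = w * g ^ r * Bk ^ r := by
            intro r
            induction r with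
            | zero => simp
            | succ r ih =>
              rw [pow_succ', pow_succ Bk, mul_assoc, ih, ← mul_assoc, ← mul_assoc, h', mul_assoc (w * g),
                ((hcen (g ^ r))).eq]
              simp only [mul_assoc]
              rw [((hcen _).pow_right r).eq]
          have h2 : Bk ^ orderOf (φ g) = Bk := by
            rw [hn, pow_succ, pow_mul, show Bk ^ 2 = 1 from Subtype.ext (by simp [sq, Bk, hBB]), one_pow, one_mul]
          have h3 := hstep (orderOf (φ g))
          rw [h2] at h3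
          have h4 : g ^ orderOf (φ g) * w = w * g ^ orderOf (φ g) := by
            rcases hmemN ((QuotientGroup.eq_one_iff (N := N) _).1 hgn) with q | q
            · rw [show g ^ orderOf (φ g) = 1 from Subtype.ext q, one_mul, mul_one]
            · rw [show g ^ orderOf (φ g) = Bk from Subtype.ext q]; exact (hcen w).eq
          rw [h4] at h3
          exact C.pair_ne_one hij hc.1 he.1 (congrArg Subtype.val (mul_eq_left.1 h3.symm))
        refine Subgroup.mem_map_of_mem φ (x := g) ⟨hgX, ?_⟩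
      · exact C.centr_v ha.1 hgX (odd_fix w₂ hy.eq)
      · refine C.centr_rr (i := i) hc hca hac hgX ?_
        rw [map_mul]
        exact odd_fix (w₁ * w₂) (by rw [map_mul]; exact hy.eq)
  obtain ⟨y, hy, hy'⟩ := Subgroup.mem_map.1
    (le_of_isolated hiso hY hO (φ ⟨x, hmemK.2 ⟨hx, h⟩⟩))
  have hys : IsStd (y : OQ (qT f (t + 1))) := hy.2
  rcases hφ hy' with q | q
  · rw [show x = (y : OQ (qT f (t + 1))) from q]; exact hys
  · rw [show x = (y : OQ (qT f (t + 1))) * B from q]; exact hys.mul ((isStd_slot hf i _).mul (isStd_slot hf j _))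

/-- **The centraliser of a product of two commuting good negative reflections is standard.** -/
theorem centr_mul {i l : Fin (t + 1)} {a b : Ud F k} (ha : Good hf t a) (hb : Good hf t b)
    (hc : Commute (slot hf i (nr hf a)) (slot hf l (nr hf b))) (hne : slot hf i (nr hf a) ≠ slot hf l (nr hf b))
    {x : OQ (qT f (t + 1))} (hx : x ∈ X) (h : Commute x (slot hf i (nr hf a) * slot hf l (nr hf b))) :
    IsStd x := by
  by_cases hil : i = l
  · subst hil
    have hnc : Commute (nr hf a) (nr hf b) := slot_injective hf C.k1 i (by rw [map_mul, map_mul]; exact hc.eq)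
    have h1 : nr hf ((nr hf a : Ud F k ≃ₗ[F] Ud F k) b) = nr hf b := by rw [← conj_nr, hnc.eq, mul_inv_cancel_right]
    obtain ⟨s, -, hs⟩ := nr_inj (by rw [map_f hf]; exact hb.1) hb.1 h1
    have hne' : nr hf a ≠ nr hf b := fun q => hne (by rw [q])
    have hab : f a b = 0 := by
      have hbb : (nr hf a : Ud F k ≃ₗ[F] Ud F k) ((nr hf a : Ud F k ≃ₗ[F] Ud F k) b) = b := by
        rw [← LinearEquiv.mul_apply, ← Subgroup.coe_mul, nr_sq]; rfl
      rw [hs, map_smul] at hbb
      have e1 : (nr hf a : Ud F k ≃ₗ[F] Ud F k) b = s • b := by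
        have := congrArg (nr hf a : Ud F k ≃ₗ[F] Ud F k) hs
        rw [map_smul, ← LinearEquiv.mul_apply, ← Subgroup.coe_mul, nr_sq] at this
        simpa using this
      have h2 := map_f hf (nr hf a) a b
      rw [nr_self ha.1, e1, map_smul, smul_eq_mul] at h2
      by_contra hab
      have hs1 : s = 1 := mul_right_cancel₀ hab (by rw [one_mul]; exact h2)
      rw [hs1, one_smul] at e1
      refine hne' ?_
      conv_rhs => rw [nr_fix ha.1 e1]
      rw [nr_smul]
      exact mul_ne_zero (inv_ne_zero ha.1) hab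
    obtain ⟨r, hr, hnorm⟩ := Good.exists_scale C.k3 C.t1 C.kodd ha hb
    refine C.centr_rr (i := i) (b := r • b) ha (by rw [map_smul, hab, smul_zero]) hnorm hx ?_
    rwa [nr_smul b hr, map_mul]
  · exact C.centr_pair hkt hil ha hb hx h

end Ctx

end CfsgLib.Geo.OrthWreath
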