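/-
A proper overgroup of the standard elements of `Ω` consists of standard elements.
-/
import Cfsg.Agent.Lib.Geo.OrthWreath.Pair

set_option autoImplicit false
set_option linter.unusedSectionVars false

namespace CfsgLib.Geo.OrthWreath

open CfsgLib.Classical CfsgLib.Classical.Quad Module
open CfsgLib.Known.OmegaCriterion
open CfsgLib.Geo.MixTensor (SymForm refl)
open CfsgLib.Geo.TensorWreath (pvec)
open LinearMap (BilinForm)

variable {F : Type*} [Field F] [Finite F] {k t : ℕ} {f : BilinForm F (Ud F k)}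

namespace Ctx

variable {hf : SymForm f} {X : Subgroup (OQ (qT f (t + 1)))} (C : Ctx hf X) (hkt : k = 3 → 2 ≤ t)
include C hkt

/-- **Fusion in the centraliser of a standard element separating two good vectors.** -/
theorem fuse {z : OQ (qT f (t + 1))} (hzX : z ∈ X) {us : Fin (t + 1) → OQ (qU f)} (hz : HasNf z 1 us)
    {m : Fin (t + 1)} {a b : Ud F k} (ha : Good hf t a) (hb : Good hf t b)
    (ea : (us m : Ud F k ≃ₗ[F] Ud F k) a = a) (eb : (us m : Ud F k ≃ₗ[F] Ud F k) b = -b)
    {g : OQ (qT f (t + 1))} (hg : g ∈ X) (hgz : Commute g z) : IsStd g := by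
  classical
  haveI := C.finiteX
  set va := slot hf m (nr hf a) with hva
  set vb := slot hf m (nr hf b) with hvb
  have hcz : ∀ c, (us m : Ud F k ≃ₗ[F] Ud F k) c = c ∨ (us m : Ud F k ≃ₗ[F] Ud F k) c = -c →
      Commute z (slot hf m (nr hf c)) := fun c h => by
    refine mul_inv_eq_iff_eq_mul.1 ?_
    rw [conj_slot hf hz m, Equiv.Perm.one_apply, conj_nr]
    congr 1
    rcases h with h | h <;> rw [h]
    rw [← neg_one_smul F c, nr_smul c (neg_ne_zero.2 one_ne_zero)]
  have hza : Commute va z := (hcz a (Or.inl ea)).symm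
  have hzb : Commute vb z := (hcz b (Or.inr eb)).symm
  set y := g * vb * g⁻¹ with hy
  have hzy : Commute y z := (hgz.mul_left hzb).mul_left hgz.inv_left
  have hyX : y ∈ X := X.mul_mem (X.mul_mem hg (C.nr_mem hb m)) (X.inv_mem hg)
  have hD : Subgroup.closure ({va, y} : Set (OQ (qT f (t + 1)))) ≤ X ⊓ Subgroup.centralizer {z} := by
    refine (Subgroup.closure_le _).2 ?_
    rintro w (rfl | rfl)
    · exact ⟨C.nr_mem ha m, Subgroup.mem_centralizer_singleton_iff.2 hza⟩
    · exact ⟨hyX, Subgroup.mem_centralizer_singleton_iff.2 hzy⟩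
  have hyo : orderOf y = 2 := by rw [hy, Signalizer.orderOf_conj]; exact C.slot_nr_order hb.1 m
  obtain ⟨z', hz'D, hz'o, hz'a, hz'y, d, hd, hdz⟩ := exists_central (C.slot_nr_order ha.1 m) hyo
    (fun d hd e => by
      obtain ⟨hdX, hdc⟩ := hD hd
      have hdc' : Commute d z := Subgroup.mem_centralizer_singleton_iff.1 hdc
      set h := g⁻¹ * d
      have hh : h * va * h⁻¹ = vb := by
        calc h * va * h⁻¹ = g⁻¹ * (d * va * d⁻¹) * g := by simp only [h, mul_inv_rev, inv_inv, mul_assoc]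
          _ = g⁻¹ * (g * vb * g⁻¹) * g := by rw [e, hy]
          _ = vb := by group
      have hhs : IsStd h := C.of_conj hkt (X.mul_mem (X.inv_mem hg) hdX) ha (by
        rw [hh]; exact isStd_slot hf m _)
      obtain ⟨π, vs, hv⟩ := C.exists_nf hhs
      rw [hva, conj_slot hf hv m, conj_nr] at hh
      obtain ⟨hπ, hnr⟩ := C.slot_nr_inj (by rw [map_f hf]; exact ha.1) hb.1 hh
      rw [hπ] at hnr
      obtain ⟨s, hs0, hs⟩ := nr_inj (by rw [map_f hf]; exact ha.1) hb.1 hnr
      have hconj := hv.conj hz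
      rw [show h * z * h⁻¹ = z by rw [(hgz.inv_left.mul_left hdc').eq, mul_inv_cancel_right]] at hconj
      obtain ⟨-, hu⟩ := HasNf.unique hf C.k2 hconj hz
      obtain ⟨r, hr, hry⟩ := hu m
      rw [show π⁻¹ m = m by rw [Equiv.Perm.inv_eq_iff_eq, hπ]] at hry
      have hr1 : r = 1 := scalar_eq_one C.kodd hr hry
      have h1 := hry ((vs m : Ud F k ≃ₗ[F] Ud F k) a)
      simp only [hr1, one_smul, Subgroup.coe_mul, Subgroup.coe_inv, LinearEquiv.mul_apply, LinearEquiv.coe_inv,
        LinearEquiv.symm_apply_apply, ea] at h1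
      have h2 : (us m : Ud F k ≃ₗ[F] Ud F k) b = b := by rw [hs, map_smul, ← h1]
      rw [eb] at h2
      have h3 : (2 : F) • b = 0 := by
        rw [two_smul]
        nth_rw 1 [← h2]
        exact neg_add_cancel b
      rcases smul_eq_zero.1 h3 with h4 | h4
      · exact hf.two h4
      · exact hb.1 (by simp [h4]))
  have hz'X : z' ∈ X := (hD hz'D).1
  have hz's : IsStd z' := C.centr_v ha.1 hz'X hz'a
  have hdX : d ∈ X := (hD hd).1
  have hgood : ∃ l c', Good hf t c' ∧ va * z' = slot hf l (nr hf c') := by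
    rcases hdz with e | e
    · obtain ⟨l, c', hc', e'⟩ := C.conj_good (C.of_conj hkt hdX ha (e ▸ (isStd_slot hf m _).mul hz's)) ha
      exact ⟨l, c', hc', e.trans e'⟩
    · rw [show d * y * d⁻¹ = d * g * vb * (d * g)⁻¹ by rw [hy]; group] at e
      obtain ⟨l, c', hc', e'⟩ := C.conj_good
        (C.of_conj hkt (X.mul_mem hdX hg) hb (e ▸ (isStd_slot hf m _).mul hz's)) hb
      exact ⟨l, c', hc', e.trans e'⟩
  obtain ⟨l, c', hc', e'⟩ := hgood
  have hva2 : va * va = 1 := by rw [hva, ← map_mul, nr_sq, map_one]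
  have hz'' : z' = va * slot hf l (nr hf c') := by rw [← e', ← mul_assoc, hva2, one_mul]
  have hy1 : Commute y (va * slot hf l (nr hf c')) := hz'' ▸ hz'y.symm
  have hys : IsStd y := C.centr_mul hkt ha hc' (e' ▸ (Commute.refl va).mul_right hz'a.symm)
    (fun e => Signalizer.involution_ne_one hz'o (by rw [hz'', ← e, hva2])) hyX hy1
  exact C.of_conj hkt hg hb hys

theorem dd_pair {i j : Fin (t + 1)} (hij : i ≠ j) {c e : Ud F k} (hc : f c c ≠ 0) (he : f e e ≠ 0) :
    0 < dd (lm (slot hf i (nr hf c) * slot hf j (nr hf e))) := by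
  classical
  rw [dd_slots hf (us := Function.update (Function.update (fun _ => 1) j (nr hf e)) i (nr hf c))
    (fun ξ => by rw [hasNf_pair hf hij (nr hf c) (nr hf e) ξ]; rfl) (fun l => by
      by_cases hl : l = i
      · subst hl; simp [nr_sq]
      by_cases hl' : l = j
      · subst hl'; simp [nr_sq, Function.update_of_ne hl]
      · simp [Function.update_of_ne hl, Function.update_of_ne hl'])]
  rw [← Finset.mul_prod_erase Finset.univ _ (Finset.mem_univ i),
    ← Finset.mul_prod_erase _ _ (Finset.mem_erase.2 ⟨hij.symm, Finset.mem_univ j⟩),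
    Function.update_self, Function.update_of_ne hij.symm, Function.update_self, dd_nr hf hc, dd_nr hf he,
    ← mul_assoc]
  have hk := C.k3
  refine mul_pos (mul_pos_of_neg_of_neg (by omega) (by omega)) (Finset.prod_pos fun l hl => ?_)
  obtain ⟨h1, h2⟩ := Finset.mem_erase.1 hl
  rw [Function.update_of_ne (Finset.mem_erase.1 h2).1, Function.update_of_ne h1, dd_one hf]
  omega

/-- **The conjugates of a pair of good negative reflections are standard.** -/
theorem pair_std {i j : Fin (t + 1)} (hij : i ≠ j) {c e : Ud F k} (hc : Good hf t c) (he : Good hf t e)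
    {x : OQ (qT f (t + 1))} (hx : x ∈ X) :
    IsStd (x * (slot hf i (nr hf c) * slot hf j (nr hf e)) * x⁻¹) := by
  classical
  haveI := C.finiteX
  set v := slot hf i (nr hf c) with hv
  set B := slot hf i (nr hf c) * slot hf j (nr hf e) with hB
  set u := x * B * x⁻¹ with hu
  have hBX : B ∈ X := X.mul_mem (C.nr_mem hc i) (C.nr_mem he j)
  have huX : u ∈ X := X.mul_mem (X.mul_mem hx hBX) (X.inv_mem hx)
  have hBB : B * B = 1 := by
    rw [hB, mul_assoc, ← mul_assoc (slot hf j (nr hf e)), (slot_comm hf hij.symm _ _).eq,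
      mul_assoc (slot hf i (nr hf c)) (slot hf j (nr hf e)), ← map_mul (slot hf j), nr_sq, map_one, mul_one,
      ← map_mul, nr_sq, map_one]
  have huo : orderOf u = 2 := by
    rw [hu, Signalizer.orderOf_conj]
    exact Signalizer.orderOf_eq_two_of (C.pair_ne_one hij hc.1 he.1) hBB
  have hD : Subgroup.closure ({v, u} : Set (OQ (qT f (t + 1)))) ≤ X := by
    refine (Subgroup.closure_le _).2 ?_
    rintro w (rfl | rfl)
    · exact C.nr_mem hc i
    · exact huX
  have hvo : orderOf v = 2 := C.slot_nr_order hc.1 i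
  obtain ⟨z, hzD, hzo, hzv, hzu, d, hd, hdz⟩ := exists_central hvo huo (fun d _ q => by
    have h1 := C.nr_dd_eq (g := d) (i := i) hc.1
    rw [q, hu, dd_conj] at h1
    have h2 := C.dd_pair hkt hij hc.1 he.1
    rw [h1] at h2
    have hk := C.k3
    have : (0 : ℤ) < (k : ℤ) ^ t := pow_pos (by omega) t
    nlinarith)
  have hzX : z ∈ X := hD hzD
  have hzs : IsStd z := C.centr_v hc.1 hzX hzv
  have hv2 : v * v = 1 := Signalizer.involution_sq hvo
  rcases hdz with q | q
  · obtain ⟨l, c', hc', e'⟩ := C.conj_good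
      (C.of_conj hkt (hD hd) hc (q ▸ (isStd_slot hf i _).mul hzs)) hc
    have q' : v * z = slot hf l (nr hf c') := q.trans e'
    have hz' : z = v * slot hf l (nr hf c') := by rw [← q', ← mul_assoc, hv2, one_mul]
    exact C.centr_mul hkt hc hc' (q' ▸ (Commute.refl v).mul_right hzv.symm)
      (fun e0 => Signalizer.involution_ne_one hzo (by rw [hz', ← e0, hv2])) huX
      (show Commute u (v * slot hf l (nr hf c')) from hz' ▸ hzu.symm)
  -- the product is conjugate to the pair
  set g := d * x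
  have hgX : g ∈ X := X.mul_mem (hD hd) hx
  have q2 : v * z = g * B * g⁻¹ := by rw [q, hu]; simp only [g]; group
  have hvg : Commute (g⁻¹ * v * g) B := by
    have h1 : Commute v (g * B * g⁻¹) := q2 ▸ (Commute.refl v).mul_right hzv.symm
    show _ = _
    calc g⁻¹ * v * g * B = g⁻¹ * (v * (g * B * g⁻¹)) * g := by group
      _ = g⁻¹ * ((g * B * g⁻¹) * v) * g := by rw [h1.eq]
      _ = B * (g⁻¹ * v * g) := by group
  have hgs : IsStd g := by
    have h1 := C.centr_pair hkt hij hc he (X.mul_mem (X.mul_mem (X.inv_mem hgX) (C.nr_mem hc i)) hgX) hvg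
    have := C.isStd_inv (C.of_conj hkt (X.inv_mem hgX) (i := i) hc (by rwa [inv_inv]))
    rwa [inv_inv] at this
  obtain ⟨π, us, eg⟩ := C.exists_nf hgs
  set a := (us (π i) : Ud F k ≃ₗ[F] Ud F k) c
  set b := (us (π j) : Ud F k ≃ₗ[F] Ud F k) e
  have ha : Good hf t a := hc.of_norm C.kodd C.five (map_f hf _ c c)
  have hb : Good hf t b := he.of_norm C.kodd C.five (map_f hf _ e e)
  have hl : π i ≠ π j := fun w => hij (π.injective w)
  have q3 : v * z = slot hf (π i) (nr hf a) * slot hf (π j) (nr hf b) := by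
    rw [q2, hB, show ∀ p r : OQ (qT f (t + 1)), g * (p * r) * g⁻¹ = g * p * g⁻¹ * (g * r * g⁻¹) from
      fun p r => by group, conj_slot hf eg i, conj_slot hf eg j, conj_nr, conj_nr]
  obtain ⟨l, m, a', b', hlm, him, hb', hz'⟩ : ∃ (l m : Fin (t + 1)) (a' b' : Ud F k), l ≠ m ∧ i ≠ m ∧
      Good hf t b' ∧ z = v * (slot hf l (nr hf a') * slot hf m (nr hf b')) := by
    have hz0 : z = v * (slot hf (π i) (nr hf a) * slot hf (π j) (nr hf b)) := by
      rw [← q3, ← mul_assoc, hv2, one_mul]
    by_cases him : i = π j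
    · exact ⟨π j, π i, b, a, hl.symm, fun w => hl (w.symm.trans him), ha,
        by rw [hz0, (slot_comm hf hl (nr hf a) (nr hf b)).eq]⟩
    · exact ⟨π i, π j, a, b, hl, him, hb, hz0⟩
  have hznf := (hasNf_slot hf i (nr hf c)).mul (hasNf_pair hf hlm (nr hf a') (nr hf b'))
  rw [← hv, ← hz', one_mul] at hznf
  obtain ⟨b'', hb'', hbb, -⟩ := C.exists_good_perp hb'
  refine C.fuse hkt hzX hznf (m := m) hb' hb'' ?_ ?_ huX hzu.symm
  · simp [Function.update_of_ne him.symm, Function.update_of_ne hlm.symm, Equiv.Perm.one_def, nr_self hb'.1]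
  · simp [Function.update_of_ne him.symm, Function.update_of_ne hlm.symm, Equiv.Perm.one_def,
      nr_perp hb'.1 hbb]

/-- An orthogonal frame of good vectors. -/
theorem exists_good_frame {x : OQ (qT f (t + 1))} (hx : x ∈ X) :
    ∀ r : ℕ, 2 * r + 1 ≤ k → ∃ (w : Fin (2 * r) → Ud F k) (u : OQ (qU f)), Orth f w ∧
      IsStd (x * slot hf 0 u * x⁻¹) ∧ slot hf 0 u ∈ commutator (OQ (qT f (t + 1))) ∧
      (∀ j, (u : Ud F k ≃ₗ[F] Ud F k) (w j) = -w j) ∧
      ∀ y, (∀ j, f (w j) y = 0) → (u : Ud F k ≃ₗ[F] Ud F k) y = y := by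
  obtain ⟨c₀, hc₀⟩ := exists_good (t := t) hf C.k2 C.kodd C.five
  obtain ⟨j₀, hj₀⟩ : ∃ j : Fin (t + 1), j ≠ 0 :=
    ⟨⟨1, by have := C.t1; omega⟩, fun e => by simpa using congrArg Fin.val e⟩
  intro r
  induction r with
  | zero =>
    intro _
    exact ⟨fun j => j.elim0, 1, ⟨fun j => j.elim0, fun j => j.elim0⟩,
      by rw [map_one, mul_one, mul_inv_cancel]; exact isStd_one, by rw [map_one]; exact one_mem _,
      fun j => j.elim0, fun y _ => rfl⟩
  | succ r ih =>
    intro hr
    obtain ⟨w, u, ow, hus, huc, huw, huy⟩ := ih (by omega)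
    obtain ⟨b, hbn, gb⟩ := ow.exists_norm hf (by omega) hc₀.1
    have ob := ow.cons hf (hbn ▸ hc₀.1) gb
    obtain ⟨a, han, ga⟩ := ob.exists_norm hf (by omega) hc₀.1
    have oa := ob.cons hf (han ▸ hc₀.1) ga
    have ha : Good hf t a := hc₀.of_norm C.kodd C.five han
    have hb : Good hf t b := hc₀.of_norm C.kodd C.five hbn
    have hba : f b a = 0 := by simpa using ga 0
    have hwa : ∀ j, f (w j) a = 0 := fun j => by simpa using ga j.succ
    refine ⟨Fin.cons a (Fin.cons b w), u * (nr hf a * nr hf b), oa, ?_, ?_, ?_, ?_⟩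
    · have h1 := C.pair_std hkt hj₀.symm ha hc₀ hx
      have h2 := C.pair_std hkt hj₀ hc₀ hb hx
      refine (congrArg IsStd ?_).mpr (hus.mul (h1.mul h2))
      have h3 : slot hf j₀ (nr hf c₀) * slot hf j₀ (nr hf c₀) = 1 := by rw [← map_mul, nr_sq, map_one]
      rw [map_mul, map_mul]
      calc x * (slot hf 0 u * (slot hf 0 (nr hf a) * slot hf 0 (nr hf b))) * x⁻¹
          = x * (slot hf 0 u * (slot hf 0 (nr hf a) * (slot hf j₀ (nr hf c₀) * slot hf j₀ (nr hf c₀)) *
            slot hf 0 (nr hf b))) * x⁻¹ := by rw [h3, mul_one]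
        _ = _ := by group
    · rw [map_mul]
      exact mul_mem huc (slot_rr_comm C.kodd C.five 0 ha.1 (hbn.trans han.symm))
    · intro j
      cases j using Fin.cases with
      | zero =>
        rw [Subgroup.coe_mul, LinearEquiv.mul_apply, Fin.cons_zero, rr_self ha.1 hb.1 (by rw [hf.symm, hba]),
          map_neg, huy a hwa]
      | succ j =>
        cases j using Fin.cases with
        | zero =>
          rw [Subgroup.coe_mul, LinearEquiv.mul_apply, Fin.cons_succ, Fin.cons_zero,
            (nr_commute ha.1 hb.1 (by rw [hf.symm, hba])).eq, rr_self hb.1 ha.1 hba, map_neg, huy b gb]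
        | succ j =>
          rw [Subgroup.coe_mul, LinearEquiv.mul_apply, Fin.cons_succ, Fin.cons_succ,
            rr_perp ha.1 hb.1 (by rw [hf.symm, hwa]) (by rw [hf.symm, gb]), huw]
    · intro y hy
      have h1 : f a y = 0 := by simpa using hy 0
      have h2 : f b y = 0 := by simpa using hy (Fin.succ 0)
      have h3 : ∀ j, f (w j) y = 0 := fun j => by simpa using hy j.succ.succ
      rw [Subgroup.coe_mul, LinearEquiv.mul_apply, rr_perp ha.1 hb.1 h1 h2, huy y h3]

/-- **A proper overgroup consists of standard elements.** -/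
theorem all_std {x : OQ (qT f (t + 1))} (hx : x ∈ X) : IsStd x := by
  obtain ⟨n, hn⟩ := C.kodd
  obtain ⟨w, u, ow, hus, huc, huw, huy⟩ := C.exists_good_frame hkt hx n (by omega)
  obtain ⟨c, hc, gc⟩ := ow.exists_aniso hf (by omega)
  have oc := ow.cons hf hc gc
  have e : u = nr hf c := oc.ext hf (by omega) fun j => by
    cases j using Fin.cases with
    | zero => rw [Fin.cons_zero, nr_self hc, huy c gc]
    | succ j => rw [Fin.cons_succ, huw, nr_perp hc (by rw [hf.symm, gc])]
  exact C.of_conj hkt hx (i := 0) (c := c) ⟨hc, e ▸ huc⟩ (e ▸ hus)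

end Ctx

end CfsgLib.Geo.OrthWreath
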