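/-
The overgroups of the standard elements of `Ω` of an odd-dimensional tensor power.
-/
import Cfsg.Agent.Lib.Geo.OrthWreath.Fuse
import Cfsg.Agent.Lib.Geo.OrthTensor.Square.Final

set_option autoImplicit false
set_option linter.unusedSectionVars false

namespace CfsgLib.Geo.OrthWreath

open CfsgLib.Classical CfsgLib.Classical.Quad Module
open CfsgLib.Geo.MixTensor (SymForm)
open CfsgLib.Geo.TensorWreath (pvec)
open CfsgLib.Geo.OrthTensor (Tens Small exists_iso_partner pair_nondeg span_pair_le exists_aniso_perp)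
open CfsgLib.Geo.OrthTensor.Square (Sw)
open QuadraticMap (polar polarBilin)
open LinearMap (BilinForm)

variable {F : Type*} [Field F] [Finite F] {k t : ℕ} {f : BilinForm F (Ud F k)}

theorem small_three {U : Type*} [AddCommGroup U] [Module F U] [FiniteDimensional F U] {g : BilinForm F U}
    (hg : SymForm g) (h3 : finrank F U = 3) (hq : Nat.card F ≠ 3) : Small g where
  form := hg
  three := h3.ge
  big h := by
    classical
    exfalso
    refine hq (le_antisymm ?_ ?_) <;> have := Fintype.ofFinite F
    · rw [Nat.card_eq_fintype_card, ← Finset.card_univ]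
      exact (Finset.card_le_card (t := ({0, 1, -1} : Finset F)) fun u _ => by simpa using h u).trans Finset.card_le_three
    · have h2 := hg.two
      have : ({0, 1, -1} : Finset F).card = 3 := Finset.card_eq_three.2 ⟨0, 1, -1, zero_ne_one,
        (neg_ne_zero.2 one_ne_zero).symm, fun h => h2 (by linear_combination h), rfl⟩
      rw [Nat.card_eq_fintype_card]
      exact this ▸ Finset.card_le_univ _
  four h := by omega

theorem five_le_card (h2 : (2 : F) ≠ 0) (hq : Nat.card F ≠ 3) : 5 ≤ Nat.card F := by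
  classical
  have := Fintype.ofFinite F
  rw [Nat.card_eq_fintype_card] at hq ⊢
  obtain ⟨n, hn⟩ := Nat.odd_iff.2 (FiniteField.odd_card_of_char_ne_two (F := F) fun hc => h2 (by
    haveI := ringChar.of_eq hc
    exact CharTwo.two_eq_zero))
  have := Fintype.one_lt_card (α := F)
  omega

theorem isStd_of_tens (hf : SymForm f) (hk : 3 ≤ k) (hko : Odd k) {x : OQ (qT f 2)} (hx : Tens (Tm 0) x) :
    IsStd x := by
  obtain ⟨a, y, rfl⟩ := exists_slot_wl hf hk hko hx
  exact (isStd_slot hf 0 a).mul (isStd_wl hf (isStd_level_one y))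

theorem isStd_of_sw (hf : SymForm f) (hk : 3 ≤ k) (hko : Odd k) {x : OQ (qT f 2)} (hx : Sw (Tm 0) x) :
    IsStd x := by
  classical
  obtain ⟨A, B, hx⟩ := hx
  set p := pel hf (Equiv.swap (0 : Fin 2) 1)
  let ι : Ud F k →ₗ[F] Vt F k 1 := LinearMap.funLeft F F (fun a : Fin 1 → Fin k => a 0)
  let κ : Vt F k 1 →ₗ[F] Ud F k := LinearMap.funLeft F F (fun a (_ : Fin 1) => a)
  have hι : ∀ a, ι a = pvec fun _ => a := fun a => funext fun b => by
    simp [ι, pvec, LinearMap.funLeft_apply]
  have hκ : ∀ w, ι (κ w) = w := fun w => funext fun b => by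
    simp only [ι, κ, LinearMap.funLeft_apply]
    exact congrArg w (funext fun j => by rw [Fin.fin_one_eq_zero j])
  have hp : ∀ a w, (p : Vt F k 2 ≃ₗ[F] Vt F k 2) (Tm 0 a w) = Tm 0 (κ w) (ι a) := fun a w => by
    conv_lhs => rw [← hκ w, hι, Tm_pvec, pel_pvec]
    rw [hι, Tm_pvec]
    congr 1
    funext l
    fin_cases l <;> simp [Equiv.swap_apply_left, Equiv.swap_apply_right] <;> rfl
  have h1 : IsStd (x * p) := isStd_of_tens hf hk hko ⟨B ∘ₗ ι, A ∘ₗ κ, fun a w => by
    rw [Subgroup.coe_mul, LinearEquiv.mul_apply, hp, hx]; rfl⟩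
  have hpp : p * p = 1 := el_ext fun ξ => by
    rw [Subgroup.coe_mul, LinearEquiv.mul_apply, pel_pvec, pel_pvec]
    simp
  have := h1.mul (isStd_pel hf (Equiv.swap (0 : Fin 2) 1))
  rwa [mul_assoc, hpp, mul_one] at this

/-- **An overgroup of the standard elements of `Ω` is `Ω` or consists of standard elements.** -/
theorem dichotomy (hf : SymForm f) (hk : 3 ≤ k) (hko : Odd k) (hq : Nat.card F = 3 → 5 ≤ k) :
    ∀ (t : ℕ) (X : Subgroup (OQ (qT f (t + 1)))), X ≤ commutator (OQ (qT f (t + 1))) →
      (∀ x ∈ commutator (OQ (qT f (t + 1))), IsStd x → x ∈ X) →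
      commutator (OQ (qT f (t + 1))) ≤ X ∨ ∀ x ∈ X, IsStd x := by
  intro t
  induction t with
  | zero => exact fun X _ _ => Or.inr fun x _ => isStd_level_one x
  | succ t ih =>
    intro X hle hbase
    by_cases hp : commutator (OQ (qT f (t + 1 + 1))) ≤ X
    · exact Or.inl hp
    by_cases hkt : k = 3 → 2 ≤ t + 1
    · have B : CtxBase hf X :=
        { k3 := hk, kodd := hko, t1 := by omega, q3 := hq, base := hbase, le := hle, proper := hp, ih := ih }
      have hk4 : k ≠ 4 := fun e => absurd (e ▸ hko) (by decide)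
      have C : Ctx hf X :=
        { B with
          hk := by omega
          hq := fun e => five_le_card hf.two fun h => by have := hq h; omega
          thin := fun e => absurd e hk4
          small := B.small
          tor_pair_mem := B.tor_pair_mem
          comp := fun i P z h1 h2 h3 g _ => exists_comp hf hko B.five i P h1 h2 h3 g
          tens_std := B.tens_std
          refl_mem := fun e => absurd e hk4 }
      exact Or.inr fun x hx => C.all_std hkt hx
    · push_neg at hkt
      obtain ⟨hk3, ht⟩ := hkt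
      obtain rfl : t = 0 := by omega
      have hq3 : Nat.card F ≠ 3 := fun h => by have := hq h; omega
      rcases OrthTensor.Square.square_dichotomy (tensor hf (0 : Fin 2)) (by rw [finrank_fin_fun, hk3])
          (by rw [finrank_Vt, hk3, pow_one]) (small_three hf (by rw [finrank_fin_fun, hk3]) hq3)
          (small_three (symForm_frm hf) (by rw [finrank_Vt, hk3, pow_one]) hq3) (five_le_card hf.two hq3)
          (fun x hx hT => hbase x hx (isStd_of_tens hf hk hko hT)) hle with h | h
      · exact absurd (by rwa [eichGroup_eq_commutator (qT_nd hf) (five_le hf hk le_rfl)] at h) hp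
      · exact Or.inr fun x hx => (h x hx).elim (isStd_of_tens hf hk hko) (isStd_of_sw hf hk hko)

/-- **An element of `Ω` which is not standard.** -/
theorem exists_not_isStd (hf : SymForm f) (hk : 3 ≤ k) (ht : 1 ≤ t) :
    ∃ x ∈ commutator (OQ (qT f (t + 1))), ¬ IsStd x := by
  classical
  set D := tensor hf (0 : Fin (t + 1)) with hD
  obtain ⟨d, -, hd0, hd⟩ := hf.exists_isotropic (P := ⊤) (by rw [finrank_top, finrank_fin_fun]; omega)
  obtain ⟨e, he, hde⟩ := exists_iso_partner hf hd hd0
  obtain ⟨z, hz, hzp⟩ := exists_aniso_perp hf _ (pair_nondeg hf hd he hde)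
    (by rw [finrank_fin_fun]; have := span_pair_le (F := F) d e; omega)
  have hdz : f d z = 0 := hzp d (Submodule.subset_span (Set.mem_insert _ _))
  have hez : f e z = 0 := hzp e (Submodule.subset_span (Set.mem_insert_of_mem _ rfl))
  let j : Fin t := ⟨0, by omega⟩
  set c := ∏ l ∈ Finset.univ.erase j, f z z
  have hc : c ≠ 0 := Finset.prod_ne_zero_iff.2 fun _ _ => hz
  set η : Ud F k → Fin t → Ud F k := fun a => Function.update (fun _ => z) j a
  have hη : ∀ a b, frm f t (pvec (η a)) (pvec (η b)) = f a b * c := fun a b => by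
    rw [frm_pvec, ← Finset.mul_prod_erase _ _ (Finset.mem_univ j)]
    simp only [η, Function.update_self]
    congr 1
    exact Finset.prod_congr rfl fun l hl => by
      rw [Function.update_of_ne (Finset.mem_erase.1 hl).1, Function.update_of_ne (Finset.mem_erase.1 hl).1]
  set y := pvec (η d)
  set p := pvec (η (c⁻¹ • e))
  have hy : frm f t y y = 0 := by rw [hη, hd, zero_mul]
  have hp : frm f t p p = 0 := by rw [hη]; simp [he]
  have hyp : frm f t y p = 1 := by rw [hη, map_smul, smul_eq_mul, hde, mul_one, inv_mul_cancel₀ hc]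
  have h0 : polar (qT f (t + 1)) (Tm 0 d y) (Tm 0 z y) = 0 := by rw [D.polarT, hy, mul_zero]
  have hq : qT f (t + 1) (Tm 0 d y) = 0 := by rw [D.Q_T, hd, zero_mul, zero_div]
  refine ⟨eich D.hQ hq h0, eich_mem_commutator D.hQ (five_le hf hk (by omega)) _ _, fun ⟨π, gs, hπ⟩ => ?_⟩
  obtain ⟨a, r, h⟩ : ∃ a r, (eich D.hQ hq h0 : Vt F k (t + 1) ≃ₗ[F] Vt F k (t + 1)) (Tm 0 e (y + p)) = Tm 0 a r := by
    rw [← pvec_update_add]
    exact ⟨_, _, (congrArg _ (Tm_pvec 0 e _)).trans ((hπ _).trans (pvec_eq_Tm 0 _))⟩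
  have hr : frm f t (y + p) y = 1 := by simp [hy, frm_symm hf y p, hyp]
  rw [eich_apply, D.Q_T z y, hy, mul_zero, zero_div, zero_mul, sub_zero, D.polarT, D.polarT, hr,
    hf.symm d e, hde, hez] at h
  simp only [zero_mul, zero_smul, add_zero, mul_one, neg_smul, one_smul] at h
  have h1 := congrArg (fun v => f d (D.C y v)) h
  have h2 := congrArg (fun v => f z (D.C y v)) h
  have h3 := congrArg (fun v => f z (D.C (y + p) v)) h
  simp only [map_add, map_sub, map_neg, map_smul, LinearMap.add_apply, D.C_T, smul_eq_mul, hde, hdz, hy, hyp, hp,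
    frm_symm hf y p, hf.symm e z, hez, zero_smul, mul_zero, add_zero, zero_add, neg_zero, sub_zero, mul_one,
    one_smul, one_mul] at h1 h2 h3
  have hA : f z a = 0 := (mul_eq_zero.1 h2.symm).resolve_left fun h0 => one_ne_zero (α := F) (by
    rw [h1, h0, zero_mul])
  rw [hA] at h3
  exact hz (by linear_combination -h3)

end CfsgLib.Geo.OrthWreath
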