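/-
From the overgroups in the isometry group of a tensor power to the maximality of the tensor-wreath stabiliser.
-/
import Cfsg.Agent.Lib.Geo.OrthWreath.Mono
import Cfsg.Agent.Lib.Geo.TensorWreath.Basic
import Cfsg.Agent.Lib.Classical.Quad.Matrix

set_option autoImplicit false
set_option linter.unusedSectionVars false

namespace CfsgLib.Geo.OrthWreath

open Matrix CfsgLib.Classical CfsgLib.Classical.Quad Module
open CfsgLib.Geo.MixTensor (SymForm)
open CfsgLib.Geo.TensorWreath (pvec pure_mulVec perm_mulVec)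
open QuadraticMap (polar polarBilin)
open LinearMap (BilinForm)

variable {F : Type*} [Field F] {k t : ℕ}

theorem oEquiv_symm_apply {ι : Type} [Fintype ι] [DecidableEq ι] (Q : QuadraticForm F (ι → F)) (x : OQ Q)
    (v : ι → F) :
    (((oEquiv Q).symm x : Cfsg.isometryGroup F (⇑Q)) : Matrix.GeneralLinearGroup ι F).1 *ᵥ v =
      (x : (ι → F) ≃ₗ[F] (ι → F)) v := by
  rw [← oEquiv_apply, MulEquiv.apply_symm_apply]

theorem mem_omegaGL_iff {ι : Type} [Fintype ι] [DecidableEq ι] (Q : QuadraticForm F (ι → F))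
    (g : Cfsg.isometryGroup F (⇑Q)) :
    (g : Matrix.GeneralLinearGroup ι F) ∈ Cfsg.Geo.omegaGL (⇑Q) ↔ oEquiv Q g ∈ commutator (OQ Q) := by
  have hmap : (commutator ↥(Cfsg.isometryGroup F (⇑Q))).map (oEquiv Q).toMonoidHom = commutator (OQ Q) := by
    rw [commutator_def, commutator_def, Subgroup.map_commutator,
      Subgroup.map_top_of_surjective _ (oEquiv Q).surjective]
  rw [← hmap, Subgroup.mem_map_equiv, MulEquiv.symm_apply_apply]
  exact ⟨fun ⟨g', hg', hgg⟩ => by rw [← Subtype.ext hgg]; exact hg', fun h => ⟨g, h, rfl⟩⟩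

theorem mem_iso_of_mem_omegaGL {ι : Type} [Fintype ι] [DecidableEq ι] {Q : (ι → F) → F}
    {x : Matrix.GeneralLinearGroup ι F} (h : x ∈ Cfsg.Geo.omegaGL Q) : x ∈ Cfsg.isometryGroup F Q := by
  obtain ⟨g, -, rfl⟩ := h
  exact g.2

/-- **The maximality of the tensor-wreath stabiliser, from the overgroups in coordinates.** -/
theorem maximal_of_dichotomy {ι : Type} [Fintype ι] [DecidableEq ι] {Q : QuadraticForm F (ι → F)}
    {f : BilinForm F (Ud F k)} (hf : SymForm f) {f₁ : (Fin k → F) → (Fin k → F) → F} (hff : ∀ u v, f u v = f₁ u v)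
    (e : ι ≃ (Fin t → Fin k)) (P : Matrix.GeneralLinearGroup ι F)
    (hT : Cfsg.Geo.IsTensorPowerFormStructure id (polar ⇑Q) f₁ e P)
    (hnf : ∀ x : OQ (qT f t), IsStd x → ∃ (π : Equiv.Perm (Fin t)) (us : Fin t → Ud F k ≃ₗ[F] Ud F k),
      ∀ ξ, (x : Vt F k t ≃ₗ[F] Vt F k t) (pvec ξ) = pvec fun l => us l (ξ (π⁻¹ l)))
    (hns : ∃ x ∈ commutator (OQ (qT f t)), ¬ IsStd x)
    (hdich : ∀ X : Subgroup (OQ (qT f t)), X ≤ commutator (OQ (qT f t)) →
      (∀ x ∈ commutator (OQ (qT f t)), IsStd x → x ∈ X) → commutator (OQ (qT f t)) ≤ X ∨ ∀ x ∈ X, IsStd x) :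
    Cfsg.Geo.IsMaximalIn (Cfsg.Geo.omegaGL (⇑Q))
      (Cfsg.Geo.tensorWreathSubgroup k t e P ⊓ Cfsg.Geo.omegaGL (⇑Q)) := by
  classical
  obtain ⟨c, hc, hform⟩ := hT
  have h2 := hf.two
  set Qs := qT f t
  have hfrm : ∀ x y, frm f t x y = ∑ a, ∑ b, x a * (∏ i, Cfsg.Geo.gramMatrix f₁ (a i) (b i)) * id (y b) := by
    intro x y
    rw [frm, Matrix.toBilin'_apply]
    refine Finset.sum_congr rfl fun a _ => Finset.sum_congr rfl fun b _ => ?_
    simp [SpinTensor.pure_apply, LinearMap.BilinForm.toMatrix'_apply, Cfsg.Geo.gramMatrix, hff]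
  have hQs : ∀ x, Q ((P : Matrix ι ι F) *ᵥ (x ∘ e)) = c * Qs x := by
    intro x
    have h1 := hform x x
    rw [← hfrm, ← polar_qT hf, polar_self', polar_self'] at h1
    exact mul_left_cancel₀ h2 (by linear_combination h1)
  let Ψ : GL (Fin t → Fin k) F ≃* GL ι F := (Cfsg.Geo.glReindex e.symm).trans (MulAut.conj P)
  have hval : ∀ (x : GL (Fin t → Fin k) F) (u : (Fin t → Fin k) → F),
      ((Ψ x : GL ι F) : Matrix ι ι F) *ᵥ ((P : Matrix ι ι F) *ᵥ (u ∘ e)) =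
      (P : Matrix ι ι F) *ᵥ (((x : Matrix (Fin t → Fin k) (Fin t → Fin k) F) *ᵥ u) ∘ e) := by
    intro x u
    show ((P * Cfsg.Geo.glReindex e.symm x * P⁻¹ : GL ι F) : Matrix ι ι F) *ᵥ _ = _
    rw [Units.val_mul, Units.val_mul, Matrix.mulVec_mulVec, mul_assoc, Units.inv_mul, mul_one, ← Matrix.mulVec_mulVec]
    congr 1
    show ((x : Matrix (Fin t → Fin k) (Fin t → Fin k) F).submatrix e e) *ᵥ (u ∘ e) = _
    rw [Matrix.submatrix_mulVec_equiv]
    simp [Function.comp_assoc]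
  have hsurj : ∀ w : ι → F, ∃ u, w = (P : Matrix ι ι F) *ᵥ (u ∘ e) := by
    intro w
    refine ⟨(((P⁻¹ : GL ι F) : Matrix ι ι F) *ᵥ w) ∘ e.symm, ?_⟩
    rw [Function.comp_assoc, Equiv.symm_comp_self, Function.comp_id, Matrix.mulVec_mulVec, Units.mul_inv,
      Matrix.one_mulVec]
  have hisoG : Cfsg.isometryGroup F (⇑Q) = (Cfsg.isometryGroup F (⇑Qs)).map Ψ.toMonoidHom := by
    ext g
    rw [Subgroup.mem_map_equiv]
    obtain ⟨x, rfl⟩ := Ψ.surjective g
    rw [MulEquiv.symm_apply_apply]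
    constructor
    · intro h u _
      have h1 : Q (((Ψ x : GL ι F) : Matrix ι ι F) *ᵥ ((P : Matrix ι ι F) *ᵥ (u ∘ e))) =
          Q ((P : Matrix ι ι F) *ᵥ (u ∘ e)) :=
        h ((P : Matrix ι ι F) *ᵥ (u ∘ e)) ((P : Matrix ι ι F) *ᵥ (u ∘ e))
      refine mul_left_cancel₀ hc ?_
      show c * Qs ((x : Matrix (Fin t → Fin k) (Fin t → Fin k) F) *ᵥ u) = c * Qs u
      rw [← hQs, ← hQs, ← hval]
      exact h1
    · intro h w _
      obtain ⟨u, rfl⟩ := hsurj w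
      show Q (((Ψ x : GL ι F) : Matrix ι ι F) *ᵥ ((P : Matrix ι ι F) *ᵥ (u ∘ e))) = Q ((P : Matrix ι ι F) *ᵥ (u ∘ e))
      rw [hval, hQs, hQs]
      exact congrArg (c * ·) (h u u)
  have hΩ : ∀ x, Ψ x ∈ Cfsg.Geo.omegaGL (⇑Q) ↔ x ∈ Cfsg.Geo.omegaGL (⇑Qs) := by
    intro x
    have h1 : Cfsg.Geo.omegaGL (⇑Q) = (Cfsg.Geo.omegaGL (⇑Qs)).map Ψ.toMonoidHom := by
      rw [Cfsg.Geo.omegaGL, Cfsg.Geo.omegaGL, Subgroup.map_subtype_commutator, Subgroup.map_subtype_commutator,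
        hisoG, ← Subgroup.map_commutator]
    rw [h1, Subgroup.mem_map_equiv, MulEquiv.symm_apply_apply]
  let e' := oEquiv Qs
  have hstd : ∀ g : Cfsg.isometryGroup F (⇑Qs),
      Ψ (g : GL (Fin t → Fin k) F) ∈ Cfsg.Geo.tensorWreathSubgroup k t e P ↔ IsStd (e' g) := by
    intro g
    have hK : Cfsg.Geo.tensorWreathSubgroup k t e P =
        (Cfsg.Geo.tensorWreathStandard k t F).map Ψ.toMonoidHom := by
      rw [Cfsg.Geo.tensorWreathSubgroup, Subgroup.map_map]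
      rfl
    rw [hK, Subgroup.mem_map_equiv, MulEquiv.symm_apply_apply, TensorWreath.mem_std_iff]
    constructor
    · rintro ⟨gs, π, hg⟩
      refine ⟨π, fun l => Matrix.toLin' (gs l : Matrix (Fin k) (Fin k) F), fun ξ => ?_⟩
      rw [oEquiv_apply, hg, ← Matrix.mulVec_mulVec, perm_mulVec, pure_mulVec]
      rfl
    · intro h
      obtain ⟨π, us, hu⟩ := hnf _ h
      let gs : Fin t → GL (Fin k) F := fun l =>
        ⟨LinearMap.toMatrix' (us l : Ud F k →ₗ[F] Ud F k), LinearMap.toMatrix' ((us l).symm : Ud F k →ₗ[F] Ud F k),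
          by rw [← LinearMap.toMatrix'_comp, LinearEquiv.comp_coe, LinearEquiv.symm_trans_self]
             exact LinearMap.toMatrix'_id,
          by rw [← LinearMap.toMatrix'_comp, LinearEquiv.comp_coe, LinearEquiv.self_trans_symm]
             exact LinearMap.toMatrix'_id⟩
      refine ⟨gs, π, Matrix.toLin'.injective (pvec_ext fun ξ => ?_)⟩
      have h1 := hu ξ
      rw [oEquiv_apply] at h1
      rw [Matrix.toLin'_apply, Matrix.toLin'_apply, h1, ← Matrix.mulVec_mulVec, perm_mulVec, pure_mulVec]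
      congr 1
      funext l
      exact (LinearMap.toMatrix'_mulVec _ _).symm
  refine ⟨lt_of_le_of_ne inf_le_right fun heq => ?_, fun M hHM hMK => ?_⟩
  · obtain ⟨x, hx, hxs⟩ := hns
    have h := (mem_omegaGL_iff Qs (e'.symm x)).2 (by rwa [MulEquiv.apply_symm_apply])
    have h' := heq.ge ((hΩ _).2 h)
    have h3 := (hstd _).1 h'.1
    rw [MulEquiv.apply_symm_apply] at h3
    exact hxs h3
  set X : Subgroup (OQ Qs) := ((M.comap Ψ.toMonoidHom).subgroupOf (Cfsg.isometryGroup F (⇑Qs))).map e'.toMonoidHom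
  have hmX : ∀ g : Cfsg.isometryGroup F (⇑Qs), e' g ∈ X ↔ Ψ (g : GL (Fin t → Fin k) F) ∈ M := fun g => by
    rw [Subgroup.mem_map_equiv, MulEquiv.symm_apply_apply, Subgroup.mem_subgroupOf, Subgroup.mem_comap]
    rfl
  have hXle : X ≤ commutator (OQ Qs) := fun x hx => by
    obtain ⟨g, rfl⟩ := e'.surjective x
    exact (mem_omegaGL_iff Qs g).1 ((hΩ _).1 (hMK ((hmX g).1 hx)))
  have hbase : ∀ x ∈ commutator (OQ Qs), IsStd x → x ∈ X := fun x hx hs => by
    obtain ⟨g, rfl⟩ := e'.surjective x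
    exact (hmX g).2 (hHM ⟨(hstd g).2 hs, (hΩ _).2 ((mem_omegaGL_iff Qs g).2 hx)⟩)
  rcases hdich X hXle hbase with h | h
  · refine Or.inr (le_antisymm hMK fun y hy => ?_)
    obtain ⟨x, rfl⟩ := Ψ.surjective y
    have hx := (hΩ x).1 hy
    exact (hmX ⟨x, mem_iso_of_mem_omegaGL hx⟩).1 (h ((mem_omegaGL_iff Qs ⟨x, _⟩).1 hx))
  · refine Or.inl (le_antisymm (le_inf (fun y hy => ?_) hMK) hHM)
    obtain ⟨x, rfl⟩ := Ψ.surjective y
    have hx := mem_iso_of_mem_omegaGL ((hΩ x).1 (hMK hy))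
    exact (hstd ⟨x, hx⟩).2 (h _ ((hmX ⟨x, hx⟩).2 hy))

end CfsgLib.Geo.OrthWreath
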